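import Cfsg.Agent.Lib.Lie.OreSu.Poly
import Cfsg.Agent.Lib.GLClass.CommTri

/-!
Matrices `M` with `A * M * P = P * A` for some `A` killed by a polynomial coprime to its dual, with
prescribed classes of the determinants of `A` and `P`.
-/

set_option autoImplicit false
set_option linter.unusedSectionVars false

namespace CfsgLib.OreSu

open CfsgLib.SU Polynomial Matrix
open CfsgLib.GLClass CfsgLib.GLClass.CommSL
open CfsgLib.Perm.Elusive.HermIso (dualPoly)

variable {F : Type*} [Field F] {q : ℕ} (C : UCtx F q)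
variable {ι κ : Type*} [Fintype ι] [DecidableEq ι] [Fintype κ] [DecidableEq κ]

theorem sim_charpoly {M : Matrix ι ι F} {N : Matrix κ κ F} (h : Sim M N) : M.charpoly = N.charpoly := by
  have hc : Fintype.card ι = Fintype.card κ := by
    obtain ⟨U, V, h1, h2, -⟩ := h
    let e : (ι → F) ≃ₗ[F] (κ → F) := LinearEquiv.ofLinear (Matrix.toLin' V) (Matrix.toLin' U)
      (by rw [← Matrix.toLin'_mul, h2, Matrix.toLin'_one]) (by rw [← Matrix.toLin'_mul, h1, Matrix.toLin'_one])
    have h := e.finrank_eq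
    rwa [Module.finrank_pi, Module.finrank_pi] at h
  let e := Fintype.equivOfCardEq hc.symm
  obtain ⟨c, hc'⟩ := isConj_of_sim (h.trans (sim_reindex e N).symm)
  rw [← Matrix.charpoly_reindex e N, ← Matrix.charpoly_units_conj c M, hc'.eq, Matrix.mul_assoc,
    ← Matrix.coe_units_inv, Units.mul_inv, Matrix.mul_one]

section Omega

variable [Fintype F] (hF : Fintype.card F = q ^ 2)

open scoped _root_.Classical in
/-- the chosen quadratic -/
noncomputable def atom2 (t : F) : F[X] :=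
  if h : ∃ g : F[X], Atom C g ∧ g.natDegree = 2 ∧ psi C (g.coeff 0) = t then h.choose else 1

open scoped _root_.Classical in
/-- the chosen cubic -/
noncomputable def atom3 (t : F) : F[X] :=
  if h : ∃ g : F[X], Atom C g ∧ g.natDegree = 3 ∧ psi C (g.coeff 0) = t then h.choose else 1

open scoped _root_.Classical in
/-- the elements of norm one -/
noncomputable def normOnes : Finset F := Finset.univ.filter fun t => t * C.bar t = 1

/-- the common polynomial -/
noncomputable def Omega : F[X] := ∏ t ∈ normOnes C, atom2 C t * atom3 C t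

include hF

theorem atom2_spec {t : F} (ht : t * C.bar t = 1) :
    Atom C (atom2 C t) ∧ (atom2 C t).natDegree = 2 ∧ psi C ((atom2 C t).coeff 0) = t := by
  rw [atom2, dif_pos (exists_atom_two C hF ht)]
  exact (exists_atom_two C hF ht).choose_spec

theorem atom3_spec {t : F} (ht : t * C.bar t = 1) :
    Atom C (atom3 C t) ∧ (atom3 C t).natDegree = 3 ∧ psi C ((atom3 C t).coeff 0) = t := by
  rw [atom3, dif_pos (exists_atom_three C hF ht)]
  exact (exists_atom_three C hF ht).choose_spec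

theorem mem_normOnes {t : F} : t ∈ normOnes C ↔ t * C.bar t = 1 := by
  simp [normOnes]

theorem safe_omega : Safe C (Omega C) := by
  rw [Safe, Omega, dualPoly_prod]
  refine IsCoprime.prod_left fun t ht => IsCoprime.prod_right fun s hs => ?_
  rw [mem_normOnes C hF] at ht hs
  obtain ⟨ht2, dt2, ct2⟩ := atom2_spec C hF ht
  obtain ⟨ht3, dt3, ct3⟩ := atom3_spec C hF ht
  obtain ⟨hs2, ds2, cs2⟩ := atom2_spec C hF hs
  obtain ⟨hs3, ds3, cs3⟩ := atom3_spec C hF hs
  rw [dualPoly_mul]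
  refine IsCoprime.mul_left (IsCoprime.mul_right ?_ ?_) (IsCoprime.mul_right ?_ ?_)
  · exact atom_coprime C ht2 hs2 fun _ e => by rw [ct2, cs2] at e; rw [e]
  · exact atom_coprime C ht2 hs3 fun e _ => by omega
  · exact atom_coprime C ht3 hs2 fun e _ => by omega
  · exact atom_coprime C ht3 hs3 fun _ e => by rw [ct3, cs3] at e; rw [e]

theorem atom2_dvd {t : F} (ht : t * C.bar t = 1) : atom2 C t ∣ Omega C :=
  (dvd_mul_right _ _).trans (Finset.dvd_prod_of_mem (fun t => atom2 C t * atom3 C t) ((mem_normOnes C hF).2 ht))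

theorem atom3_dvd {t : F} (ht : t * C.bar t = 1) : atom3 C t ∣ Omega C :=
  (dvd_mul_left _ _).trans (Finset.dvd_prod_of_mem (fun t => atom2 C t * atom3 C t) ((mem_normOnes C hF).2 ht))

theorem exists_order_gt_two : ∃ t : F, t * C.bar t = 1 ∧ t ≠ t⁻¹ := by
  obtain ⟨θ, hθ⟩ := C.exists_not_fixed
  have hθ0 : θ ≠ 0 := fun e => hθ (by rw [e, map_zero])
  have key : ∀ x : F, x ≠ 0 → psi C x = (psi C x)⁻¹ → C.bar x = x ∨ C.bar x = -x := by
    intro x hx h
    have h2 : psi C x * psi C x = 1 := by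
      nth_rewrite 2 [h]
      exact mul_inv_cancel₀ (div_ne_zero hx (bar_ne C hx))
    rw [psi, div_mul_div_comm, div_eq_one_iff_eq (mul_ne_zero (bar_ne C hx) (bar_ne C hx))] at h2
    exact mul_self_eq_mul_self_iff.1 h2.symm
  by_contra hall
  simp only [not_exists, not_and, not_not] at hall
  have h1 := key θ hθ0 (hall _ (psi_norm C hθ0))
  have hθ1 : θ + 1 ≠ 0 := fun e => hθ (by rw [eq_neg_of_add_eq_zero_left e, map_neg, map_one])
  have h2 := key (θ + 1) hθ1 (hall _ (psi_norm C hθ1))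
  rw [map_add, map_one] at h2
  rcases h1 with h1 | h1
  · exact hθ h1
  rcases h2 with h2 | h2
  · exact hθ (by linear_combination h2)
  · have h3 : (1 : F) + 1 = 0 := by linear_combination h2 - h1
    apply hθ
    rw [h1]
    linear_combination -θ * h3

/-- a polynomial of given degree and class with a simple irreducible factor -/
theorem exists_shape (s : ℕ) (hs : 2 ≤ s) {τ : F} (hτ : τ * C.bar τ = 1) :
    ∃ (f r : F[X]), f.Monic ∧ Irreducible f ∧ r.Monic ∧ IsCoprime f r ∧ f.natDegree + r.natDegree = s ∧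
      psi C ((f * r).coeff 0) = τ ∧ (f * r).coeff 0 ≠ 0 ∧ ∃ N, f * r ∣ Omega C ^ N := by
  have h1 : (1 : F) * C.bar 1 = 1 := by rw [map_one, mul_one]
  obtain ⟨hp, dp, cp⟩ := atom2_spec C hF h1
  have hdp := atom2_dvd C hF h1
  have hne : ∀ {f g : F[X]}, Atom C f → Atom C g → f ≠ g → IsCoprime f g := fun {f g} hf hg hfg =>
    hf.2.1.coprime_iff_not_dvd.2 fun hd => hfg (eq_of_monic_of_associated hf.1 hg.1
      (hf.2.1.associated_of_dvd hg.2.1 hd))
  rcases Nat.even_or_odd s with ⟨a, ha⟩ | ⟨a, ha⟩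
  · by_cases h2 : a = 1
    · obtain ⟨hg, dg, cg⟩ := atom2_spec C hF hτ
      exact ⟨atom2 C τ, 1, hg.1, hg.2.1, monic_one, isCoprime_one_right, by rw [dg, natDegree_one]; omega,
        by rw [mul_one]; exact cg, by rw [mul_one]; exact hg.2.2.1, 1, by
          rw [mul_one, pow_one]; exact atom2_dvd C hF hτ⟩
    obtain ⟨u, w, hu, hw, huw, hne'⟩ : ∃ u w : F, u * C.bar u = 1 ∧ w * C.bar w = 1 ∧ u * w = τ ∧ u ≠ w := by
      by_cases hτ1 : τ = 1
      · obtain ⟨t, ht, htne⟩ := exists_order_gt_two C hF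
        exact ⟨t, t⁻¹, ht, norm_inv C ht, by rw [hτ1]; exact mul_inv_cancel₀ (norm_one_ne C ht), htne⟩
      · exact ⟨τ, 1, hτ, h1, mul_one τ, hτ1⟩
    by_cases h4 : a = 2
    · obtain ⟨hf, df, cf⟩ := atom2_spec C hF hu
      obtain ⟨hg, dg, cg⟩ := atom2_spec C hF hw
      refine ⟨atom2 C u, atom2 C w, hf.1, hf.2.1, hg.1, hne hf hg fun e => hne' (by rw [← cf, ← cg, e]),
        by omega, ?_, ?_, 2, ?_⟩
      · rw [mul_coeff_zero, psi_mul, cf, cg, huw]
      · rw [mul_coeff_zero]; exact mul_ne_zero hf.2.2.1 hg.2.2.1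
      · rw [pow_two]; exact mul_dvd_mul (atom2_dvd C hF hu) (atom2_dvd C hF hw)
    · obtain ⟨hf, df, cf⟩ := atom3_spec C hF hu
      obtain ⟨hg, dg, cg⟩ := atom3_spec C hF hw
      refine ⟨atom3 C u, atom3 C w * atom2 C 1 ^ (a - 3), hf.1, hf.2.1, hg.1.mul (hp.1.pow _),
        IsCoprime.mul_right (hne hf hg fun e => hne' (by rw [← cf, ← cg, e]))
          (IsCoprime.pow_right (hne hf hp fun e => by rw [e] at df; omega)), ?_, ?_, ?_, a, ?_⟩
      · rw [natDegree_mul hg.1.ne_zero (pow_ne_zero _ hp.1.ne_zero), natDegree_pow, df, dg, dp]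
        omega
      · rw [mul_coeff_zero, mul_coeff_zero, psi_mul, psi_mul, cf, cg, coeff_zero_eq_eval_zero (atom2 C 1 ^ _),
          eval_pow, ← coeff_zero_eq_eval_zero, ← Finset.prod_const_one (s := Finset.range (a - 3))]
        rw [← Finset.card_range (a - 3), ← Finset.prod_const, psi_prod]
        simp [cp, huw]
      · rw [mul_coeff_zero, mul_coeff_zero, coeff_zero_eq_eval_zero (atom2 C 1 ^ _), eval_pow,
          ← coeff_zero_eq_eval_zero]
        exact mul_ne_zero hf.2.2.1 (mul_ne_zero hg.2.2.1 (pow_ne_zero _ hp.2.2.1))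
      · refine (mul_dvd_mul (atom3_dvd C hF hu) (mul_dvd_mul (atom3_dvd C hF hw) (pow_dvd_pow_of_dvd hdp _))).trans ?_
        rw [← pow_succ', ← pow_succ']
        exact pow_dvd_pow _ (by omega)
  · obtain ⟨hf, df, cf⟩ := atom3_spec C hF hτ
    refine ⟨atom3 C τ, atom2 C 1 ^ (a - 1), hf.1, hf.2.1, hp.1.pow _,
      IsCoprime.pow_right (hne hf hp fun e => by rw [e] at df; omega), ?_, ?_, ?_, a, ?_⟩
    · rw [natDegree_pow, df, dp]; omega
    · rw [mul_coeff_zero, psi_mul, cf, coeff_zero_eq_eval_zero (atom2 C 1 ^ _), eval_pow,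
        ← coeff_zero_eq_eval_zero, ← Finset.card_range (a - 1), ← Finset.prod_const, psi_prod]
      simp [cp]
    · rw [mul_coeff_zero, coeff_zero_eq_eval_zero (atom2 C 1 ^ _), eval_pow, ← coeff_zero_eq_eval_zero]
      exact mul_ne_zero hf.2.2.1 (pow_ne_zero _ hp.2.2.1)
    · refine (mul_dvd_mul (atom3_dvd C hF hτ) (pow_dvd_pow_of_dvd hdp _)).trans ?_
      rw [← pow_succ']
      exact pow_dvd_pow _ (by omega)

/-- a companion matrix in every class with centraliser meeting every class -/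
theorem exists_gen (s : ℕ) (hs : 2 ≤ s) {τ : F} (hτ : τ * C.bar τ = 1) :
    ∃ g : F[X], g.Monic ∧ g.natDegree = s ∧ g.coeff 0 ≠ 0 ∧ psi C (CommSL.comp g).det = τ ∧
      (∃ N, aeval (CommSL.comp g) (Omega C ^ N) = 0) ∧
      ∀ σ : F, σ * C.bar σ = 1 →
        ∃ R : Matrix (Fin g.natDegree) (Fin g.natDegree) F, R.det ≠ 0 ∧ Commute R (CommSL.comp g) ∧ psi C R.det = σ := by
  classical
  obtain ⟨f, r, hf, hfi, hr, hco, hd, hc, hc0, N, hN⟩ := exists_shape C hF s hs hτ
  have hm := hf.mul hr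
  have hdeg : (f * r).natDegree = s := by rw [natDegree_mul hf.ne_zero hr.ne_zero, hd]
  refine ⟨f * r, hm, hdeg, hc0, ?_, ⟨N, ?_⟩, fun σ hσ => ?_⟩
  · have hfx : psi C ((-1 : F) ^ (f * r).natDegree) = 1 :=
      psi_fixed C (by rw [map_pow, map_neg, map_one]) (pow_ne_zero _ (neg_ne_zero.2 one_ne_zero))
    rw [det_comp hm, psi_mul, hfx, hc, one_mul]
  · obtain ⟨w, hw⟩ := hN
    rw [hw, map_mul]
    have h0 := Matrix.aeval_self_charpoly (CommSL.comp (f * r))
    rw [charpoly_comp hm] at h0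
    rw [h0, zero_mul]
  haveI : Fact (Irreducible f) := ⟨hfi⟩
  haveI : Module.Finite F (AdjoinRoot f) := hf.finite_adjoinRoot
  haveI : Finite (AdjoinRoot f) := Module.finite_of_finite F
  obtain ⟨x, hx0, hx⟩ := exists_psi C hσ
  obtain ⟨y, hy⟩ := FiniteField.norm_surjective F (AdjoinRoot f) x
  let b := (AdjoinRoot.powerBasis hf.ne_zero).basis
  obtain ⟨Y, hY⟩ : ∃ Y : Matrix (Fin f.natDegree) (Fin f.natDegree) F, Y = Algebra.leftMulMatrix b y :=
    ⟨_, rfl⟩
  have hYd : Y.det = x := by rw [hY]; exact (Algebra.norm_eq_matrix_det b y).symm.trans hy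
  have hYc : Commute Y (CommSL.comp f) := by
    rw [hY, comp_eq_leftMul hf]
    exact (Commute.all y _).map (Algebra.leftMulMatrix b)
  obtain ⟨U, V, h1, h2, h3⟩ := (cyc_comp hm).sim (cyc_blocks hco (cyc_comp hf) (cyc_comp hr))
  obtain ⟨Z, hZ⟩ : ∃ Z : Matrix (Fin f.natDegree ⊕ Fin r.natDegree) (Fin f.natDegree ⊕ Fin r.natDegree) F,
      Z = fromBlocks Y 0 0 1 := ⟨_, rfl⟩
  refine ⟨U * Z * V, ?_, ?_, ?_⟩
  · rw [Matrix.det_conj_of_mul_eq_one h1 h2, hZ, det_fromBlocks_zero₁₂, det_one, mul_one, hYd]; exact hx0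
  · show _ * _ = _ * _
    rw [h3]
    calc U * Z * V * (U * fromBlocks (CommSL.comp f) 0 0 (CommSL.comp r) * V)
        = U * (Z * ((V * U) * fromBlocks (CommSL.comp f) 0 0 (CommSL.comp r))) * V := by
          simp only [Matrix.mul_assoc]
      _ = U * (fromBlocks (CommSL.comp f) 0 0 (CommSL.comp r) * ((V * U) * Z)) * V := by
          rw [h2, hZ, Matrix.one_mul, Matrix.one_mul, fromBlocks_multiply, fromBlocks_multiply]
          simp [hYc.eq]
      _ = _ := by simp only [Matrix.mul_assoc]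
  · rw [Matrix.det_conj_of_mul_eq_one h1 h2, hZ, det_fromBlocks_zero₁₂, det_one, mul_one, hYd, hx]

end Omega

/-- `M` is `A⁻¹ P A P⁻¹` with `A` killed by a power of the common polynomial, in all classes -/
def KK [Fintype F] (M : Matrix ι ι F) : Prop :=
  ∀ τ σ : F, τ * C.bar τ = 1 → σ * C.bar σ = 1 → ∃ (A P : Matrix ι ι F) (N : ℕ),
    A.det ≠ 0 ∧ P.det ≠ 0 ∧ aeval A (Omega C ^ N) = 0 ∧ psi C A.det = τ ∧ psi C P.det = σ ∧
    A * M * P = P * A

theorem aeval_blocks (M : Matrix ι ι F) (N : Matrix κ κ F) (p : F[X]) :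
    aeval (fromBlocks M 0 0 N) p = fromBlocks (aeval M p) 0 0 (aeval N p) := by
  induction p using Polynomial.induction_on with
  | C a => simp [Algebra.algebraMap_eq_smul_one, ← fromBlocks_one, fromBlocks_smul]
  | add p q hp hq => simp [hp, hq, fromBlocks_add]
  | monomial k a ih =>
    rw [pow_succ, ← mul_assoc, map_mul (aeval (fromBlocks M 0 0 N)), map_mul (aeval M) (Polynomial.C a * X ^ k),
      map_mul (aeval N) (Polynomial.C a * X ^ k), aeval_X, aeval_X, aeval_X, ih, fromBlocks_multiply]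
    simp

variable {C}

theorem KK.sim [Fintype F] {M : Matrix ι ι F} {M' : Matrix κ κ F} (h : Sim M M') (hK : KK C M') : KK C M := by
  intro τ σ hτ hσ
  obtain ⟨A, P, N, hA, hP, hN, hAτ, hPσ, h'⟩ := hK τ σ hτ hσ
  obtain ⟨U, V, h1, h2, rfl⟩ := h
  refine ⟨U * A * V, U * P * V, N, ?_, ?_, ?_, ?_, ?_, ?_⟩
  · rwa [Matrix.det_conj_of_mul_eq_one h1 h2]
  · rwa [Matrix.det_conj_of_mul_eq_one h1 h2]
  · rw [Sim.aeval h1 h2, hN, Matrix.mul_zero, Matrix.zero_mul]
  · rwa [Matrix.det_conj_of_mul_eq_one h1 h2]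
  · rwa [Matrix.det_conj_of_mul_eq_one h1 h2]
  · calc U * A * V * (U * M' * V) * (U * P * V) = U * (A * ((V * U) * M') * ((V * U) * P)) * V := by
          simp only [Matrix.mul_assoc]
      _ = U * (P * ((V * U) * A)) * V := by rw [h2, Matrix.one_mul, Matrix.one_mul, Matrix.one_mul, h']
      _ = _ := by simp only [Matrix.mul_assoc]

theorem KK.blocks [Fintype F] {M : Matrix ι ι F} {M' : Matrix κ κ F} (h : KK C M) (h' : KK C M') :
    KK C (fromBlocks M 0 0 M') := by
  intro τ σ hτ hσ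
  have h1 : (1 : F) * C.bar 1 = 1 := by rw [map_one, mul_one]
  obtain ⟨A, P, N, hA, hP, hN, hAτ, hPσ, he⟩ := h τ σ hτ hσ
  obtain ⟨A', P', N', hA', hP', hN', hAτ', hPσ', he'⟩ := h' 1 1 h1 h1
  refine ⟨fromBlocks A 0 0 A', fromBlocks P 0 0 P', N + N', ?_, ?_, ?_, ?_, ?_, ?_⟩
  · rw [det_fromBlocks_zero₁₂]; exact mul_ne_zero hA hA'
  · rw [det_fromBlocks_zero₁₂]; exact mul_ne_zero hP hP'
  · rw [aeval_blocks, pow_add, map_mul, map_mul, hN, hN', zero_mul, mul_zero, fromBlocks_zero]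
  · rw [det_fromBlocks_zero₁₂, psi_mul, hAτ, hAτ', mul_one]
  · rw [det_fromBlocks_zero₁₂, psi_mul, hPσ, hPσ', mul_one]
  · simp [fromBlocks_multiply, he, he']

variable (C) [Fintype F] (hF : Fintype.card F = q ^ 2)
include hF

theorem kk_one (hs : 2 ≤ Fintype.card ι) : KK C (1 : Matrix ι ι F) := by
  intro τ σ hτ hσ
  obtain ⟨g, hg, hd, hg0, hgτ, ⟨N, hN⟩, hR⟩ := exists_gen C hF (Fintype.card ι) hs hτ
  obtain ⟨R, hRd, hRc, hRσ⟩ := hR σ hσ
  let e : Fin g.natDegree ≃ ι := Fintype.equivOfCardEq (by rw [Fintype.card_fin, hd])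
  have hdet : (CommSL.comp g).det ≠ 0 := by
    rw [det_comp hg]; exact mul_ne_zero (pow_ne_zero _ (neg_ne_zero.2 one_ne_zero)) hg0
  refine ⟨Matrix.reindexAlgEquiv F F e (CommSL.comp g), Matrix.reindexAlgEquiv F F e R, N, ?_, ?_, ?_, ?_, ?_, ?_⟩
  · rwa [Matrix.det_reindexAlgEquiv]
  · rwa [Matrix.det_reindexAlgEquiv]
  · rw [aeval_algHom_apply, hN, map_zero]
  · rwa [Matrix.det_reindexAlgEquiv]
  · rwa [Matrix.det_reindexAlgEquiv]
  · rw [mul_one, ← map_mul, ← map_mul, hRc.eq]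

omit [Fintype F] hF in
theorem exists_block {M : Matrix ι ι F} {μ : F} (hμ : M.charpoly.IsRoot μ) :
    ∃ (r : ℕ) (M' : Matrix (Fin r) (Fin r) F) (u : Matrix (Fin r) (Fin 1) F),
      Sim M (fromBlocks M' u 0 (μ • (1 : Matrix (Fin 1) (Fin 1) F))) := by
  classical
  have h1 : Mᵀ.charpoly.IsRoot μ := by rwa [Matrix.charpoly_transpose]
  rw [IsRoot.def, Matrix.eval_charpoly] at h1
  obtain ⟨w, hw0, hw⟩ := Matrix.exists_mulVec_eq_zero_iff.2 h1
  rw [Matrix.sub_mulVec, sub_eq_zero, Matrix.scalar_apply] at hw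
  have hwM : ∀ x, w ⬝ᵥ (M *ᵥ x) = μ * (w ⬝ᵥ x) := by
    intro x
    rw [Matrix.dotProduct_mulVec, ← Matrix.mulVec_transpose, ← hw, ← smul_one_eq_diagonal,
      Matrix.smul_mulVec, Matrix.one_mulVec, smul_dotProduct, smul_eq_mul]
  let φ : (ι → F) →ₗ[F] F :=
    { toFun := fun x => w ⬝ᵥ x
      map_add' := fun x y => dotProduct_add _ _ _
      map_smul' := fun c x => dotProduct_smul _ _ _ }
  obtain ⟨v, hv⟩ : ∃ v, w ⬝ᵥ v = 1 := by
    obtain ⟨i, hi⟩ := Function.ne_iff.1 hw0
    exact ⟨Pi.single i (w i)⁻¹, by rw [dotProduct_single]; exact mul_inv_cancel₀ hi⟩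
  let b := Module.finBasis F (LinearMap.ker φ)
  set r := Module.finrank F (LinearMap.ker φ)
  let Ψ : (Fin r ⊕ Fin 1 → F) →ₗ[F] (ι → F) :=
    { toFun := fun c => ((b.equivFun.symm (c ∘ Sum.inl) : LinearMap.ker φ) : ι → F) + c (Sum.inr 0) • v
      map_add' := fun c c' => by
        rw [show (c + c') ∘ Sum.inl = c ∘ Sum.inl + c' ∘ Sum.inl from rfl, map_add, Submodule.coe_add,
          Pi.add_apply, add_smul]
        abel
      map_smul' := fun a c => by
        rw [show (a • c) ∘ Sum.inl = a • (c ∘ Sum.inl) from rfl, map_smul, Submodule.coe_smul,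
          Pi.smul_apply, smul_eq_mul, mul_smul, RingHom.id_apply, smul_add] }
  have hφb : ∀ y : LinearMap.ker φ, w ⬝ᵥ (y : ι → F) = 0 := fun y => LinearMap.mem_ker.1 y.2
  have hinj : Function.Injective Ψ := by
    refine (injective_iff_map_eq_zero Ψ).2 fun c hc => ?_
    have hc' : ((b.equivFun.symm (c ∘ Sum.inl) : LinearMap.ker φ) : ι → F) + c (Sum.inr 0) • v = 0 := hc
    have h2 := congrArg (w ⬝ᵥ ·) hc'
    simp only [dotProduct_add, dotProduct_smul, hφb, hv, smul_eq_mul, mul_one, zero_add, dotProduct_zero] at h2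
    rw [h2, zero_smul, add_zero, Submodule.coe_eq_zero, LinearEquiv.map_eq_zero_iff] at hc'
    funext x
    rcases x with i | i
    · exact congrFun hc' i
    · rw [Fin.fin_one_eq_zero i]; exact h2
  have hsurj : Function.Surjective Ψ := by
    intro x
    have hk : x - (w ⬝ᵥ x) • v ∈ LinearMap.ker φ := by
      show w ⬝ᵥ (x - (w ⬝ᵥ x) • v) = 0
      rw [dotProduct_sub, dotProduct_smul, hv, smul_eq_mul, mul_one, sub_self]
    refine ⟨Sum.elim (b.equivFun ⟨_, hk⟩) fun _ => w ⬝ᵥ x, ?_⟩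
    show ((b.equivFun.symm (b.equivFun ⟨_, hk⟩) : LinearMap.ker φ) : ι → F) + (w ⬝ᵥ x) • v = x
    rw [b.equivFun.symm_apply_apply]
    exact sub_add_cancel x _
  let e := LinearEquiv.ofBijective Ψ ⟨hinj, hsurj⟩
  let h : Matrix (Fin r ⊕ Fin 1) (Fin r ⊕ Fin 1) F :=
    LinearMap.toMatrix' ((e.symm.toLinearMap.comp (Matrix.toLin' M)).comp e.toLinearMap)
  have hh : ∀ c, e (h *ᵥ c) = M *ᵥ e c := fun c => by
    simp only [h, LinearMap.toMatrix'_mulVec, LinearMap.comp_apply, LinearEquiv.coe_coe,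
      LinearEquiv.apply_symm_apply, Matrix.toLin'_apply]
  have hlast : ∀ c, (h *ᵥ c) (Sum.inr 0) = μ * c (Sum.inr 0) := by
    intro c
    have e1 : ∀ d, w ⬝ᵥ e d = d (Sum.inr 0) := fun d => by
      show w ⬝ᵥ (((b.equivFun.symm (d ∘ Sum.inl) : LinearMap.ker φ) : ι → F) + d (Sum.inr 0) • v) = _
      rw [dotProduct_add, dotProduct_smul, hφb, hv, smul_eq_mul, mul_one, zero_add]
    rw [← e1 (h *ᵥ c), hh, hwM, e1]
  refine ⟨r, h.toBlocks₁₁, h.toBlocks₁₂, (sim_of_equiv e fun c => (hh c).symm).trans ?_⟩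
  have e2 : h = fromBlocks h.toBlocks₁₁ h.toBlocks₁₂ 0 (μ • (1 : Matrix (Fin 1) (Fin 1) F)) := by
    conv_lhs => rw [← fromBlocks_toBlocks h]
    congr 1
    · ext i j
      have := hlast (Pi.single (Sum.inl j) 1)
      rw [Matrix.mulVec_single_one, Matrix.col_apply, Pi.single_apply, if_neg (by simp), mul_zero] at this
      rw [Fin.fin_one_eq_zero i]
      exact this
    · ext i j
      have := hlast (Pi.single (Sum.inr 0) 1)
      rw [Matrix.mulVec_single_one, Matrix.col_apply, Pi.single_eq_same, mul_one] at this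
      rw [Fin.fin_one_eq_zero i, Fin.fin_one_eq_zero j]
      simp only [Matrix.smul_apply, Matrix.one_apply_eq, smul_eq_mul, mul_one]
      exact this
  rw [← e2]
  exact Sim.refl _

omit [Fintype F] hF in
/-- split matrices are similar to upper triangular ones -/
theorem exists_upper : ∀ (n : ℕ) (M : Matrix (Fin n) (Fin n) F), M.charpoly.Splits →
    ∃ T : Matrix (Fin n) (Fin n) F, Sim M T ∧ ∀ i j, j < i → T i j = 0 := by
  intro n
  induction n with
  | zero => exact fun M _ => ⟨M, Sim.refl _, fun i => i.elim0⟩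
  | succ n ih =>
    intro M hM
    obtain ⟨μ, hμ⟩ := hM.exists_eval_eq_zero (by
      rw [Matrix.charpoly_degree_eq_dim, Fintype.card_fin]; exact_mod_cast Nat.succ_ne_zero n)
    obtain ⟨r, M', u, hs⟩ := exists_block hμ
    have hch := sim_charpoly hs
    rw [Matrix.charpoly_fromBlocks_zero₂₁] at hch
    have hr : r = n := by
      have := congrArg natDegree hch
      rw [natDegree_mul (M'.charpoly_monic.ne_zero) (Matrix.charpoly_monic _).ne_zero,
        Matrix.charpoly_natDegree_eq_dim, Matrix.charpoly_natDegree_eq_dim,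
        Matrix.charpoly_natDegree_eq_dim, Fintype.card_fin, Fintype.card_fin, Fintype.card_fin] at this
      omega
    subst hr
    obtain ⟨T, hT, hup⟩ := ih M' (hM.of_dvd M.charpoly_monic.ne_zero ⟨_, hch⟩)
    obtain ⟨U, V, h1, h2, h3⟩ := hT
    have hs2 : Sim (fromBlocks M' u 0 (μ • (1 : Matrix (Fin 1) (Fin 1) F)))
        (fromBlocks T (V * u) 0 (μ • (1 : Matrix (Fin 1) (Fin 1) F))) :=
      ⟨fromBlocks U 0 0 1, fromBlocks V 0 0 1, by simp [fromBlocks_multiply, h1, fromBlocks_one],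
        by simp [fromBlocks_multiply, h2, fromBlocks_one],
        by simp [fromBlocks_multiply, h3, ← Matrix.mul_assoc, h1]⟩
    refine ⟨Matrix.reindex finSumFinEquiv finSumFinEquiv (fromBlocks T (V * u) 0 (μ • 1)),
      (hs.trans hs2).trans (sim_reindex _ _).symm, fun i j hij => ?_⟩
    obtain ⟨i, rfl⟩ := finSumFinEquiv.surjective i
    obtain ⟨j, rfl⟩ := finSumFinEquiv.surjective j
    rw [Matrix.reindex_apply, Matrix.submatrix_apply, Equiv.symm_apply_apply, Equiv.symm_apply_apply]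
    rcases i with i | i <;> rcases j with j | j
    · refine hup i j ?_
      rw [finSumFinEquiv_apply_left, finSumFinEquiv_apply_left] at hij; exact hij
    · exfalso
      have h1 : (finSumFinEquiv (Sum.inr j) : ℕ) < (finSumFinEquiv (Sum.inl i) : ℕ) := hij
      rw [finSumFinEquiv_apply_left, finSumFinEquiv_apply_right, Fin.val_natAdd, Fin.val_castAdd] at h1
      omega
    · simp
    · exfalso
      rw [Fin.fin_one_eq_zero i, Fin.fin_one_eq_zero j] at hij
      exact lt_irrefl _ hij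

omit [Fintype F] hF in
/-- the key lemma: bordering a triangular matrix inside two conjugates of a companion matrix -/
theorem exists_hess {r : ℕ} (T : Matrix (Fin r) (Fin r) F) (hup : ∀ i j, j < i → T i j = 0) {μ : F}
    (hdet : T.det * μ = 1) {g : F[X]} (hg : g.Monic) (hgd : g.natDegree = r + 1) (hg0 : g.coeff 0 ≠ 0) :
    ∃ (u : Matrix (Fin r) (Fin 1) F) (U P : Matrix (Fin (r + 1)) (Fin (r + 1)) F)
      (A : Matrix (Fin (r + 1)) (Fin (r + 1)) F),
      Sim A (CommSL.comp g) ∧ P.det ≠ 0 ∧ Sim U (fromBlocks T u 0 (μ • (1 : Matrix (Fin 1) (Fin 1) F))) ∧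
        A * U * P = P * A := by
  classical
  set A := Matrix.reindex (finCongr hgd) (finCongr hgd) (CommSL.comp g) with hA
  have hAapp : ∀ i j : Fin (r + 1), A i j =
      if (j : ℕ) = r then -g.coeff i else if (i : ℕ) = j + 1 then 1 else 0 := by
    intro i j
    simp [hA, CommSL.comp, hgd, Matrix.reindex_apply]
  let U0 : Matrix (Fin (r + 1)) (Fin (r + 1)) F := Matrix.of fun i j =>
    if h : (i : ℕ) < r ∧ (j : ℕ) < r then T ⟨i, h.1⟩ ⟨j, h.2⟩ else 0
  set H0 := A * U0 with hH0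
  let td : ℕ → F := fun l => if h : l < r then T ⟨l, h⟩ ⟨l, h⟩ else 0
  have hH0r : ∀ (i j : Fin (r + 1)), H0 i j =
      if h : 0 < (i : ℕ) ∧ (j : ℕ) < r then T ⟨i - 1, by omega⟩ ⟨j, h.2⟩ else 0 := by
    intro i j
    rw [hH0, Matrix.mul_apply]
    have hz : ∀ l : Fin (r + 1), (l : ℕ) = r → U0 l j = 0 := fun l hl => by
      simp [U0, hl]
    split_ifs with h
    · rw [Finset.sum_eq_single ⟨i - 1, by omega⟩]
      · rw [hAapp, if_neg (by simp only; omega), if_pos (by simp only; omega), one_mul]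
        simp only [U0, Matrix.of_apply]
        rw [dif_pos ⟨by omega, h.2⟩]
      · intro l _ hl
        by_cases hlr : (l : ℕ) = r
        · rw [hz l hlr, mul_zero]
        · rw [hAapp, if_neg hlr, if_neg (fun e => hl (Fin.ext (by simp only; omega))), zero_mul]
      · simp
    · refine Finset.sum_eq_zero fun l _ => ?_
      by_cases hlr : (l : ℕ) = r
      · rw [hz l hlr, mul_zero]
      · by_cases hj : (j : ℕ) < r
        · rw [hAapp, if_neg hlr, if_neg (by omega), zero_mul]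
        · simp [U0, hj]
  let v : ℕ → Fin (r + 1) → F := fun i => (H0 ^ i) *ᵥ Pi.single 0 1
  have hv0 : v 0 = Pi.single 0 1 := by
    show (H0 ^ 0) *ᵥ _ = _
    rw [pow_zero, Matrix.one_mulVec]
  have hvs : ∀ i, v (i + 1) = H0 *ᵥ v i := fun i => by
    show (H0 ^ (i + 1)) *ᵥ _ = H0 *ᵥ ((H0 ^ i) *ᵥ _)
    rw [pow_succ', Matrix.mulVec_mulVec]
  have hvtri : ∀ i, i ≤ r → (∀ l : Fin (r + 1), i < (l : ℕ) → v i l = 0) ∧
      v i ⟨min i r, by omega⟩ = ∏ l ∈ Finset.range i, td l := by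
    intro i
    induction i with
    | zero =>
      intro _
      refine ⟨fun l hl => ?_, ?_⟩
      · rw [hv0, Pi.single_eq_of_ne]; exact fun e => by rw [e] at hl; simp at hl
      · simp [hv0]
    | succ i ih =>
      intro hi
      obtain ⟨h1, h2⟩ := ih (by omega)
      refine ⟨fun l hl => ?_, ?_⟩
      · rw [hvs]
        show ∑ m, H0 l m * v i m = 0
        refine Finset.sum_eq_zero fun m _ => ?_
        by_cases hm : i < (m : ℕ)
        · rw [h1 m hm, mul_zero]
        rw [hH0r, dif_pos ⟨by omega, by omega⟩, hup _ _ (by rw [Fin.lt_def]; simp only; omega), zero_mul]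
      · rw [hvs, Finset.prod_range_succ]
        show ∑ m, H0 _ m * v i m = _
        refine (Finset.sum_eq_single (⟨i, by omega⟩ : Fin (r + 1)) (fun m _ hm => ?_) (by simp)).trans ?_
        · rcases lt_or_gt_of_ne (fun e => hm (Fin.ext e) : (m : ℕ) ≠ i) with hlt | hgt
          · rw [hH0r, dif_pos ⟨by simp only; omega, by omega⟩,
              hup _ _ (by rw [Fin.lt_def]; simp only; omega), zero_mul]
          · rw [h1 m hgt, mul_zero]
        · rw [hH0r, dif_pos ⟨by simp only; omega, by simp only; omega⟩]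
          have e : (⟨min i r, by omega⟩ : Fin (r + 1)) = ⟨i, by omega⟩ := Fin.ext (by simp only; omega)
          rw [e] at h2
          rw [h2, mul_comm]
          congr 1
          simp only [td, dif_pos (show i < r by omega)]
          congr 1 <;> exact Fin.ext (by simp only; omega)
  set P : Matrix (Fin (r + 1)) (Fin (r + 1)) F := Matrix.of fun l i => v i l with hP
  have hPup : P.BlockTriangular id := fun l i hli => by
    exact (hvtri i (by omega)).1 l (Fin.lt_def.1 hli)
  have hT0 : ∀ l, l < r → td l ≠ 0 := by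
    intro l hl h0
    refine one_ne_zero (α := F) ?_
    rw [← hdet, Matrix.det_of_upperTriangular (show T.BlockTriangular id from fun i j h => hup i j h),
      Finset.prod_eq_zero (Finset.mem_univ (⟨l, hl⟩ : Fin r)) (by simpa [td, hl] using h0), zero_mul]
  have hPd : P.det ≠ 0 := by
    rw [Matrix.det_of_upperTriangular hPup]
    refine Finset.prod_ne_zero_iff.2 fun i _ => ?_
    have e : (⟨min (i : ℕ) r, by omega⟩ : Fin (r + 1)) = i := Fin.ext (by simp only; omega)
    have h := (hvtri i (by omega)).2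
    rw [e] at h
    show v i i ≠ 0
    rw [h]
    exact Finset.prod_ne_zero_iff.2 fun l hl => hT0 l (by simp at hl; omega)
  set c : Fin (r + 1) → F := fun l => -g.coeff l with hc
  set α := ∏ l ∈ Finset.range r, td l with hα
  have hαT : α = T.det := by
    rw [Matrix.det_of_upperTriangular (show T.BlockTriangular id from fun i j h => hup i j h), hα,
      ← Fin.prod_univ_eq_prod_range]
    exact Finset.prod_congr rfl fun l _ => by simp [td, l.isLt]
  have hα0 : α ≠ 0 := hαT ▸ left_ne_zero_of_mul_eq_one hdet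
  set w : Fin (r + 1) → F := α⁻¹ • (P *ᵥ c - H0 *ᵥ v r) with hw
  have hAd : IsUnit A.det := by
    rw [hA, Matrix.det_reindex_self, det_comp hg]
    exact isUnit_iff_ne_zero.2 (mul_ne_zero (pow_ne_zero _ (neg_ne_zero.2 one_ne_zero)) hg0)
  set x : Fin (r + 1) → F := A⁻¹ *ᵥ w with hx
  have hAx : A *ᵥ x = w := by rw [hx, Matrix.mulVec_mulVec, Matrix.mul_nonsing_inv A hAd, Matrix.one_mulVec]
  have hxr : x (Fin.last r) = μ := by
    have h0 := congrFun hAx 0
    have e1 : (A *ᵥ x) 0 = -g.coeff 0 * x (Fin.last r) := by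
      show ∑ l, A 0 l * x l = _
      refine (Finset.sum_eq_single (Fin.last r) (fun l _ hl => ?_) (by simp)).trans ?_
      · rw [hAapp, if_neg (fun e => hl (Fin.ext (e.trans (Fin.val_last r).symm))), if_neg (by simp), zero_mul]
      · rw [hAapp, if_pos (by simp)]
        simp
    have e2 : w 0 = α⁻¹ * -g.coeff 0 := by
      have e3 : (P *ᵥ c) 0 = -g.coeff 0 := by
        show ∑ l, P 0 l * c l = _
        refine (Finset.sum_eq_single (0 : Fin (r + 1)) (fun l _ hl => ?_) (by simp)).trans ?_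
        · have hl0 : 0 < (l : ℕ) := Nat.pos_of_ne_zero fun e => hl (Fin.ext e)
          have : P 0 l = 0 := by
            show v l 0 = 0
            obtain ⟨l', hl'⟩ : ∃ l', (l : ℕ) = l' + 1 := ⟨l - 1, by omega⟩
            rw [hl', hvs]
            show ∑ m, H0 0 m * v l' m = 0
            exact Finset.sum_eq_zero fun m _ => by rw [hH0r, dif_neg (by simp), zero_mul]
          rw [this, zero_mul]
        · rw [show P 0 0 = v 0 0 from rfl, hv0, Pi.single_eq_same, one_mul, hc]
          rfl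
      have e4 : (H0 *ᵥ v r) 0 = 0 := by
        show ∑ m, H0 0 m * v r m = 0
        exact Finset.sum_eq_zero fun m _ => by rw [hH0r, dif_neg (by simp), zero_mul]
      rw [hw, Pi.smul_apply, Pi.sub_apply, e3, e4, sub_zero, smul_eq_mul]
    rw [e1, e2, hαT] at h0
    have hi : T.det⁻¹ = μ := inv_eq_of_mul_eq_one_right hdet
    rw [hi] at h0
    exact mul_left_cancel₀ (neg_ne_zero.2 hg0) (h0.trans (mul_comm _ _))
  let U : Matrix (Fin (r + 1)) (Fin (r + 1)) F := Matrix.of fun i j => if (j : ℕ) = r then x i else U0 i j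
  have hAU : ∀ i j, (A * U) i j = if (j : ℕ) = r then w i else H0 i j := by
    intro i j
    split_ifs with hj
    · rw [← hAx, Matrix.mul_apply]
      show _ = ∑ l, A i l * x l
      exact Finset.sum_congr rfl fun l _ => by simp [U, hj]
    · rw [Matrix.mul_apply, hH0, Matrix.mul_apply]
      exact Finset.sum_congr rfl fun l _ => by simp [U, hj]
  refine ⟨Matrix.of fun i _ => x i.castSucc, U, P, A, sim_reindex _ _, hPd, ?_, ?_⟩
  · have e : Matrix.reindex finSumFinEquiv finSumFinEquiv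
        (fromBlocks T (Matrix.of fun i _ => x i.castSucc) 0 (μ • (1 : Matrix (Fin 1) (Fin 1) F))) = U := by
      ext i j
      obtain ⟨i, rfl⟩ := finSumFinEquiv.surjective i
      obtain ⟨j, rfl⟩ := finSumFinEquiv.surjective j
      rw [Matrix.reindex_apply, Matrix.submatrix_apply, Equiv.symm_apply_apply, Equiv.symm_apply_apply]
      rcases i with i | i <;> rcases j with j | j
      · have hi := i.isLt
        have hj := j.isLt
        simp [U, U0, hj.ne, hi, hj]
      · have hj : j = 0 := Fin.fin_one_eq_zero j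
        subst hj
        simp [U]
        rfl
      · have hj := j.isLt
        simp [U, U0, hj.ne]
      · have hi : i = 0 := Fin.fin_one_eq_zero i
        have hj : j = 0 := Fin.fin_one_eq_zero j
        subst hi hj
        simp [U, ← hxr]
        rfl
    exact e ▸ sim_reindex _ _
  · refine Matrix.ext fun l i => ?_
    have hlhs : (A * U * P) l i = ((A * U) *ᵥ v i) l := rfl
    rw [hlhs]
    have hi := i.isLt
    by_cases hir : (i : ℕ) = r
    · have hrhs : (P * A) l i = (P *ᵥ c) l := by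
        rw [Matrix.mul_apply]
        show _ = ∑ m, P l m * c m
        exact Finset.sum_congr rfl fun m _ => by simp [hAapp, hir, hc]
      rw [hrhs]
      have hvr : v r (Fin.last r) = α := by
        have h := (hvtri r le_rfl).2
        rwa [show (⟨min r r, by omega⟩ : Fin (r + 1)) = Fin.last r from Fin.ext (by simp)] at h
      have e1 : ((A * U) *ᵥ v r) l = (H0 *ᵥ v r) l + α * w l := by
        show ∑ m, (A * U) l m * v r m = (∑ m, H0 l m * v r m) + α * w l
        rw [← Finset.sum_erase_add _ _ (Finset.mem_univ (Fin.last r)), hAU, if_pos (Fin.val_last r), hvr,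
          ← Finset.sum_erase_add _ (fun m => H0 l m * v r m) (Finset.mem_univ (Fin.last r))]
        rw [hH0r l (Fin.last r), dif_neg (by simp), zero_mul, add_zero, mul_comm (w l)]
        congr 1
        refine Finset.sum_congr rfl fun m hm => ?_
        rw [hAU, if_neg fun e => (Finset.mem_erase.1 hm).1 (Fin.ext (e.trans (Fin.val_last r).symm))]
      rw [hir, e1, hw, Pi.smul_apply, smul_eq_mul, Pi.sub_apply, ← mul_assoc, mul_inv_cancel₀ hα0, one_mul]
      ring
    · have hrhs : (P * A) l i = v (i + 1) l := by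
        rw [Matrix.mul_apply]
        refine (Finset.sum_eq_single (⟨i + 1, by omega⟩ : Fin (r + 1)) (fun m _ hm => ?_) (by simp)).trans ?_
        · rw [hAapp, if_neg hir, if_neg (fun e => hm (Fin.ext e)), mul_zero]
        · rw [hAapp, if_neg hir, if_pos rfl, mul_one]
          rfl
      rw [hrhs, hvs]
      show ∑ m, (A * U) l m * v i m = ∑ m, H0 l m * v i m
      refine Finset.sum_congr rfl fun m _ => ?_
      rw [hAU]
      split_ifs with hm
      · rw [(hvtri i (by omega)).1 m (by omega), mul_zero, mul_zero]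
      · rfl

/-- a split matrix of determinant one with a simple eigenvalue -/
theorem kk_simple {M : Matrix ι ι F} (hs : 2 ≤ Fintype.card ι) (hsplit : M.charpoly.Splits) (hd : M.det = 1)
    {μ : F} {p : F[X]} (hp : M.charpoly = p * (X - Polynomial.C μ)) (hμ : p.eval μ ≠ 0) : KK C M := by
  classical
  obtain ⟨r, M', u, hsim⟩ := exists_block (M := M) (μ := μ) (by rw [hp]; simp)
  have hch := sim_charpoly hsim
  have hone : (μ • (1 : Matrix (Fin 1) (Fin 1) F)).charpoly = X - Polynomial.C μ := by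
    rw [Matrix.smul_one_eq_diagonal, Matrix.charpoly_diagonal, Fin.prod_univ_one]
  rw [Matrix.charpoly_fromBlocks_zero₂₁, hone, hp] at hch
  have hM' : M'.charpoly = p := (mul_right_cancel₀ (X_sub_C_ne_zero μ) hch).symm
  have hunit : IsUnit (aeval M' (μ • (1 : Matrix (Fin 1) (Fin 1) F)).charpoly) := by
    rw [hone, map_sub, aeval_X, aeval_C, Matrix.isUnit_iff_isUnit_det]
    refine isUnit_iff_ne_zero.2 fun h0 => hμ ?_
    rw [← hM', Matrix.eval_charpoly, ← neg_sub, Matrix.det_neg]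
    exact mul_eq_zero_of_right _ h0
  obtain ⟨T, hT, hup⟩ := exists_upper r M' (hsplit.of_dvd M.charpoly_monic.ne_zero ⟨_, by rw [hp, hM']⟩)
  have hsim2 : Sim M (fromBlocks T 0 0 (μ • (1 : Matrix (Fin 1) (Fin 1) F))) :=
    (hsim.trans (sim_upper hunit u)).trans (hT.blocks (Sim.refl _))
  have hdT : T.det * μ = 1 := by
    have h := hsim2.det_eq
    rw [hd, det_fromBlocks_zero₁₂] at h
    simpa using h.symm
  have hcard : Fintype.card ι = r + 1 := by
    have h := congrArg natDegree (sim_charpoly hsim2)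
    rw [Matrix.charpoly_natDegree_eq_dim, Matrix.charpoly_natDegree_eq_dim, Fintype.card_sum,
      Fintype.card_fin, Fintype.card_fin] at h
    exact h
  refine KK.sim hsim2 fun τ σ hτ hσ => ?_
  obtain ⟨g, hg, hgd, hg0, hgτ, ⟨N, hN⟩, hR⟩ := exists_gen C hF (r + 1) (by omega) hτ
  obtain ⟨u', U, P, A, hA, hP, hU, hrel⟩ := exists_hess T hup hdT hg hgd hg0
  have hunit' : IsUnit (aeval T (μ • (1 : Matrix (Fin 1) (Fin 1) F)).charpoly) := by
    obtain ⟨U1, V1, h1, h2, h3⟩ := hT.symm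
    obtain ⟨K, hK⟩ := hunit
    rw [h3, Sim.aeval h1 h2, ← hK]
    exact ⟨⟨U1 * K.1 * V1, U1 * (K⁻¹).1 * V1, by
      calc U1 * K.1 * V1 * (U1 * (K⁻¹).1 * V1) = U1 * (K.1 * ((V1 * U1) * (K⁻¹).1)) * V1 := by simp only [Matrix.mul_assoc]
        _ = 1 := by rw [h2, Matrix.one_mul, Units.mul_inv, Matrix.mul_one, h1], by
      calc U1 * (K⁻¹).1 * V1 * (U1 * K.1 * V1) = U1 * ((K⁻¹).1 * ((V1 * U1) * K.1)) * V1 := by simp only [Matrix.mul_assoc]
        _ = 1 := by rw [h2, Matrix.one_mul, Units.inv_mul, Matrix.mul_one, h1]⟩, rfl⟩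
  obtain ⟨Ua, Va, ha1, ha2, hA'⟩ := hA
  have hdP := psi_norm C hP
  obtain ⟨R, hRd, hRc, hRσ⟩ := hR (σ / psi C P.det) (by
    rw [div_eq_mul_inv]; exact norm_mul C hσ (norm_inv C hdP))
  have hAdet : A.det = (CommSL.comp g).det := by rw [hA', Matrix.det_conj_of_mul_eq_one ha1 ha2]
  set R' := Ua * R * Va with hR'
  have hR'd : R'.det = R.det := Matrix.det_conj_of_mul_eq_one ha1 ha2
  have hcomm : R' * A = A * R' := by
    rw [hR', hA']
    calc Ua * R * Va * (Ua * CommSL.comp g * Va) = Ua * (R * ((Va * Ua) * CommSL.comp g)) * Va := by simp only [Matrix.mul_assoc]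
      _ = Ua * (CommSL.comp g * ((Va * Ua) * R)) * Va := by rw [ha2, Matrix.one_mul, Matrix.one_mul, hRc.eq]
      _ = _ := by simp only [Matrix.mul_assoc]
  have hkey : ∃ (A P : Matrix (Fin (r + 1)) (Fin (r + 1)) F) (N : ℕ),
      A.det ≠ 0 ∧ P.det ≠ 0 ∧ aeval A (Omega C ^ N) = 0 ∧ psi C A.det = τ ∧ psi C P.det = σ ∧
      A * U * P = P * A := by
    refine ⟨A, P * R', N, ?_, ?_, ?_, by rw [hAdet, hgτ], ?_, ?_⟩
    · rw [hAdet, det_comp hg]; exact mul_ne_zero (pow_ne_zero _ (neg_ne_zero.2 one_ne_zero)) hg0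
    · rw [det_mul, hR'd]; exact mul_ne_zero hP hRd
    · rw [hA', Sim.aeval ha1 ha2, hN, Matrix.mul_zero, Matrix.zero_mul]
    · rw [det_mul, hR'd, psi_mul, hRσ, mul_div_cancel₀ _ (norm_one_ne C hdP)]
    · rw [← Matrix.mul_assoc, hrel, Matrix.mul_assoc, ← hcomm, ← Matrix.mul_assoc]
  obtain ⟨U2, V2, h1, h2, h3⟩ := (sim_upper hunit' u').symm.trans hU.symm
  obtain ⟨A1, P1, N1, hA1, hP1, hN1, hAτ, hPσ, hrel1⟩ := hkey
  refine ⟨U2 * A1 * V2, U2 * P1 * V2, N1, ?_, ?_, ?_, ?_, ?_, ?_⟩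
  · rwa [Matrix.det_conj_of_mul_eq_one h1 h2]
  · rwa [Matrix.det_conj_of_mul_eq_one h1 h2]
  · rw [Sim.aeval h1 h2, hN1, Matrix.mul_zero, Matrix.zero_mul]
  · rwa [Matrix.det_conj_of_mul_eq_one h1 h2]
  · rwa [Matrix.det_conj_of_mul_eq_one h1 h2]
  · rw [h3]
    calc U2 * A1 * V2 * (U2 * U * V2) * (U2 * P1 * V2) = U2 * (A1 * ((V2 * U2) * U) * ((V2 * U2) * P1)) * V2 := by
          simp only [Matrix.mul_assoc]
      _ = U2 * (P1 * ((V2 * U2) * A1)) * V2 := by rw [h2, Matrix.one_mul, Matrix.one_mul, Matrix.one_mul, hrel1]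
      _ = _ := by simp only [Matrix.mul_assoc]

end CfsgLib.OreSu
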