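import Cfsg.Agent.Lib.Lie.OreSu.Poly

/-!
An element of a unitary group, in a frame with an isotropic block, is a commutator when the Levi part of
its decomposition is a commutator with a good first factor.
-/

set_option autoImplicit false
set_option linter.unusedSectionVars false

namespace CfsgLib.OreSu

open CfsgLib.SU Matrix

variable {F : Type*} [Field F] {q : ℕ} (C : UCtx F q)
variable {ι κ : Type*} [Fintype ι] [DecidableEq ι] [Fintype κ] [DecidableEq κ]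

local notation "MI" => Matrix ι ι F
local notation "MK" => Matrix κ κ F
local notation "BIG" => Matrix (ι ⊕ (κ ⊕ ι)) (ι ⊕ (κ ⊕ ι)) F

/-- a matrix in three by three blocks -/
def b3 (a11 : MI) (a12 : Matrix ι κ F) (a13 : MI) (a21 : Matrix κ ι F) (a22 : MK) (a23 : Matrix κ ι F)
    (a31 : MI) (a32 : Matrix ι κ F) (a33 : MI) : BIG :=
  fromBlocks a11 (fromCols a12 a13) (fromRows a21 a31) (fromBlocks a22 a23 a32 a33)

theorem b3_mul (a11 : MI) (a12 : Matrix ι κ F) (a13 : MI) (a21 : Matrix κ ι F) (a22 : MK)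
    (a23 : Matrix κ ι F) (a31 : MI) (a32 : Matrix ι κ F) (a33 : MI)
    (b11 : MI) (b12 : Matrix ι κ F) (b13 : MI) (b21 : Matrix κ ι F) (b22 : MK) (b23 : Matrix κ ι F)
    (b31 : MI) (b32 : Matrix ι κ F) (b33 : MI) :
    b3 a11 a12 a13 a21 a22 a23 a31 a32 a33 * b3 b11 b12 b13 b21 b22 b23 b31 b32 b33 =
      b3 (a11 * b11 + a12 * b21 + a13 * b31) (a11 * b12 + a12 * b22 + a13 * b32)
        (a11 * b13 + a12 * b23 + a13 * b33) (a21 * b11 + a22 * b21 + a23 * b31)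
        (a21 * b12 + a22 * b22 + a23 * b32) (a21 * b13 + a22 * b23 + a23 * b33)
        (a31 * b11 + a32 * b21 + a33 * b31) (a31 * b12 + a32 * b22 + a33 * b32)
        (a31 * b13 + a32 * b23 + a33 * b33) := by
  ext i j
  rcases i with i | i | i <;> rcases j with j | j | j <;>
    simp [b3, Matrix.mul_apply, Fintype.sum_sum_type, add_assoc]

theorem b3_one : b3 (1 : MI) 0 0 0 (1 : MK) 0 0 0 1 = 1 := by
  ext i j
  rcases i with i | i | i <;> rcases j with j | j | j <;> simp [b3, Matrix.one_apply]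

theorem b3_ad (a11 : MI) (a12 : Matrix ι κ F) (a13 : MI) (a21 : Matrix κ ι F) (a22 : MK)
    (a23 : Matrix κ ι F) (a31 : MI) (a32 : Matrix ι κ F) (a33 : MI) :
    ad C (b3 a11 a12 a13 a21 a22 a23 a31 a32 a33) =
      b3 (ad C a11) (ad C a21) (ad C a31) (ad C a12) (ad C a22) (ad C a32) (ad C a13) (ad C a23) (ad C a33) := by
  ext i j
  rcases i with i | i | i <;> rcases j with j | j | j <;> simp [b3, ad]

theorem exists_b3 (g : BIG) : ∃ a11 a12 a13 a21 a22 a23 a31 a32 a33,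
    g = b3 a11 a12 a13 a21 a22 a23 a31 a32 a33 := by
  refine ⟨g.submatrix Sum.inl Sum.inl, g.submatrix Sum.inl (Sum.inr ∘ Sum.inl),
    g.submatrix Sum.inl (Sum.inr ∘ Sum.inr), g.submatrix (Sum.inr ∘ Sum.inl) Sum.inl,
    g.submatrix (Sum.inr ∘ Sum.inl) (Sum.inr ∘ Sum.inl), g.submatrix (Sum.inr ∘ Sum.inl) (Sum.inr ∘ Sum.inr),
    g.submatrix (Sum.inr ∘ Sum.inr) Sum.inl, g.submatrix (Sum.inr ∘ Sum.inr) (Sum.inr ∘ Sum.inl),
    g.submatrix (Sum.inr ∘ Sum.inr) (Sum.inr ∘ Sum.inr), ?_⟩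
  ext i j
  rcases i with i | i | i <;> rcases j with j | j | j <;> simp [b3]

theorem b3_inj {a11 a11' : MI} {a12 a12' : Matrix ι κ F} {a13 a13' : MI} {a21 a21' : Matrix κ ι F}
    {a22 a22' : MK} {a23 a23' : Matrix κ ι F} {a31 a31' : MI} {a32 a32' : Matrix ι κ F} {a33 a33' : MI}
    (h : b3 a11 a12 a13 a21 a22 a23 a31 a32 a33 = b3 a11' a12' a13' a21' a22' a23' a31' a32' a33') :
    a11 = a11' ∧ a12 = a12' ∧ a13 = a13' ∧ a21 = a21' ∧ a22 = a22' ∧ a23 = a23' ∧ a31 = a31' ∧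
      a32 = a32' ∧ a33 = a33' := by
  unfold b3 at h
  obtain ⟨h1, h2, h3, h4⟩ := fromBlocks_inj.1 h
  obtain ⟨h21, h22⟩ := fromCols_inj.eq_iff.1 h2
  obtain ⟨h31, h32⟩ := fromRows_inj.eq_iff.1 h3
  obtain ⟨h41, h42, h43, h44⟩ := fromBlocks_inj.1 h4
  exact ⟨h1, h21, h22, h31, h41, h42, h32, h43, h44⟩

theorem det_b3_lower (a11 : MI) (a21 : Matrix κ ι F) (a22 : MK) (a31 : MI) (a32 : Matrix ι κ F) (a33 : MI) :
    (b3 a11 0 0 a21 a22 0 a31 a32 a33).det = a11.det * (a22.det * a33.det) := by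
  rw [b3, fromCols_zero, det_fromBlocks_zero₁₂, det_fromBlocks_zero₁₂]

/-- the Gram matrix -/
def JJ : BIG := b3 0 0 1 0 1 0 1 0 0

theorem JJ_sq : (JJ : BIG) * JJ = 1 := by
  rw [JJ, b3_mul, ← b3_one]; simp

theorem ad_JJ : ad C (JJ : BIG) = JJ := by
  rw [JJ, b3_ad]; simp [ad_one, ad_zero]

theorem JJ_conj (a11 : MI) (a12 : Matrix ι κ F) (a13 : MI) (a21 : Matrix κ ι F) (a22 : MK)
    (a23 : Matrix κ ι F) (a31 : MI) (a32 : Matrix ι κ F) (a33 : MI) :
    JJ * b3 a11 a12 a13 a21 a22 a23 a31 a32 a33 * JJ = b3 a33 a32 a31 a23 a22 a21 a13 a12 a11 := by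
  simp [JJ, b3_mul]

/-- preserving the form -/
def Iso (X : BIG) : Prop := ad C X * JJ * X = JJ

/-- the unitary group of the frame -/
def UG : Subgroup (Matrix.SpecialLinearGroup (ι ⊕ (κ ⊕ ι)) F) where
  carrier := {X | Iso C (X : BIG)}
  mul_mem' {X Y} hX hY := by
    show ad C ((X : BIG) * (Y : BIG)) * JJ * ((X : BIG) * (Y : BIG)) = JJ
    rw [ad_mul, Matrix.mul_assoc (ad C (Y : BIG)), Matrix.mul_assoc (ad C (Y : BIG)),
      ← Matrix.mul_assoc (ad C (X : BIG) * JJ), show ad C (X : BIG) * JJ * (X : BIG) = JJ from hX,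
      ← Matrix.mul_assoc]
    exact hY
  one_mem' := by
    show ad C (1 : BIG) * JJ * 1 = JJ
    rw [ad_one, Matrix.one_mul, Matrix.mul_one]
  inv_mem' {X} hX := by
    show ad C ((X⁻¹ : Matrix.SpecialLinearGroup (ι ⊕ (κ ⊕ ι)) F) : BIG) * JJ * _ = JJ
    have h : (X : BIG) * ((X⁻¹ : Matrix.SpecialLinearGroup (ι ⊕ (κ ⊕ ι)) F) : BIG) = 1 := by
      rw [← Matrix.SpecialLinearGroup.coe_mul, mul_inv_cancel, Matrix.SpecialLinearGroup.coe_one]
    generalize ((X⁻¹ : Matrix.SpecialLinearGroup (ι ⊕ (κ ⊕ ι)) F) : BIG) = Y at h ⊢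
    conv_lhs => rw [← (show ad C (X : BIG) * JJ * (X : BIG) = JJ from hX)]
    rw [show ad C Y * (ad C (X : BIG) * JJ * (X : BIG)) * Y = ad C ((X : BIG) * Y) * JJ * ((X : BIG) * Y) by
      rw [ad_mul]; simp only [Matrix.mul_assoc], h, ad_one, Matrix.one_mul, Matrix.mul_one]

/-- Levi element -/
noncomputable def lev (A : MI) (a : MK) : BIG := b3 A 0 0 0 a 0 0 0 (ad C A)⁻¹

/-- lower unipotent element -/
def low (Q : Matrix κ ι F) (S : MI) : BIG := b3 1 0 0 Q 1 0 S (-ad C Q) 1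

/-- membership of the radical -/
def Rad (Q : Matrix κ ι F) (S : MI) : Prop := S + ad C S + ad C Q * Q = 0

theorem isUnit_det_of {A : MI} (h : A.det ≠ 0) : IsUnit A.det := isUnit_iff_ne_zero.2 h

theorem isUnit_det_ad {A : MI} (h : A.det ≠ 0) : IsUnit (ad C A).det := by
  rw [det_ad]; exact isUnit_iff_ne_zero.2 ((map_ne_zero C.bar).2 h)

theorem ad_inv {A : MI} (h : A.det ≠ 0) : ad C A⁻¹ = (ad C A)⁻¹ := by
  refine (Matrix.inv_eq_right_inv ?_).symm
  rw [← ad_mul, nonsing_inv_mul A (isUnit_det_of h), ad_one]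

theorem det_lev {A : MI} (hA : A.det ≠ 0) (a : MK) : (lev C A a).det = psi C A.det * a.det := by
  rw [lev, det_b3_lower, det_nonsing_inv, Ring.inverse_eq_inv', det_ad, psi]
  field_simp [bar_ne C hA]

theorem det_low (Q : Matrix κ ι F) (S : MI) : (low C Q S).det = 1 := by
  rw [low, det_b3_lower]; simp

theorem iso_lev {A : MI} (hA : A.det ≠ 0) {a : MK} (ha : ad C a * a = 1) : Iso C (lev C A a) := by
  have h1 : ad C ((ad C A)⁻¹) = A⁻¹ := by rw [← ad_inv C hA, ad_ad]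
  simp [Iso, lev, b3_ad, JJ, b3_mul, ad_zero, h1, ha, mul_nonsing_inv _ (isUnit_det_ad C hA),
    nonsing_inv_mul _ (isUnit_det_of hA)]

theorem iso_low {Q : Matrix κ ι F} {S : MI} (h : Rad C Q S) : Iso C (low C Q S) := by
  have h' : ad C S + ad C Q * Q + S = 0 := by rw [← h]; abel
  simp [Iso, low, b3_ad, JJ, b3_mul, ad_zero, ad_one, ad_neg, ad_ad, h']

theorem iso_conj {X : BIG} (h : Iso C X) : Iso C (JJ * X * JJ) := by
  unfold Iso
  rw [ad_mul, ad_mul, ad_JJ]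
  calc JJ * (ad C X * JJ) * JJ * (JJ * X * JJ) = JJ * (ad C X * JJ * ((JJ * JJ) * X)) * JJ := by
        simp only [Matrix.mul_assoc]
    _ = JJ := by rw [JJ_sq, Matrix.one_mul, h, JJ_sq, Matrix.one_mul]

theorem det_conj_JJ (X : BIG) : (JJ * X * JJ).det = X.det := by
  rw [det_mul, det_mul, mul_right_comm, ← det_mul, JJ_sq, det_one, one_mul]

theorem lev_mul {A B : MI} (a b : MK) : lev C A a * lev C B b = lev C (A * B) (a * b) := by
  simp [lev, b3_mul, ad_mul, Matrix.mul_inv_rev]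

theorem lev_one : lev C (1 : MI) (1 : MK) = 1 := by simp [lev, ad_one, b3_one]

theorem lev_mul_low (A : MI) (hA : A.det ≠ 0) (a : MK) (ha : ad C a * a = 1) (Q : Matrix κ ι F) (S : MI) :
    lev C A a * low C Q S = low C (a * Q * A⁻¹) ((ad C A)⁻¹ * S * A⁻¹) * lev C A a := by
  have e : ad C (a * Q * A⁻¹) * a = (ad C A)⁻¹ * ad C Q := by
    rw [ad_mul, ad_mul, ad_inv C hA, Matrix.mul_assoc, Matrix.mul_assoc (ad C Q), ha, Matrix.mul_one]
  simp [lev, low, b3_mul, e, nonsing_inv_mul_cancel_right _ _ (isUnit_det_of hA)]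

theorem rad_conj {A : MI} (hA : A.det ≠ 0) {a : MK} (ha : ad C a * a = 1) {Q : Matrix κ ι F} {S : MI}
    (h : Rad C Q S) : Rad C (a * Q * A⁻¹) ((ad C A)⁻¹ * S * A⁻¹) := by
  unfold Rad at h ⊢
  rw [← ad_inv C hA]
  have e : ad C (a * Q * A⁻¹) * (a * Q * A⁻¹) = ad C A⁻¹ * (ad C Q * Q) * A⁻¹ := by
    rw [ad_mul, ad_mul, show ad C A⁻¹ * (ad C Q * ad C a) * (a * Q * A⁻¹) =
      ad C A⁻¹ * (ad C Q * ((ad C a * a) * Q)) * A⁻¹ by simp only [Matrix.mul_assoc], ha, Matrix.one_mul]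
  rw [e, ad_mul, ad_mul, ad_ad, ← Matrix.mul_assoc, ← Matrix.add_mul, ← Matrix.mul_add, ← Matrix.add_mul,
    ← Matrix.mul_add, h, Matrix.mul_zero, Matrix.zero_mul]

/-- the centraliser in both radicals is trivial -/
def Good (A : MI) (a : MK) : Prop :=
  A.det ≠ 0 ∧ ad C a * a = 1 ∧ (∀ Q : Matrix κ ι F, a * Q = Q * A → Q = 0) ∧
    (∀ R : Matrix ι κ F, A * R = R * a → R = 0) ∧ (∀ S : MI, ad C A * S * A = S → S = 0) ∧
    (∀ S : MI, A * S * ad C A = S → S = 0)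

theorem good_of_safe {p : Polynomial F} (h : Safe C p) {A : MI} (hA : A.det ≠ 0)
    (hpA : Polynomial.aeval A p = 0) {a : MK} (ha : ad C a * a = 1) (hpa : IsUnit (Polynomial.aeval a p)) :
    Good C A a := by
  refine ⟨hA, ha, fun Q hQ => eq_zero_side hpa hpA hQ, fun R hR => ?_,
    fun S hS => eq_zero_left h hpA hS, fun S hS => eq_zero_right h hpA hS⟩
  obtain ⟨u, hu⟩ := hpa
  have h0 : R * (u : MK) = 0 := by rw [hu, ← intertwine hR p, hpA, Matrix.zero_mul]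
  calc R = R * ((u : MK) * (↑u⁻¹ : MK)) := by rw [u.mul_inv, Matrix.mul_one]
    _ = 0 := by rw [← Matrix.mul_assoc, h0, Matrix.zero_mul]

variable {C}

theorem Good.inv {A : MI} {a : MK} (h : Good C A a) : Good C A⁻¹ (ad C a) := by
  obtain ⟨hA, ha, hs, hs', hl, hr⟩ := h
  have hu := isUnit_det_of hA
  have hu' := isUnit_det_ad C hA
  have ha' : a * ad C a = 1 := mul_eq_one_comm.1 ha
  refine ⟨by rw [det_nonsing_inv, Ring.inverse_eq_inv']; exact inv_ne_zero hA, by rwa [ad_ad],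
    fun Q hQ => hs Q ?_, fun R hR => hs' R ?_, fun S hS => hl S ?_, fun S hS => hr S ?_⟩
  · calc a * Q = a * ((Q * A⁻¹) * A) := by rw [nonsing_inv_mul_cancel_right _ _ hu]
      _ = Q * A := by rw [← hQ, ← Matrix.mul_assoc, ← Matrix.mul_assoc, ha', Matrix.one_mul]
  · calc A * R = A * ((R * ad C a) * a) := by rw [Matrix.mul_assoc R, ha, Matrix.mul_one]
      _ = R * a := by rw [← hR, ← Matrix.mul_assoc, ← Matrix.mul_assoc, mul_nonsing_inv _ hu, Matrix.one_mul]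
  · conv_lhs => rw [← hS, ad_inv C hA]
    simp [Matrix.mul_assoc, nonsing_inv_mul _ hu, mul_nonsing_inv_cancel_left _ _ hu']
  · conv_lhs => rw [← hS, ad_inv C hA]
    simp [Matrix.mul_assoc, nonsing_inv_mul _ hu', mul_nonsing_inv_cancel_left _ _ hu]

theorem Good.conj {A P : MI} {a b : MK} (h : Good C A a) (hP : P.det ≠ 0) (hb : ad C b * b = 1) :
    Good C (P * A * P⁻¹) (b * a * ad C b) := by
  obtain ⟨hA, ha, hs, hs', hl, hr⟩ := h
  have hu := isUnit_det_of hP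
  have hu' := isUnit_det_ad C hP
  have hb' : b * ad C b = 1 := mul_eq_one_comm.1 hb
  have hB : (P * A * P⁻¹).det ≠ 0 := by
    rw [det_mul, det_mul, det_nonsing_inv, Ring.inverse_eq_inv']
    exact mul_ne_zero (mul_ne_zero hP hA) (inv_ne_zero hP)
  have hc : ad C (b * a * ad C b) * (b * a * ad C b) = 1 := by
    rw [ad_mul, ad_mul, ad_ad, show b * (ad C a * ad C b) * (b * a * ad C b) =
      b * (ad C a * ((ad C b * b) * a)) * ad C b by simp only [Matrix.mul_assoc], hb, Matrix.one_mul, ha,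
      Matrix.mul_one, hb']
  refine ⟨hB, hc, fun Q hQ => ?_, fun R hR => ?_, fun S hS => ?_, fun S hS => ?_⟩
  · have h0 := hs (ad C b * Q * P) (by
      calc a * (ad C b * Q * P) = ad C b * (b * a * ad C b * Q) * P := by
            simp only [← Matrix.mul_assoc, hb, Matrix.one_mul]
        _ = ad C b * Q * P * A := by
            rw [hQ]; simp [Matrix.mul_assoc, nonsing_inv_mul _ hu])
    calc Q = b * (ad C b * Q * P) * P⁻¹ := by
          rw [← Matrix.mul_assoc, ← Matrix.mul_assoc, hb', Matrix.one_mul, mul_nonsing_inv_cancel_right _ _ hu]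
      _ = 0 := by rw [h0, Matrix.mul_zero, Matrix.zero_mul]
  · have h0 := hs' (P⁻¹ * R * b) (by
      calc A * (P⁻¹ * R * b) = P⁻¹ * (P * A * P⁻¹ * R) * b := by
            simp only [← Matrix.mul_assoc, nonsing_inv_mul _ hu, Matrix.one_mul]
        _ = P⁻¹ * R * b * a := by
            rw [hR]; simp [Matrix.mul_assoc, hb])
    calc R = P * (P⁻¹ * R * b) * ad C b := by
          rw [← Matrix.mul_assoc, ← Matrix.mul_assoc, mul_nonsing_inv _ hu, Matrix.one_mul, Matrix.mul_assoc,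
            hb', Matrix.mul_one]
      _ = 0 := by rw [h0, Matrix.mul_zero, Matrix.zero_mul]
  · have h0 := hl (ad C P * S * P) (by
      calc ad C A * (ad C P * S * P) * A
          = ad C P * (ad C (P * A * P⁻¹) * S * (P * A * P⁻¹)) * P := by
            rw [ad_mul, ad_mul, ad_inv C hP]
            simp [Matrix.mul_assoc, nonsing_inv_mul _ hu, mul_nonsing_inv_cancel_left _ _ hu']
        _ = _ := by rw [hS])
    calc S = (ad C P)⁻¹ * (ad C P * S * P) * P⁻¹ := by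
          rw [← Matrix.mul_assoc, ← Matrix.mul_assoc, nonsing_inv_mul _ hu', Matrix.one_mul,
            mul_nonsing_inv_cancel_right _ _ hu]
      _ = 0 := by rw [h0, Matrix.mul_zero, Matrix.zero_mul]
  · have h0 := hr (P⁻¹ * S * (ad C P)⁻¹) (by
      calc A * (P⁻¹ * S * (ad C P)⁻¹) * ad C A
          = P⁻¹ * ((P * A * P⁻¹) * S * ad C (P * A * P⁻¹)) * (ad C P)⁻¹ := by
            rw [ad_mul, ad_mul, ad_inv C hP]
            simp [Matrix.mul_assoc, mul_nonsing_inv _ hu', nonsing_inv_mul_cancel_left _ _ hu]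
        _ = _ := by rw [hS])
    calc S = P * (P⁻¹ * S * (ad C P)⁻¹) * ad C P := by
          rw [← Matrix.mul_assoc, ← Matrix.mul_assoc, mul_nonsing_inv _ hu, Matrix.one_mul,
            nonsing_inv_mul_cancel_right _ _ hu']
      _ = 0 := by rw [h0, Matrix.mul_zero, Matrix.zero_mul]

theorem Good.star {A : MI} {a : MK} (h : Good C A a) : Good C (ad C A)⁻¹ a := by
  obtain ⟨hA, ha, hs, hs', hl, hr⟩ := h
  have hu := isUnit_det_of hA
  have hu' := isUnit_det_ad C hA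
  have ha' : a * ad C a = 1 := mul_eq_one_comm.1 ha
  have h1 : ad C ((ad C A)⁻¹) = A⁻¹ := by rw [← ad_inv C hA, ad_ad]
  refine ⟨by rw [det_nonsing_inv, Ring.inverse_eq_inv']; exact inv_ne_zero hu'.ne_zero, ha, fun Q hQ => ?_,
    fun R hR => ?_, fun S hS => hr S ?_, fun S hS => hl S ?_⟩
  · have e : ad C Q = 0 := hs' _ (by
      have e1 : a * Q * ad C A = Q := by rw [hQ, nonsing_inv_mul_cancel_right _ _ hu']
      have e2 : A * (ad C Q * ad C a) = ad C Q := by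
        conv_rhs => rw [← e1]
        rw [ad_mul, ad_mul, ad_ad]
      calc A * ad C Q = A * (ad C Q * ad C a) * a := by
            rw [Matrix.mul_assoc, Matrix.mul_assoc, ha, Matrix.mul_one]
        _ = ad C Q * a := by rw [e2])
    rw [← ad_ad C Q, e, ad_zero]
  · have e : ad C R = 0 := hs _ (by
      have e1 : ad C A * (R * a) = R := by rw [← hR, mul_nonsing_inv_cancel_left _ _ hu']
      have e2 : ad C a * ad C R * A = ad C R := by
        conv_rhs => rw [← e1]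
        rw [ad_mul, ad_mul, ad_ad]
      calc a * ad C R = a * (ad C a * ad C R * A) := by rw [e2]
        _ = ad C R * A := by rw [← Matrix.mul_assoc, ← Matrix.mul_assoc, ha', Matrix.one_mul])
    rw [← ad_ad C R, e, ad_zero]
  · rw [h1] at hS
    conv_lhs => rw [← hS]
    simp [Matrix.mul_assoc, nonsing_inv_mul _ hu', mul_nonsing_inv_cancel_left _ _ hu]
  · rw [h1] at hS
    conv_lhs => rw [← hS]
    simp [Matrix.mul_assoc, nonsing_inv_mul _ hu, mul_nonsing_inv_cancel_left _ _ hu']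

/-- a translate of a good Levi element by the lower radical is conjugate to it -/
theorem exists_conj_low [Finite F] {A : MI} {a : MK} (h : Good C A a) {Q₀ : Matrix κ ι F} {S₀ : MI}
    (hR : Rad C Q₀ S₀) : ∃ Q S, Rad C Q S ∧ low C Q S * lev C A a = low C Q₀ S₀ * lev C A a * low C Q S := by
  obtain ⟨hA, ha, hs, -, hl, -⟩ := h
  have hu := isUnit_det_of hA
  have hu' := isUnit_det_ad C hA
  let f : {x : Matrix κ ι F × MI // Rad C x.1 x.2} → {x : Matrix κ ι F × MI // Rad C x.1 x.2} := fun x =>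
    ⟨(x.1.1 - a * x.1.1 * A⁻¹, x.1.2 + ad C (x.1.1 - a * x.1.1 * A⁻¹) * (a * x.1.1 * A⁻¹) -
      (ad C A)⁻¹ * x.1.2 * A⁻¹), by
      have e := rad_conj C hA ha x.2
      have h0 := x.2
      unfold Rad at e h0 ⊢
      generalize a * x.1.1 * A⁻¹ = R at e ⊢
      generalize (ad C A)⁻¹ * x.1.2 * A⁻¹ = T at e ⊢
      calc _ = (x.1.2 + ad C x.1.2 + ad C x.1.1 * x.1.1) - (T + ad C T + ad C R * R) := by
            simp only [ad_sub, ad_add, ad_mul, ad_ad, Matrix.mul_sub, Matrix.sub_mul]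
            abel
        _ = 0 := by rw [e, h0, sub_zero]⟩
  have hf : Function.Injective f := by
    intro x y hxy
    have h1 : x.1.1 - a * x.1.1 * A⁻¹ = y.1.1 - a * y.1.1 * A⁻¹ :=
      congrArg (fun z => z.1.1) hxy
    have hQ : x.1.1 = y.1.1 := by
      refine sub_eq_zero.1 (hs _ ?_)
      have h2 : x.1.1 - y.1.1 = a * (x.1.1 - y.1.1) * A⁻¹ := by
        rw [Matrix.mul_sub, Matrix.sub_mul]
        exact sub_eq_sub_iff_sub_eq_sub.1 h1
      conv_rhs => rw [h2]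
      rw [nonsing_inv_mul_cancel_right _ _ hu]
    have h2 : x.1.2 + ad C (x.1.1 - a * x.1.1 * A⁻¹) * (a * x.1.1 * A⁻¹) - (ad C A)⁻¹ * x.1.2 * A⁻¹ =
        y.1.2 + ad C (y.1.1 - a * y.1.1 * A⁻¹) * (a * y.1.1 * A⁻¹) - (ad C A)⁻¹ * y.1.2 * A⁻¹ :=
      congrArg (fun z => z.1.2) hxy
    rw [hQ, add_sub_right_comm, add_sub_right_comm y.1.2, add_left_inj] at h2
    refine Subtype.ext (Prod.ext hQ (sub_eq_zero.1 (hl _ ?_)))
    have h3 : x.1.2 - y.1.2 = (ad C A)⁻¹ * (x.1.2 - y.1.2) * A⁻¹ := by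
      rw [Matrix.mul_sub, Matrix.sub_mul]
      exact sub_eq_sub_iff_sub_eq_sub.1 h2
    conv_lhs => rw [h3]
    simp [Matrix.mul_assoc, nonsing_inv_mul _ hu, mul_nonsing_inv_cancel_left _ _ hu']
  obtain ⟨⟨⟨Q, S⟩, hQS⟩, hx⟩ := Finite.injective_iff_surjective.1 hf ⟨(Q₀, S₀), hR⟩
  have hQ₀ : Q₀ = Q - a * Q * A⁻¹ := (congrArg (fun z => z.1.1) hx).symm
  have hS₀ : S₀ = S + ad C (Q - a * Q * A⁻¹) * (a * Q * A⁻¹) - (ad C A)⁻¹ * S * A⁻¹ :=
    (congrArg (fun z => z.1.2) hx).symm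
  refine ⟨Q, S, hQS, ?_⟩
  have e21 : Q * A = Q₀ * A + a * Q := by
    rw [hQ₀, Matrix.sub_mul, nonsing_inv_mul_cancel_right _ _ hu, sub_add_cancel]
  have e31 : S * A = S₀ * A + -(ad C Q₀ * a * Q) + (ad C A)⁻¹ * S := by
    rw [hS₀, Matrix.sub_mul, Matrix.add_mul, ← hQ₀, ← Matrix.mul_assoc (ad C Q₀),
      nonsing_inv_mul_cancel_right _ _ hu, nonsing_inv_mul_cancel_right _ _ hu, Matrix.mul_assoc (ad C Q₀)]
    abel
  have e32 : ad C Q * a = ad C Q₀ * a + (ad C A)⁻¹ * ad C Q := by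
    rw [hQ₀, ad_sub, Matrix.sub_mul, ad_mul, ad_mul, ad_inv C hA, Matrix.mul_assoc (ad C A)⁻¹,
      Matrix.mul_assoc (ad C Q), ha, Matrix.mul_one, sub_add_cancel]
  simp [low, lev, b3_mul, e21, e31, e32, add_comm]

/-- element of the group -/
noncomputable def mkUG (X : Matrix (ι ⊕ (κ ⊕ ι)) (ι ⊕ (κ ⊕ ι)) F) (hd : X.det = 1) (h : Iso C X) :
    UG (ι := ι) (κ := κ) C := ⟨⟨X, hd⟩, h⟩

/-- an element with invertible corner decomposes -/
theorem exists_decomp {g : BIG} (hg : Iso C g) (hM : (g.submatrix Sum.inl Sum.inl).det ≠ 0) :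
    ∃ (Q₀ : Matrix κ ι F) (S₀ : MI) (R : Matrix κ ι F) (T : MI), Rad C Q₀ S₀ ∧ Rad C R T ∧
      ad C (g.submatrix (Sum.inr ∘ Sum.inl) (Sum.inr ∘ Sum.inl) -
        g.submatrix (Sum.inr ∘ Sum.inl) Sum.inl * (g.submatrix Sum.inl Sum.inl)⁻¹ *
          g.submatrix Sum.inl (Sum.inr ∘ Sum.inl)) *
        (g.submatrix (Sum.inr ∘ Sum.inl) (Sum.inr ∘ Sum.inl) -
        g.submatrix (Sum.inr ∘ Sum.inl) Sum.inl * (g.submatrix Sum.inl Sum.inl)⁻¹ *
          g.submatrix Sum.inl (Sum.inr ∘ Sum.inl)) = 1 ∧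
      g = low C Q₀ S₀ * lev C (g.submatrix Sum.inl Sum.inl)
        (g.submatrix (Sum.inr ∘ Sum.inl) (Sum.inr ∘ Sum.inl) -
          g.submatrix (Sum.inr ∘ Sum.inl) Sum.inl * (g.submatrix Sum.inl Sum.inl)⁻¹ *
            g.submatrix Sum.inl (Sum.inr ∘ Sum.inl)) * (JJ * low C R T * JJ) := by
  obtain ⟨M, g12, g13, g21, g22, g23, g31, g32, g33, rfl⟩ := exists_b3 g
  have eM : (b3 M g12 g13 g21 g22 g23 g31 g32 g33).submatrix Sum.inl Sum.inl = M := by ext i j; simp [b3]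
  have e12 : (b3 M g12 g13 g21 g22 g23 g31 g32 g33).submatrix Sum.inl (Sum.inr ∘ Sum.inl) = g12 := by
    ext i j; simp [b3]
  have e21 : (b3 M g12 g13 g21 g22 g23 g31 g32 g33).submatrix (Sum.inr ∘ Sum.inl) Sum.inl = g21 := by
    ext i j; simp [b3]
  have e22 : (b3 M g12 g13 g21 g22 g23 g31 g32 g33).submatrix (Sum.inr ∘ Sum.inl) (Sum.inr ∘ Sum.inl) = g22 := by
    ext i j; simp [b3]
  rw [eM] at hM
  rw [eM, e12, e21, e22]
  have hu := isUnit_det_of hM
  have hu' := isUnit_det_ad C hM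
  set Q₀ := g21 * M⁻¹ with hQ₀
  set S₀ := g31 * M⁻¹ with hS₀
  have hg' : Iso C (b3 M g12 g13 g21 g22 g23 g31 g32 g33) := hg
  simp only [Iso, b3_ad, JJ, b3_mul, Matrix.mul_zero, Matrix.mul_one, zero_add, add_zero] at hg'
  obtain ⟨h11, -, -, -, -, -, -, -, -⟩ := b3_inj hg'
  have hR0 : Rad C Q₀ S₀ := by
    unfold Rad
    have e : S₀ + ad C S₀ + ad C Q₀ * Q₀ =
        ad C M⁻¹ * (ad C M * g31 + ad C g21 * g21 + ad C g31 * M) * M⁻¹ := by
      rw [hQ₀, hS₀, ad_mul, ad_mul, ad_inv C hM]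
      simp only [Matrix.mul_add, Matrix.add_mul, ← Matrix.mul_assoc, nonsing_inv_mul _ hu', Matrix.one_mul]
      rw [Matrix.mul_assoc _ M M⁻¹, mul_nonsing_inv _ hu, Matrix.mul_one]
      abel
    rw [e, show ad C M * g31 + ad C g21 * g21 + ad C g31 * M = 0 by rw [← h11]; abel, Matrix.mul_zero,
      Matrix.zero_mul]
  have hR0' : Rad C (-Q₀) (ad C S₀) := by
    unfold Rad at hR0 ⊢
    rw [ad_ad, ad_neg, Matrix.neg_mul, Matrix.mul_neg, neg_neg, ← hR0]; abel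
  have hinv : low C Q₀ S₀ * low C (-Q₀) (ad C S₀) = 1 := by
    have e : S₀ + ad C S₀ + ad C Q₀ * Q₀ = 0 := hR0
    have e' : S₀ + ad C Q₀ * Q₀ + ad C S₀ = 0 := by rw [← e]; abel
    simp [low, b3_mul, ← b3_one, ad_neg, e']
  set g' := low C (-Q₀) (ad C S₀) * b3 M g12 g13 g21 g22 g23 g31 g32 g33 with hg'def
  have hgg : b3 M g12 g13 g21 g22 g23 g31 g32 g33 = low C Q₀ S₀ * g' := by
    rw [hg'def, ← Matrix.mul_assoc, hinv, Matrix.one_mul]
  have hiso : Iso C g' := by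
    unfold Iso
    rw [hg'def, ad_mul, show ad C (b3 M g12 g13 g21 g22 g23 g31 g32 g33) * ad C (low C (-Q₀) (ad C S₀)) * JJ *
      (low C (-Q₀) (ad C S₀) * b3 M g12 g13 g21 g22 g23 g31 g32 g33) =
      ad C (b3 M g12 g13 g21 g22 g23 g31 g32 g33) * (ad C (low C (-Q₀) (ad C S₀)) * JJ * low C (-Q₀) (ad C S₀)) *
        b3 M g12 g13 g21 g22 g23 g31 g32 g33 by simp only [Matrix.mul_assoc], iso_low C hR0']
    exact hg
  obtain ⟨k23, k31, k32, k33, hk, hk31⟩ : ∃ k23 k31 k32 k33,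
      g' = b3 M g12 g13 0 (g22 - g21 * M⁻¹ * g12) k23 k31 k32 k33 ∧ k31 = 0 := by
    have e21' : -Q₀ * M + g21 = 0 := by
      rw [hQ₀, Matrix.neg_mul, nonsing_inv_mul_cancel_right _ _ hu, neg_add_cancel]
    have e31' : ad C S₀ * M + ad C Q₀ * g21 + g31 = 0 := by
      have e : (S₀ + ad C S₀ + ad C Q₀ * Q₀) * M = 0 := by rw [hR0, Matrix.zero_mul]
      have e1 : S₀ * M = g31 := by rw [hS₀, nonsing_inv_mul_cancel_right _ _ hu]
      have e2 : Q₀ * M = g21 := by rw [hQ₀, nonsing_inv_mul_cancel_right _ _ hu]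
      rw [Matrix.add_mul, Matrix.add_mul, e1, Matrix.mul_assoc, e2] at e
      rw [← e]; abel
    refine ⟨-Q₀ * g13 + g23, _, ad C S₀ * g12 + ad C Q₀ * g22 + g32, ad C S₀ * g13 + ad C Q₀ * g23 + g33, ?_, e31'⟩
    simp only [hg'def, low, b3_mul, Matrix.zero_mul, Matrix.one_mul, add_zero, ad_neg, neg_neg, e21']
    congr 1
    rw [hQ₀, Matrix.neg_mul]; abel
  subst hk31
  set D := g22 - g21 * M⁻¹ * g12
  have hk' := hiso
  simp only [Iso, hk, b3_ad, JJ, b3_mul, ad_zero, Matrix.mul_zero, Matrix.zero_mul, Matrix.mul_one,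
    zero_add, add_zero] at hk'
  obtain ⟨-, h12, h13, -, h22, h23, -, -, h33⟩ := b3_inj hk'
  have e32' : k32 = 0 := by
    calc k32 = (ad C M)⁻¹ * (ad C M * k32) := by rw [nonsing_inv_mul_cancel_left _ _ hu']
      _ = 0 := by rw [h12, Matrix.mul_zero]
  have e33' : k33 = (ad C M)⁻¹ := by
    calc k33 = (ad C M)⁻¹ * (ad C M * k33) := by rw [nonsing_inv_mul_cancel_left _ _ hu']
      _ = _ := by rw [h13, Matrix.mul_one]
  subst e32' e33'
  simp only [ad_zero, Matrix.mul_zero, Matrix.zero_mul, zero_add, add_zero] at h22 h23 h33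
  set Y := M⁻¹ * g12 with hY
  set T := M⁻¹ * g13 with hT
  have hD' : D * ad C D = 1 := mul_eq_one_comm.1 h22
  have eYad : ad C Y = ad C g12 * (ad C M)⁻¹ := by rw [hY, ad_mul, ad_inv C hM]
  have e23' : k23 = -(D * ad C Y) := by
    calc k23 = D * (ad C D * k23) := by rw [← Matrix.mul_assoc, hD', Matrix.one_mul]
      _ = D * (-(ad C g12 * (ad C M)⁻¹)) := by rw [eq_neg_of_add_eq_zero_left h23]
      _ = _ := by rw [eYad, Matrix.mul_neg]
  refine ⟨Q₀, S₀, -ad C Y, T, hR0, ?_, h22, ?_⟩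
  · unfold Rad
    have eT : ad C T = ad C g13 * (ad C M)⁻¹ := by rw [hT, ad_mul, ad_inv C hM]
    have e1 : ad C ((ad C M)⁻¹) = M⁻¹ := by rw [← ad_inv C hM, ad_ad]
    have e2 : ad C k23 * k23 = Y * ad C Y := by
      rw [e23', ad_neg, Matrix.neg_mul, Matrix.mul_neg, neg_neg, ad_mul, ad_ad,
        show Y * ad C D * (D * ad C Y) = Y * ((ad C D * D) * ad C Y) by simp only [Matrix.mul_assoc], h22,
        Matrix.one_mul]
    rw [ad_neg, ad_ad, Matrix.neg_mul, Matrix.mul_neg, neg_neg, eT, ← e2]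
    rw [e1] at h33
    rw [← h33, hT]
    abel
  · rw [hgg, Matrix.mul_assoc (low C Q₀ S₀)]
    congr 1
    rw [hk, e23', low, JJ_conj, lev, b3_mul]
    simp [ad_neg, ad_ad, hY, hT, mul_nonsing_inv_cancel_left _ _ hu]

/-- the Schur complement of the corner -/
noncomputable def schur (g : BIG) : MK :=
  g.submatrix (Sum.inr ∘ Sum.inl) (Sum.inr ∘ Sum.inl) -
    g.submatrix (Sum.inr ∘ Sum.inl) Sum.inl * (g.submatrix Sum.inl Sum.inl)⁻¹ *
      g.submatrix Sum.inl (Sum.inr ∘ Sum.inl)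

theorem det_eq_of_iso {g : BIG} (hg : Iso C g) (hM : (g.submatrix Sum.inl Sum.inl).det ≠ 0) :
    g.det = psi C (g.submatrix Sum.inl Sum.inl).det * (schur g).det := by
  obtain ⟨Q₀, S₀, R, T, -, -, -, h⟩ := exists_decomp hg hM
  conv_lhs => rw [h]
  rw [det_mul, det_mul, det_low, det_conj_JJ, det_low, det_lev C hM, mul_one, one_mul]
  rfl

theorem comm_identity {G : Type*} [Group G] {v x p u h k : G} (hh : h * x⁻¹ = v * x⁻¹ * h)
    (hk : k * (p * x * p⁻¹) = p * x * p⁻¹ * u * k) :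
    ∃ a b : G, v * x⁻¹ * (p * x * p⁻¹ * u) = a * b * a⁻¹ * b⁻¹ := by
  refine ⟨h * x⁻¹ * h⁻¹, k * p * h⁻¹, ?_⟩
  rw [eq_mul_inv_of_mul_eq hh.symm, eq_mul_inv_of_mul_eq hk.symm]
  group

/-- the matrix criterion -/
theorem commutator_of_levi [Finite F] (g : UG (ι := ι) (κ := κ) C) {A P : MI} {a b : MK}
    (hG : Good C A a) (hP : P.det ≠ 0) (hb : ad C b * b = 1)
    (hda : psi C A.det * a.det = 1) (hdb : psi C P.det * b.det = 1)
    (hM : A * (g.1.1).submatrix Sum.inl Sum.inl * P = P * A) (hD : a * schur g.1.1 * b = b * a) :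
    ∃ x y : UG (ι := ι) (κ := κ) C, g = x * y * x⁻¹ * y⁻¹ := by
  have hA : A.det ≠ 0 := hG.1
  have ha : ad C a * a = 1 := hG.2.1
  have hMd : ((g.1.1).submatrix Sum.inl Sum.inl).det ≠ 0 := by
    intro h0
    have := congrArg Matrix.det hM
    rw [det_mul, det_mul, h0, mul_zero, zero_mul, det_mul] at this
    exact mul_ne_zero hP hA this.symm
  obtain ⟨Q₀, S₀, R, T, hR0, hR, hDu, hdec⟩ := exists_decomp g.2 hMd
  have hAinv : (A⁻¹).det ≠ 0 := by
    rw [det_nonsing_inv, Ring.inverse_eq_inv']; exact inv_ne_zero hA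
  have hB : (P * A * P⁻¹).det ≠ 0 := (hG.conj hP hb).1
  have hc : ad C (b * a * ad C b) * (b * a * ad C b) = 1 := (hG.conj hP hb).2.1
  -- lower part
  obtain ⟨Qh, Sh, hQh, hh⟩ := exists_conj_low hG.inv hR0
  -- upper part, transported
  have hZ := (hG.conj hP hb).star
  have hR' := rad_conj C hZ.1 hc hR
  obtain ⟨Qk, Sk, hQk, hk⟩ := exists_conj_low hZ hR'
  rw [← lev_mul_low C _ hZ.1 _ hc] at hk
  have hJl : JJ * lev C ((ad C (P * A * P⁻¹))⁻¹) (b * a * ad C b) * JJ =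
      lev C (P * A * P⁻¹) (b * a * ad C b) := by
    rw [lev, JJ_conj, lev, ad_inv C (by rw [det_ad]; exact (map_ne_zero C.bar).2 hB), ad_ad,
      nonsing_inv_nonsing_inv _ (isUnit_det_of hB)]
  have hk2 : JJ * low C Qk Sk * JJ * lev C (P * A * P⁻¹) (b * a * ad C b) =
      lev C (P * A * P⁻¹) (b * a * ad C b) * (JJ * low C R T * JJ) * (JJ * low C Qk Sk * JJ) := by
    rw [← hJl]
    calc _ = JJ * (low C Qk Sk * ((JJ * JJ) * lev C ((ad C (P * A * P⁻¹))⁻¹) (b * a * ad C b))) * JJ := by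
          simp only [Matrix.mul_assoc]
      _ = JJ * (lev C ((ad C (P * A * P⁻¹))⁻¹) (b * a * ad C b) * low C R T * low C Qk Sk) * JJ := by
          rw [JJ_sq, Matrix.one_mul, hk]
      _ = JJ * (lev C ((ad C (P * A * P⁻¹))⁻¹) (b * a * ad C b) * ((JJ * JJ) * (low C R T *
            ((JJ * JJ) * low C Qk Sk)))) * JJ := by
          rw [JJ_sq, Matrix.one_mul, Matrix.one_mul]; simp only [Matrix.mul_assoc]
      _ = _ := by simp only [Matrix.mul_assoc]
  have hlowd := fun (Q : Matrix κ ι F) (S : MI) => (det_conj_JJ (low C Q S)).trans (det_low C Q S)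
  set v := mkUG (low C Q₀ S₀) (det_low C _ _) (iso_low C hR0)
  set x := mkUG (lev C A a) (by rw [det_lev C hA, hda]) (iso_lev C hA ha)
  set p := mkUG (lev C P b) (by rw [det_lev C hP, hdb]) (iso_lev C hP hb)
  set u := mkUG (JJ * low C R T * JJ) (hlowd _ _) (iso_conj C (iso_low C hR))
  set h := mkUG (low C Qh Sh) (det_low C _ _) (iso_low C hQh)
  set k := mkUG (JJ * low C Qk Sk * JJ) (hlowd _ _) (iso_conj C (iso_low C hQk))
  have hxi : ((x⁻¹ : UG (ι := ι) (κ := κ) C)).1.1 = lev C A⁻¹ (ad C a) := by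
    refine left_inv_eq_right_inv (a := lev C A a) ?_ ?_
    · show ((x⁻¹ * x : UG (ι := ι) (κ := κ) C)).1.1 = 1
      rw [inv_mul_cancel]; rfl
    · rw [lev_mul, mul_nonsing_inv A (isUnit_det_of hA), mul_eq_one_comm.1 ha, lev_one]
  have hpi : ((p⁻¹ : UG (ι := ι) (κ := κ) C)).1.1 = lev C P⁻¹ (ad C b) := by
    refine left_inv_eq_right_inv (a := lev C P b) ?_ ?_
    · show ((p⁻¹ * p : UG (ι := ι) (κ := κ) C)).1.1 = 1
      rw [inv_mul_cancel]; rfl
    · rw [lev_mul, mul_nonsing_inv P (isUnit_det_of hP), mul_eq_one_comm.1 hb, lev_one]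
  have hy : (p * x * p⁻¹ : UG (ι := ι) (κ := κ) C).1.1 = lev C (P * A * P⁻¹) (b * a * ad C b) := by
    show lev C P b * lev C A a * (p⁻¹ : UG (ι := ι) (κ := κ) C).1.1 = _
    rw [hpi, lev_mul, lev_mul]
  obtain ⟨c, d, hcd⟩ := comm_identity (v := v) (x := x) (p := p) (u := u) (h := h) (k := k)
    (Subtype.ext (Subtype.ext (by
      show low C Qh Sh * (x⁻¹ : UG (ι := ι) (κ := κ) C).1.1 =
        low C Q₀ S₀ * (x⁻¹ : UG (ι := ι) (κ := κ) C).1.1 * low C Qh Sh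
      rw [hxi]; exact hh)))
    (Subtype.ext (Subtype.ext (by
      show JJ * low C Qk Sk * JJ * (p * x * p⁻¹ : UG (ι := ι) (κ := κ) C).1.1 =
        (p * x * p⁻¹ : UG (ι := ι) (κ := κ) C).1.1 * (JJ * low C R T * JJ) * (JJ * low C Qk Sk * JJ)
      rw [hy]; exact hk2)))
  refine ⟨c, d, ?_⟩
  rw [← hcd]
  refine Subtype.ext (Subtype.ext ?_)
  show g.1.1 = low C Q₀ S₀ * (x⁻¹ : UG (ι := ι) (κ := κ) C).1.1 *
    ((p * x * p⁻¹ : UG (ι := ι) (κ := κ) C).1.1 * (JJ * low C R T * JJ))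
  rw [hxi, hy, Matrix.mul_assoc (low C Q₀ S₀), ← Matrix.mul_assoc (lev C A⁻¹ (ad C a)), lev_mul,
    ← Matrix.mul_assoc (low C Q₀ S₀)]
  have eM : A⁻¹ * (P * A * P⁻¹) = (g.1.1).submatrix Sum.inl Sum.inl := by
    rw [← hM, mul_nonsing_inv_cancel_right _ _ (isUnit_det_of hP),
      nonsing_inv_mul_cancel_left _ _ (isUnit_det_of hA)]
  have eD : ad C a * (b * a * ad C b) = schur g.1.1 := by
    rw [← hD, Matrix.mul_assoc (a * schur g.1.1), mul_eq_one_comm.1 hb, Matrix.mul_one, ← Matrix.mul_assoc,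
      ha, Matrix.one_mul]
  rw [eM, eD]
  exact hdec

end CfsgLib.OreSu
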