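import Cfsg.Agent.Lib.Lie.OreSu.Piece

/-!
Every non-degenerate invariant space of a unitary transformation contains a non-degenerate primary cyclic
space.
-/

set_option autoImplicit false
set_option linter.unusedSectionVars false

namespace CfsgLib.OreSu.Piece

open CfsgLib.SU Polynomial Matrix
open CfsgLib.Perm.Elusive.HermIso (dualPoly)

variable {F : Type*} [Field F] {q n : ℕ} {C : UCtx F q} {G : Matrix (Fin n) (Fin n) F}

variable (hG : ∀ u v : Fin n → F, C.form (G *ᵥ u) (G *ᵥ v) = C.form u v)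
include hG

theorem isom_pow (i : ℕ) (u v : Fin n → F) : C.form (G ^ i *ᵥ u) (G ^ i *ᵥ v) = C.form u v := by
  induction i with
  | zero => simp
  | succ i ih => rw [pow_succ', ← Matrix.mulVec_mulVec, ← Matrix.mulVec_mulVec, hG, ih]

theorem det_ne : G.det ≠ 0 := by
  intro h0
  obtain ⟨v, hv, hGv⟩ := Matrix.exists_mulVec_eq_zero_iff.2 h0
  exact hv (C.eq_zero_of_form fun w => by rw [← hG, hGv, C.form_zero_left])

/-- the inverse is a polynomial -/
theorem exists_inv_poly : ∃ Y : F[X], G * aeval G Y = 1 := by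
  have h0 : G.charpoly.coeff 0 ≠ 0 := by
    intro e
    apply det_ne hG
    rw [Matrix.det_eq_sign_charpoly_coeff, e, mul_zero]
  refine ⟨-(Polynomial.C (G.charpoly.coeff 0)⁻¹ * G.charpoly.divX), ?_⟩
  have e : aeval G G.charpoly = 0 := Matrix.aeval_self_charpoly G
  rw [← X_mul_divX_add G.charpoly, map_add, map_mul, aeval_X, aeval_C] at e
  rw [map_neg, map_mul, aeval_C, Matrix.mul_neg, ← Algebra.smul_def, Matrix.mul_smul,
    eq_neg_of_add_eq_zero_left e, smul_neg, neg_neg, Algebra.algebraMap_eq_smul_one, smul_smul,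
    inv_mul_cancel₀ h0, one_smul]

/-- the adjoint of a polynomial in the transformation is such a polynomial -/
theorem exists_adj (p : F[X]) : ∃ p' : F[X],
    (∀ u w, C.form (aeval G p *ᵥ u) w = C.form u (aeval G p' *ᵥ w)) ∧ dualPoly C p ∣ p' := by
  obtain ⟨Y, hY⟩ := exists_inv_poly hG
  refine ⟨dualPoly C p * Y ^ p.natDegree, fun u w => ?_, dvd_mul_right _ _⟩
  have hw : w = G ^ p.natDegree *ᵥ (aeval G Y ^ p.natDegree *ᵥ w) := by
    have hc : Commute G (aeval G Y) := by
      have h := (Commute.all X Y).map (aeval G)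
      rwa [aeval_X] at h
    rw [Matrix.mulVec_mulVec, ← hc.mul_pow, hY, one_pow, Matrix.one_mulVec]
  rw [map_mul, map_pow, ← Matrix.mulVec_mulVec]
  conv_lhs => rw [hw]
  generalize aeval G Y ^ p.natDegree *ᵥ w = w'
  rw [aeval_dualPoly, aeval_eq_sum_range, Matrix.sum_mulVec, Matrix.sum_mulVec, C.form_sum_left]
  rw [← C.bar_form (∑ i ∈ Finset.range (p.natDegree + 1), (C.bar (p.coeff i) • G ^ (p.natDegree - i)) *ᵥ w') u,
    C.form_sum_left, map_sum]
  refine Finset.sum_congr rfl fun i hi => ?_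
  have hi' : i ≤ p.natDegree := Nat.lt_succ_iff.1 (Finset.mem_range.1 hi)
  rw [Matrix.smul_mulVec, Matrix.smul_mulVec, C.form_smul_left, C.form_smul_left, map_mul, C.bar_bar,
    C.bar_form]
  congr 1
  conv_lhs => rw [show p.natDegree = i + (p.natDegree - i) by omega, pow_add, ← Matrix.mulVec_mulVec]
  exact isom_pow hG _ _ _

theorem orth_of_dual {p : F[X]} {v w : Fin n → F} (h : aeval G (dualPoly C p) *ᵥ w = 0) :
    C.form (aeval G p *ᵥ v) w = 0 := by
  obtain ⟨p', hp', ⟨s, hs⟩⟩ := exists_adj hG p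
  rw [hp', hs, mul_comm, map_mul, ← Matrix.mulVec_mulVec, h, Matrix.mulVec_zero, C.form_zero_right]

/-- the criterion for a non-degenerate cyclic space -/
theorem cyc_of {z : Fin n → F} {φ : F[X]} (hm : φ.Monic) (hz : aeval G φ *ᵥ z = 0)
    (hsep : ∀ g w : F[X], Irreducible g → φ = g * w → ∃ R : F[X], C.form (aeval G w *ᵥ z) (aeval G R *ᵥ z) ≠ 0) :
    Cyc C G z φ := by
  classical
  let I : Ideal F[X] :=
    { carrier := {p | ∀ R : F[X], C.form (aeval G p *ᵥ z) (aeval G R *ᵥ z) = 0}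
      add_mem' := fun {a b} ha hb R => by rw [map_add, Matrix.add_mulVec, C.form_add_left, ha, hb, add_zero]
      zero_mem' := fun R => by rw [map_zero, Matrix.zero_mulVec, C.form_zero_left]
      smul_mem' := fun s p hp R => by
        obtain ⟨s', hs', -⟩ := exists_adj hG s
        rw [smul_eq_mul, map_mul, ← Matrix.mulVec_mulVec, hs', Matrix.mulVec_mulVec, ← map_mul]
        exact hp _ }
  have hker : ∀ p : F[X], p ∈ I → φ ∣ p := by
    intro p hp
    obtain ⟨g0, hg0⟩ := (inferInstance : IsPrincipalIdealRing F[X]).principal I |>.principal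
    have hmem : ∀ {x : F[X]}, x ∈ I ↔ g0 ∣ x := fun {x} => by
      rw [hg0, Ideal.submodule_span_eq, Ideal.mem_span_singleton]
    have hφI : φ ∈ I := fun R => by rw [hz, C.form_zero_left]
    obtain ⟨w, hw⟩ := hmem.1 hφI
    by_cases hu : IsUnit w
    · refine dvd_trans ?_ (hmem.1 hp)
      rw [hw]; exact (associated_mul_unit_left g0 w hu).dvd
    · obtain ⟨g, hg, w', rfl⟩ := WfDvdMonoid.exists_irreducible_factor hu
        (fun e => hm.ne_zero (by rw [hw, e, mul_zero]))
      obtain ⟨R, hR⟩ := hsep g (g0 * w') hg (by rw [hw]; ring)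
      exact absurd ((hmem.2 (dvd_mul_right g0 w') : g0 * w' ∈ I) R) hR
  refine ⟨hG, hm, fun p => ⟨fun hp => hker p fun R => by rw [hp, C.form_zero_left], ?_⟩,
    fun p hp => hker p fun R => ?_⟩
  · rintro ⟨s, rfl⟩
    rw [mul_comm, map_mul, ← Matrix.mulVec_mulVec, hz, Matrix.mulVec_zero]
  · induction R using Polynomial.induction_on' with
    | add a b ha hb => rw [map_add, Matrix.add_mulVec, C.form_add_right, ha, hb, add_zero]
    | monomial i c =>
      rw [aeval_monomial, ← Algebra.smul_def, Matrix.smul_mulVec, C.form_smul_right, hp i, mul_zero]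

omit hG in
theorem aeval_mem {U : Submodule F (Fin n → F)} (hU : ∀ u ∈ U, G *ᵥ u ∈ U) {u : Fin n → F} (hu : u ∈ U)
    (p : F[X]) : aeval G p *ᵥ u ∈ U := by
  induction p using Polynomial.induction_on' with
  | add a b ha hb => rw [map_add, Matrix.add_mulVec]; exact add_mem ha hb
  | monomial i c =>
    rw [aeval_monomial, ← Algebra.smul_def, Matrix.smul_mulVec]
    refine U.smul_mem c ?_
    induction i with
    | zero => simpa using hu
    | succ i ih => rw [pow_succ', ← Matrix.mulVec_mulVec]; exact hU _ ih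

omit hG in
theorem dual_irreducible {f : F[X]} (hf : Irreducible f) (hm : f.Monic) (hf0 : f.coeff 0 ≠ 0) :
    Irreducible (dualPoly C f) := by
  have hd := natDegree_dualPoly C hf0
  have hc : (dualPoly C f).coeff 0 = 1 := by
    rw [coeff_dualPoly C _ (Nat.zero_le _), Nat.sub_zero, hm.coeff_natDegree, map_one]
  have hne : dualPoly C f ≠ 0 := fun e => by rw [e, coeff_zero] at hc; exact zero_ne_one hc
  refine ⟨fun hu => ?_, fun a b hab => ?_⟩
  · have h := natDegree_eq_zero_of_isUnit hu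
    rw [hd] at h
    exact (Nat.pos_iff_ne_zero.1 hf.natDegree_pos) h
  have hc' := hc
  rw [hab, mul_coeff_zero] at hc'
  have ha0 := left_ne_zero_of_mul_eq_one hc'
  have hb0 := right_ne_zero_of_mul_eq_one hc'
  have e : f = dualPoly C a * dualPoly C b := by rw [← dualPoly_mul, ← hab, dualPoly_dualPoly C hf0]
  have hunit : ∀ {x : F[X]}, x.coeff 0 ≠ 0 → IsUnit (dualPoly C x) → IsUnit x := by
    intro x hx hu
    have h := natDegree_eq_zero_of_isUnit hu
    rw [natDegree_dualPoly C hx] at h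
    rw [eq_C_of_natDegree_eq_zero h]
    exact (isUnit_iff_ne_zero.2 hx).map Polynomial.C
  rcases hf.isUnit_or_isUnit e with h | h
  · exact Or.inl (hunit ha0 h)
  · exact Or.inr (hunit hb0 h)

/-- a self-dual polynomial cuts out a non-degenerate component -/
theorem comp_nondeg {U : Submodule F (Fin n → F)} (hU : ∀ u ∈ U, G *ᵥ u ∈ U)
    (hnd : ∀ u ∈ U, (∀ v ∈ U, C.form u v = 0) → u = 0) {φ0 P Q : F[X]} (hd : φ0 ∣ dualPoly C φ0)
    {N : ℕ} (hP : P ∣ φ0 ^ N) (hco : IsCoprime (φ0 ^ N) Q) (hPQ : G.charpoly = P * Q) {w : Fin n → F}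
    (hw : w ∈ U) (hwN : aeval G (φ0 ^ N) *ᵥ w = 0)
    (hperp : ∀ v ∈ U, aeval G (φ0 ^ N) *ᵥ v = 0 → C.form w v = 0) : w = 0 := by
  refine hnd w hw fun u hu => ?_
  have hcoP : IsCoprime P Q := IsCoprime.of_isCoprime_of_dvd_left hco hP
  obtain ⟨s, t, hst⟩ := hcoP
  obtain ⟨a, b, hab⟩ := hco
  obtain ⟨P', hP'⟩ := hP
  have hu' : u = aeval G (s * P) *ᵥ u + aeval G (t * Q) *ᵥ u := by
    rw [← Matrix.add_mulVec, ← map_add, hst, map_one, Matrix.one_mulVec]
  rw [hu', C.form_add_right, hperp _ (aeval_mem hU hu (t * Q)) ?_, add_zero]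
  · refine C.form_swap_zero ?_
    have e : aeval G (s * P) *ᵥ u = aeval G (φ0 ^ N) *ᵥ (aeval G (a * (s * P)) *ᵥ u) := by
      rw [Matrix.mulVec_mulVec, ← map_mul]
      conv_lhs => rw [show s * P = φ0 ^ N * (a * (s * P)) + b * s * G.charpoly by
        rw [hPQ]; linear_combination -(s * P) * hab]
      rw [map_add, map_mul _ (b * s), Matrix.aeval_self_charpoly, Matrix.mul_zero, add_zero]
    rw [e]
    refine orth_of_dual hG ?_
    obtain ⟨c, hc⟩ := hd
    rw [dualPoly_pow, hc, mul_pow, mul_comm, map_mul, ← Matrix.mulVec_mulVec, hwN, Matrix.mulVec_zero]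
  · rw [Matrix.mulVec_mulVec, ← map_mul, show φ0 ^ N * (t * Q) = t * P' * G.charpoly by
      rw [hPQ, hP']; ring, map_mul, Matrix.aeval_self_charpoly, Matrix.mul_zero, Matrix.zero_mulVec]

/-- at most one eigenvalue of norm one, and then purely -/
def POK (C : UCtx F q) (φ : F[X]) : Prop :=
  ∀ ω : F, ω * C.bar ω = 1 → φ.eval ω = 0 → φ = (X - Polynomial.C ω) ^ φ.natDegree

/-- existence of a primary non-degenerate cyclic space -/
theorem exists_cyc {U : Submodule F (Fin n → F)} (hU : ∀ u ∈ U, G *ᵥ u ∈ U)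
    (hnd : ∀ u ∈ U, (∀ v ∈ U, C.form u v = 0) → u = 0) (hne : U ≠ ⊥) :
    ∃ (z : Fin n → F) (φ : F[X]), z ∈ U ∧ 1 ≤ φ.natDegree ∧ Cyc C G z φ ∧ POK C φ := by
  classical
  -- an irreducible factor with a root in the space
  obtain ⟨f, x0, hfi, hfm, hx0U, hx00, hfx⟩ : ∃ (f : F[X]) (x : Fin n → F),
      Irreducible f ∧ f.Monic ∧ x ∈ U ∧ x ≠ 0 ∧ aeval G f *ᵥ x = 0 := by
    obtain ⟨u, huU, hu⟩ := U.exists_mem_ne_zero_of_ne_bot hne
    suffices h : ∀ p : F[X], p ≠ 0 → ∀ u ∈ U, u ≠ 0 → aeval G p *ᵥ u = 0 →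
        ∃ (f : F[X]) (x : Fin n → F), Irreducible f ∧ f.Monic ∧ x ∈ U ∧ x ≠ 0 ∧ aeval G f *ᵥ x = 0 from
      h _ G.charpoly_monic.ne_zero u huU hu (by rw [Matrix.aeval_self_charpoly, Matrix.zero_mulVec])
    intro p
    induction p using WfDvdMonoid.induction_on_irreducible with
    | zero => exact fun h => absurd rfl h
    | unit p hp =>
      intro _ u _ hu h0
      exfalso
      obtain ⟨v, hv⟩ := hp.exists_left_inv
      apply hu
      rw [← Matrix.one_mulVec u, ← map_one (aeval (R := F) G), ← hv, map_mul, ← Matrix.mulVec_mulVec, h0,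
        Matrix.mulVec_zero]
    | mul p f hp hf ih =>
      intro _ u huU hu h0
      by_cases hz : aeval G p *ᵥ u = 0
      · exact ih hp u huU hu hz
      · refine ⟨normalize f, aeval G p *ᵥ u, (normalize_associated f).symm.irreducible hf,
          monic_normalize hf.ne_zero, aeval_mem hU huU p, hz, ?_⟩
        rw [normalize_apply, Matrix.mulVec_mulVec, ← map_mul, show f * ↑(normUnit f) * p = ↑(normUnit f) * (f * p) by ring,
          map_mul, ← Matrix.mulVec_mulVec, h0, Matrix.mulVec_zero]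
  obtain ⟨Y, hY⟩ := exists_inv_poly hG
  have hf0 : f.coeff 0 ≠ 0 := by
    intro e
    obtain ⟨w, hw⟩ := X_dvd_iff.2 e
    have hu := (hfi.isUnit_or_isUnit hw).resolve_left not_isUnit_X
    obtain ⟨v, hv⟩ := hu.exists_left_inv
    apply hx00
    have e1 : G *ᵥ x0 = 0 := by
      rw [← aeval_X (R := F) G, show (X : F[X]) = v * f by rw [hw]; linear_combination -X * hv,
        map_mul, ← Matrix.mulVec_mulVec, hfx, Matrix.mulVec_zero]
    refine C.eq_zero_of_form fun v => ?_
    rw [← hG, e1, C.form_zero_left]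
  set fs := normalize (dualPoly C f) with hfs
  have hdi := dual_irreducible (C := C) hfi hfm hf0
  have hfsi : Irreducible fs := (normalize_associated _).symm.irreducible hdi
  have hfsm : fs.Monic := monic_normalize hdi.ne_zero
  have hfd : Associated (dualPoly C f) fs := (normalize_associated _).symm
  have hfsd : f ∣ dualPoly C fs := by
    obtain ⟨u, hu⟩ := hfd
    rw [← hu, dualPoly_mul, dualPoly_dualPoly C hf0]
    exact dvd_mul_right _ _
  have heq : fs = f ∨ IsCoprime f fs := by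
    by_cases h : f ∣ fs
    · exact Or.inl (eq_of_monic_of_associated hfsm hfm (hfi.associated_of_dvd hfsi h).symm)
    · exact Or.inr (hfi.coprime_iff_not_dvd.2 h)
  have hdf : ∀ a : ℕ, fs ^ a ∣ dualPoly C (f ^ a) := fun a => by
    rw [dualPoly_pow]; exact pow_dvd_pow_of_dvd hfd.symm.dvd a
  have hfd' : ∀ a : ℕ, dualPoly C (f ^ a) ∣ fs ^ a := fun a => by
    rw [dualPoly_pow]; exact pow_dvd_pow_of_dvd hfd.dvd a
  -- the component
  set φ0 := if fs = f then f else f * fs with hφ0
  have hfdvd : f ∣ φ0 := by rw [hφ0]; split_ifs <;> simp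
  have hfsdvd : fs ∣ φ0 := by
    rw [hφ0]; split_ifs with h
    · rw [h]
    · exact dvd_mul_left _ _
  have hφd : φ0 ∣ dualPoly C φ0 := by
    rw [hφ0]; split_ifs with h
    · exact h ▸ (hfd.symm.dvd : fs ∣ dualPoly C f) |>.trans dvd_rfl
    · rw [dualPoly_mul, mul_comm]
      exact mul_dvd_mul hfd.symm.dvd hfsd
  obtain ⟨a, Q1, hQ1, hch⟩ := WfDvdMonoid.max_power_factor G.charpoly_monic.ne_zero hfi
  obtain ⟨b, Q, hQ, hQ1'⟩ := WfDvdMonoid.max_power_factor
    (fun e => hQ1 (by rw [e]; exact dvd_zero _) : Q1 ≠ 0) hfsi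
  have hfQ : ¬ f ∣ Q := fun h => hQ1 (by rw [hQ1']; exact dvd_mul_of_dvd_right h _)
  set N := a + b + 1 with hN
  have hPdvd : f ^ a * fs ^ b ∣ φ0 ^ N := by
    refine dvd_trans ?_ (pow_dvd_pow φ0 (show a + b ≤ N by omega))
    rw [pow_add]
    exact mul_dvd_mul (pow_dvd_pow_of_dvd hfdvd a) (pow_dvd_pow_of_dvd hfsdvd b)
  have hcoQ : IsCoprime (φ0 ^ N) Q := by
    refine IsCoprime.pow_left ?_
    rw [hφ0]; split_ifs
    · exact hfi.coprime_iff_not_dvd.2 hfQ
    · exact IsCoprime.mul_left (hfi.coprime_iff_not_dvd.2 hfQ) (hfsi.coprime_iff_not_dvd.2 hQ)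
  have hW : ∀ w ∈ U, aeval G (φ0 ^ N) *ᵥ w = 0 →
      (∀ v ∈ U, aeval G (φ0 ^ N) *ᵥ v = 0 → C.form w v = 0) → w = 0 := fun w =>
    comp_nondeg hG hU hnd hφd hPdvd hcoQ (by rw [hch, hQ1', mul_assoc])
  have hkill : ∀ {p : F[X]} {v : Fin n → F}, p ∣ φ0 ^ N → aeval G p *ᵥ v = 0 → aeval G (φ0 ^ N) *ᵥ v = 0 := by
    rintro p v ⟨s, hs⟩ hv
    rw [hs, mul_comm, map_mul, ← Matrix.mulVec_mulVec, hv, Matrix.mulVec_zero]
  have hx0W : aeval G (φ0 ^ N) *ᵥ x0 = 0 :=
    hkill (dvd_trans hfdvd (dvd_pow_self _ (by omega))) hfx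
  have hroot : ∀ ω : F, ω * C.bar ω = 1 → f.eval ω = 0 → f = X - Polynomial.C ω ∧ fs = f := by
    intro ω hω h0
    have hX : f = X - Polynomial.C ω :=
      eq_of_monic_of_associated hfm (monic_X_sub_C ω)
        ((irreducible_X_sub_C ω).associated_of_dvd hfi (dvd_iff_isRoot.2 h0)).symm
    refine ⟨hX, ?_⟩
    rcases heq with h | h
    · exact h
    exfalso
    have hs : fs = X - Polynomial.C ω := by
      refine eq_of_monic_of_associated hfsm (monic_X_sub_C ω)
        ((irreducible_X_sub_C ω).associated_of_dvd hfsi ?_).symm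
      refine dvd_trans (dvd_iff_isRoot.2 ?_) hfd.dvd
      rw [hX]
      have e : dualPoly C (X - Polynomial.C ω) = 1 - Polynomial.C (C.bar ω) * X := by
        rw [dualPoly, Polynomial.map_sub, map_X, map_C, reverse, natDegree_X_sub_C, reflect_sub]
        simp [reflect_C, reflect_one_X]
      rw [IsRoot.def, e]
      simp only [eval_sub, eval_one, eval_mul, eval_C, eval_X]
      linear_combination -hω
    exact hfi.not_isUnit (isCoprime_self.1 (by rwa [hs, ← hX] at h))
  by_cases hsd : fs = f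
  · -- self-dual factor
    have hφf : φ0 = f := by rw [hφ0, if_pos hsd]
    rw [hφf] at hW hx0W hkill
    have hex : ∃ e, ∀ w ∈ U, aeval G (f ^ N) *ᵥ w = 0 → aeval G (f ^ e) *ᵥ w = 0 := ⟨N, fun _ _ h => h⟩
    set e := Nat.find hex with he
    have hespec := Nat.find_spec hex
    have hepos : 0 < e := by
      refine Nat.pos_of_ne_zero fun e0 => hx00 ?_
      have := hespec x0 hx0U hx0W
      rwa [← he, e0, pow_zero, map_one, Matrix.one_mulVec] at this
    obtain ⟨x, hxU, hxW, hx⟩ : ∃ x ∈ U, aeval G (f ^ N) *ᵥ x = 0 ∧ aeval G (f ^ (e - 1)) *ᵥ x ≠ 0 := by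
      have := Nat.find_min hex (show e - 1 < Nat.find hex by omega)
      simp only [not_forall, exists_prop] at this
      exact this
    obtain ⟨z, hzU, hzW, hz⟩ : ∃ z ∈ U, aeval G (f ^ N) *ᵥ z = 0 ∧
        C.form (aeval G (f ^ (e - 1)) *ᵥ z) z ≠ 0 := by
      by_contra hcon
      simp only [not_exists, not_and, not_not] at hcon
      refine hx (hW _ (aeval_mem hU hxU _) ?_ fun v hvU hvW => ?_)
      · rw [Matrix.mulVec_mulVec, ← map_mul, mul_comm, map_mul, ← Matrix.mulVec_mulVec, hxW, Matrix.mulVec_zero]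
      obtain ⟨θ, hθ⟩ := C.exists_not_fixed
      have key : ∀ t : F, C.bar t * C.form (aeval G (f ^ (e - 1)) *ᵥ x) v +
          t * C.form (aeval G (f ^ (e - 1)) *ᵥ v) x = 0 := by
        intro t
        have := hcon (x + t • v) (add_mem hxU (U.smul_mem t hvU))
          (by rw [Matrix.mulVec_add, Matrix.mulVec_smul, hxW, hvW, smul_zero, add_zero])
        rw [Matrix.mulVec_add, Matrix.mulVec_smul, C.form_add_left, C.form_add_right, C.form_add_right,
          C.form_smul_left, C.form_smul_left, C.form_smul_right, C.form_smul_right, hcon x hxU hxW,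
          hcon v hvU hvW] at this
        linear_combination this
      have k1 := key 1
      have k2 := key θ
      rw [map_one] at k1
      have : (C.bar θ - θ) * C.form (aeval G (f ^ (e - 1)) *ᵥ x) v = 0 := by linear_combination k2 - θ * k1
      exact (mul_eq_zero.1 this).resolve_left (sub_ne_zero.2 hθ)
    refine ⟨z, f ^ e, hzU, ?_, cyc_of hG (hfm.pow e) (hespec z hzU hzW) fun g w hg hgw => ⟨1, ?_⟩, ?_⟩
    · rw [natDegree_pow]; exact Nat.mul_pos hepos hfi.natDegree_pos
    · have hgf : Associated g f := hg.associated_of_dvd hfi (hg.prime.dvd_of_dvd_pow ⟨w, hgw⟩)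
      obtain ⟨u, hu⟩ := hgf
      have hw : w = (u : F[X]) * f ^ (e - 1) := by
        refine mul_left_cancel₀ hg.ne_zero ?_
        rw [← hgw, ← mul_assoc, hu, ← pow_succ', Nat.sub_add_cancel hepos]
      obtain ⟨c, hc0, hc⟩ := Polynomial.isUnit_iff.1 u.isUnit
      rw [map_one, Matrix.one_mulVec, hw, ← hc, map_mul, aeval_C, ← Algebra.smul_def,
        Matrix.smul_mulVec, C.form_smul_left]
      exact mul_ne_zero hc0.ne_zero hz
    · intro ω hω h0
      rw [eval_pow] at h0
      obtain ⟨hX, -⟩ := hroot ω hω (eq_zero_of_pow_eq_zero h0)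
      rw [natDegree_pow, hX, natDegree_X_sub_C, mul_one]
  · -- a pair of dual factors
    have hco : IsCoprime f fs := heq.resolve_left hsd
    have hφf : φ0 = f * fs := by rw [hφ0, if_neg hsd]
    rw [hφf] at hW hx0W hkill
    have hiso : ∀ {v w : Fin n → F}, aeval G (f ^ N) *ᵥ v = 0 → aeval G (f ^ N) *ᵥ w = 0 → C.form v w = 0 := by
      intro v w hv hw
      obtain ⟨s, t, hst⟩ := (hco.pow : IsCoprime (f ^ N) (fs ^ N))
      have e : v = aeval G (fs ^ N) *ᵥ (aeval G t *ᵥ v) := by
        rw [Matrix.mulVec_mulVec, ← map_mul, mul_comm (fs ^ N)]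
        conv_lhs => rw [← Matrix.one_mulVec v, ← map_one (aeval (R := F) G), ← hst, map_add, Matrix.add_mulVec,
          map_mul, ← Matrix.mulVec_mulVec, hv, Matrix.mulVec_zero, zero_add]
      rw [e]
      refine orth_of_dual hG ?_
      obtain ⟨c, hc⟩ : f ^ N ∣ dualPoly C (fs ^ N) := by rw [dualPoly_pow]; exact pow_dvd_pow_of_dvd hfsd N
      rw [hc, mul_comm, map_mul, ← Matrix.mulVec_mulVec, hw, Matrix.mulVec_zero]
    have hiso' : ∀ {v w : Fin n → F}, aeval G (fs ^ N) *ᵥ v = 0 → aeval G (fs ^ N) *ᵥ w = 0 → C.form v w = 0 := by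
      intro v w hv hw
      obtain ⟨s, t, hst⟩ := (hco.pow : IsCoprime (f ^ N) (fs ^ N))
      have e : v = aeval G (f ^ N) *ᵥ (aeval G s *ᵥ v) := by
        rw [Matrix.mulVec_mulVec, ← map_mul, mul_comm (f ^ N)]
        conv_lhs => rw [← Matrix.one_mulVec v, ← map_one (aeval (R := F) G), ← hst, map_add, Matrix.add_mulVec,
          map_mul _ t, ← Matrix.mulVec_mulVec _ (aeval G t), hv, Matrix.mulVec_zero, add_zero]
      rw [e]
      refine orth_of_dual hG ?_
      obtain ⟨c, hc⟩ := hfd' N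
      obtain ⟨d, hd⟩ := hdf N
      rw [hd, mul_comm, map_mul, ← Matrix.mulVec_mulVec, hw, Matrix.mulVec_zero]
    have hx0f : aeval G (f ^ N) *ᵥ x0 = 0 := by
      rw [hN, pow_succ, map_mul, ← Matrix.mulVec_mulVec, hfx, Matrix.mulVec_zero]
    have hex : ∃ e, ∀ w ∈ U, aeval G (f ^ N) *ᵥ w = 0 → aeval G (f ^ e) *ᵥ w = 0 := ⟨N, fun _ _ h => h⟩
    set e := Nat.find hex with he
    have hespec := Nat.find_spec hex
    have hepos : 0 < e := by
      refine Nat.pos_of_ne_zero fun e0 => hx00 ?_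
      have := hespec x0 hx0U hx0f
      rwa [← he, e0, pow_zero, map_one, Matrix.one_mulVec] at this
    obtain ⟨x, hxU, hxW, hx⟩ : ∃ x ∈ U, aeval G (f ^ N) *ᵥ x = 0 ∧ aeval G (f ^ (e - 1)) *ᵥ x ≠ 0 := by
      have := Nat.find_min hex (show e - 1 < Nat.find hex by omega)
      simp only [not_forall, exists_prop] at this
      exact this
    set v0 := aeval G (f ^ (e - 1)) *ᵥ x with hv0
    have hv0U : v0 ∈ U := aeval_mem hU hxU _
    have hv0f : aeval G (f ^ N) *ᵥ v0 = 0 := by
      rw [hv0, Matrix.mulVec_mulVec, ← map_mul, mul_comm, map_mul, ← Matrix.mulVec_mulVec, hxW, Matrix.mulVec_zero]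
    obtain ⟨s, t, hst⟩ := (hco.pow : IsCoprime (f ^ N) (fs ^ N))
    have hsplit : ∀ w, aeval G ((f * fs) ^ N) *ᵥ w = 0 →
        aeval G (f ^ N) *ᵥ (aeval G (t * fs ^ N) *ᵥ w) = 0 ∧ aeval G (fs ^ N) *ᵥ (aeval G (s * f ^ N) *ᵥ w) = 0 ∧
          w = aeval G (t * fs ^ N) *ᵥ w + aeval G (s * f ^ N) *ᵥ w := by
      intro w hw
      refine ⟨?_, ?_, ?_⟩
      · rw [Matrix.mulVec_mulVec, ← map_mul, show f ^ N * (t * fs ^ N) = t * (f * fs) ^ N by ring, map_mul,
          ← Matrix.mulVec_mulVec, hw, Matrix.mulVec_zero]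
      · rw [Matrix.mulVec_mulVec, ← map_mul, show fs ^ N * (s * f ^ N) = s * (f * fs) ^ N by ring, map_mul,
          ← Matrix.mulVec_mulVec, hw, Matrix.mulVec_zero]
      · rw [← Matrix.add_mulVec, ← map_add, add_comm, hst, map_one, Matrix.one_mulVec]
    obtain ⟨y, hyU, hyN, hxy⟩ : ∃ y ∈ U, aeval G (fs ^ N) *ᵥ y = 0 ∧ C.form v0 y ≠ 0 := by
      by_contra hcon
      simp only [not_exists, not_and, not_not] at hcon
      refine hx (hW v0 hv0U (hkill (pow_dvd_pow_of_dvd (dvd_mul_right f fs) N) hv0f) fun v hvU hvW => ?_)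
      obtain ⟨h1, h2, h3⟩ := hsplit v hvW
      rw [h3, C.form_add_right, hiso hv0f h1, hcon _ (aeval_mem hU hvU _) h2, add_zero]
    have hye : aeval G (fs ^ e) *ᵥ y = 0 := by
      refine hW _ (aeval_mem hU hyU _) ?_ fun v hvU hvW => ?_
      · exact hkill (pow_dvd_pow_of_dvd (dvd_mul_left fs f) N) (by
          rw [Matrix.mulVec_mulVec, ← map_mul, mul_comm, map_mul, ← Matrix.mulVec_mulVec, hyN, Matrix.mulVec_zero])
      obtain ⟨h1, h2, h3⟩ := hsplit v hvW
      rw [h3, C.form_add_right, hiso' (by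
          rw [Matrix.mulVec_mulVec, ← map_mul, mul_comm, map_mul, ← Matrix.mulVec_mulVec, hyN, Matrix.mulVec_zero]) h2,
        add_zero]
      refine orth_of_dual hG ?_
      have h4 := hespec _ (aeval_mem hU hvU _) h1
      obtain ⟨c, hc⟩ : f ^ e ∣ dualPoly C (fs ^ e) := by rw [dualPoly_pow]; exact pow_dvd_pow_of_dvd hfsd e
      rw [hc, mul_comm, map_mul, ← Matrix.mulVec_mulVec, h4, Matrix.mulVec_zero]
    have hxe := hespec x hxU hxW
    have hkillz : aeval G ((f * fs) ^ e) *ᵥ (x + y) = 0 := by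
      rw [Matrix.mulVec_add, mul_pow]
      conv_lhs => enter [1]; rw [mul_comm, map_mul, ← Matrix.mulVec_mulVec, hxe, Matrix.mulVec_zero]
      rw [map_mul, ← Matrix.mulVec_mulVec, hye, Matrix.mulVec_zero, zero_add]
    refine ⟨x + y, (f * fs) ^ e, add_mem hxU hyU, ?_,
      cyc_of hG ((hfm.mul hfsm).pow e) hkillz fun g w hg hgw => ?_, ?_⟩
    · rw [natDegree_pow, natDegree_mul hfm.ne_zero hfsm.ne_zero]
      exact Nat.mul_pos hepos (Nat.add_pos_left hfi.natDegree_pos _)
    · have hgf : g ∣ f ∨ g ∣ fs := hg.prime.dvd_or_dvd (hg.prime.dvd_of_dvd_pow ⟨w, hgw⟩)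
      obtain ⟨s', t', hst'⟩ := (hco.pow : IsCoprime (f ^ e) (fs ^ e))
      rcases hgf with hgf | hgf
      · obtain ⟨u, hu⟩ := hg.associated_of_dvd hfi hgf
        have hw : w = (u : F[X]) * f ^ (e - 1) * fs ^ e := by
          refine mul_left_cancel₀ hg.ne_zero ?_
          rw [← hgw, ← mul_assoc, ← mul_assoc, hu, ← pow_succ', Nat.sub_add_cancel hepos, mul_pow]
        obtain ⟨u', hu'⟩ := u.isUnit.exists_left_inv
        obtain ⟨r', hr', -⟩ := exists_adj hG (u' * t')
        refine ⟨r', fun h0 => hxy ?_⟩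
        rw [← hr', Matrix.mulVec_mulVec, ← map_mul] at h0
        have e1 : aeval G (u' * t' * w) *ᵥ (x + y) = v0 := by
          have e2 : u' * t' * w = f ^ (e - 1) - s' * f ^ (e - 1) * f ^ e := by
            rw [hw]; linear_combination t' * f ^ (e - 1) * fs ^ e * hu' + f ^ (e - 1) * hst'
          have e3 : aeval G (u' * t' * w) *ᵥ y = 0 := by
            rw [hw, show u' * t' * ((u : F[X]) * f ^ (e - 1) * fs ^ e) =
              u' * t' * (u : F[X]) * f ^ (e - 1) * fs ^ e by ring, map_mul, ← Matrix.mulVec_mulVec, hye,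
              Matrix.mulVec_zero]
          rw [Matrix.mulVec_add, e3, add_zero, e2, map_sub, Matrix.sub_mulVec, map_mul _ _ (f ^ e),
            ← Matrix.mulVec_mulVec, hxe, Matrix.mulVec_zero, sub_zero]
        rw [e1, C.form_add_right, hiso hv0f hxW, zero_add] at h0
        exact h0
      · obtain ⟨u, hu⟩ := hg.associated_of_dvd hfsi hgf
        have hw : w = (u : F[X]) * fs ^ (e - 1) * f ^ e := by
          refine mul_left_cancel₀ hg.ne_zero ?_
          rw [← hgw, ← mul_assoc, ← mul_assoc, hu, ← pow_succ', Nat.sub_add_cancel hepos, mul_pow]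
          ring
        obtain ⟨u', hu'⟩ := u.isUnit.exists_left_inv
        obtain ⟨p', hp', hdvd⟩ := exists_adj hG (f ^ (e - 1))
        obtain ⟨c, hc⟩ := (hdf (e - 1)).trans hdvd
        obtain ⟨r', hr', -⟩ := exists_adj hG (c * u' * s')
        refine ⟨r', fun h0 => hxy ?_⟩
        rw [← hr', Matrix.mulVec_mulVec, ← map_mul] at h0
        have e1 : aeval G (c * u' * s' * w) *ᵥ (x + y) = aeval G p' *ᵥ y := by
          have e2 : c * u' * s' * w = c * fs ^ (e - 1) - c * t' * fs ^ (e - 1) * fs ^ e := by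
            rw [hw]; linear_combination c * s' * fs ^ (e - 1) * f ^ e * hu' + c * fs ^ (e - 1) * hst'
          have e3 : aeval G (c * u' * s' * w) *ᵥ x = 0 := by
            rw [hw, show c * u' * s' * ((u : F[X]) * fs ^ (e - 1) * f ^ e) =
              c * u' * s' * (u : F[X]) * fs ^ (e - 1) * f ^ e by ring, map_mul, ← Matrix.mulVec_mulVec, hxe,
              Matrix.mulVec_zero]
          rw [Matrix.mulVec_add, e3, zero_add, e2, map_sub, Matrix.sub_mulVec, map_mul _ _ (fs ^ e),
            ← Matrix.mulVec_mulVec, hye, Matrix.mulVec_zero, sub_zero, hc, mul_comm c]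
        rw [e1, C.form_add_right] at h0
        have hy' : aeval G (fs ^ N) *ᵥ (aeval G p' *ᵥ y) = 0 := by
          rw [Matrix.mulVec_mulVec, ← map_mul, mul_comm, map_mul, ← Matrix.mulVec_mulVec, hyN, Matrix.mulVec_zero]
        rw [hiso' hy' hyN, add_zero] at h0
        rw [hv0, hp']
        exact C.form_swap_zero h0
    · intro ω hω h0
      exfalso
      rw [eval_pow] at h0
      rcases mul_eq_zero.1 ((eval_mul (R := F)).symm.trans (eq_zero_of_pow_eq_zero h0)) with h1 | h1
      · exact hsd (hroot ω hω h1).2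
      · have hs : fs = X - Polynomial.C ω :=
          eq_of_monic_of_associated hfsm (monic_X_sub_C ω)
            ((irreducible_X_sub_C ω).associated_of_dvd hfsi (dvd_iff_isRoot.2 h1)).symm
        refine hsd (hroot ω hω ?_).2
        obtain ⟨u, hu⟩ := hfsd
        have e : dualPoly C (X - Polynomial.C ω) = 1 - Polynomial.C (C.bar ω) * X := by
          rw [dualPoly, Polynomial.map_sub, map_X, map_C, reverse, natDegree_X_sub_C, reflect_sub]
          simp [reflect_C, reflect_one_X]
        have hfl : f.natDegree = 1 := by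
          have := natDegree_dualPoly C hf0
          rw [natDegree_eq_of_degree_eq (degree_eq_degree_of_associated hfd), hs, natDegree_X_sub_C] at this
          exact this.symm
        have hev := congrArg (Polynomial.eval ω) hu
        rw [hs, e] at hev
        simp only [eval_sub, eval_one, eval_mul, eval_C, eval_X] at hev
        have h2 : f.eval ω * u.eval ω = 0 := by linear_combination -hev - hω
        refine (mul_eq_zero.1 h2).resolve_right fun hu0 => ?_
        have hu2 : u.natDegree = 0 := by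
          have hne : dualPoly C fs ≠ 0 := by
            intro e0
            rw [hs, e] at e0
            have := congrArg (fun P => P.coeff 0) e0
            simp at this
          have h3 := congrArg natDegree hu
          rw [natDegree_mul hfm.ne_zero (fun e0 => hne (by rw [hu, e0, mul_zero])), hfl] at h3
          have h4 : (dualPoly C fs).natDegree ≤ fs.natDegree := (reverse_natDegree_le _).trans natDegree_map_le
          rw [hs, natDegree_X_sub_C] at h4
          rw [hs] at h3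
          omega
        rw [eq_C_of_natDegree_eq_zero hu2, eval_C] at hu0
        rw [eq_C_of_natDegree_eq_zero hu2, hu0, map_zero, mul_zero, hs, e] at hu
        have := congrArg (fun P => P.coeff 0) hu
        simp at this

end CfsgLib.OreSu.Piece
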