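import Cfsg.Agent.Lib.SU.Ctx
import Cfsg.Agent.Lib.Classical.HermOrder
import Cfsg.Agent.Lib.IsometryConj.Norm

/-!
The map `x ↦ x / σ x` onto the elements of norm one.
-/

set_option autoImplicit false

namespace CfsgLib.OreSu

open CfsgLib.SU

variable {F : Type*} [Field F] {q : ℕ} (C : UCtx F q)

/-- the class of a scalar -/
def psi (x : F) : F := x / C.bar x

theorem bar_ne {x : F} (hx : x ≠ 0) : C.bar x ≠ 0 := (map_ne_zero C.bar).2 hx

theorem psi_one : psi C 1 = 1 := by simp [psi]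

theorem psi_mul (x y : F) : psi C (x * y) = psi C x * psi C y := by
  rw [psi, psi, psi, map_mul, mul_div_mul_comm]

theorem psi_inv (x : F) : psi C x⁻¹ = (psi C x)⁻¹ := by
  rw [psi, psi, map_inv₀, inv_div_inv, inv_div]

theorem psi_fixed {x : F} (h : C.bar x = x) (h0 : x ≠ 0) : psi C x = 1 := by
  rw [psi, h, div_self h0]

theorem psi_neg (x : F) : psi C (-x) = psi C x := by rw [psi, psi, map_neg, neg_div_neg_eq]

theorem psi_prod {ι : Type*} (s : Finset ι) (x : ι → F) : psi C (∏ i ∈ s, x i) = ∏ i ∈ s, psi C (x i) := by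
  simp only [psi, map_prod, Finset.prod_div_distrib]

theorem psi_norm {x : F} (hx : x ≠ 0) : psi C x * C.bar (psi C x) = 1 := by
  rw [psi, map_div₀, C.bar_bar]
  field_simp [bar_ne C hx]

theorem psi_eq_iff {x y : F} (hx : x ≠ 0) (hy : y ≠ 0) : psi C x = psi C y ↔ C.bar (x / y) = x / y := by
  have := bar_ne C hx
  have := bar_ne C hy
  rw [psi, psi, map_div₀, div_eq_div_iff (bar_ne C hx) (bar_ne C hy),
    div_eq_div_iff (bar_ne C hy) hy]
  constructor <;> intro h <;> linear_combination -h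

theorem psi_of_skew {e x : F} (hx : x ≠ 0) (he : e ≠ 0) (h : x / e + C.bar (x / e) = 0) :
    psi C x = -psi C e := by
  have := bar_ne C hx
  have := bar_ne C he
  rw [map_div₀] at h
  rw [psi, psi]
  field_simp at h ⊢
  linear_combination h

theorem skew_of_psi {e x : F} (hx : x ≠ 0) (he : e ≠ 0) (h : psi C x = -psi C e) :
    x / e + C.bar (x / e) = 0 := by
  have := bar_ne C hx
  have := bar_ne C he
  rw [psi, psi] at h
  rw [map_div₀]
  field_simp at h ⊢
  linear_combination h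

theorem norm_one_ne {t : F} (ht : t * C.bar t = 1) : t ≠ 0 := left_ne_zero_of_mul_eq_one ht

theorem norm_inv {t : F} (ht : t * C.bar t = 1) : t⁻¹ * C.bar t⁻¹ = 1 := by
  rw [map_inv₀, ← mul_inv, ht, inv_one]

theorem norm_mul {s t : F} (hs : s * C.bar s = 1) (ht : t * C.bar t = 1) :
    (s * t) * C.bar (s * t) = 1 := by
  rw [map_mul, mul_mul_mul_comm, hs, ht, one_mul]

theorem norm_neg {t : F} (ht : t * C.bar t = 1) : (-t) * C.bar (-t) = 1 := by
  rw [map_neg, neg_mul_neg, ht]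

theorem norm_prod {ι : Type*} (s : Finset ι) (x : ι → F) (h : ∀ i ∈ s, x i * C.bar (x i) = 1) :
    (∏ i ∈ s, x i) * C.bar (∏ i ∈ s, x i) = 1 := by
  rw [map_prod, ← Finset.prod_mul_distrib, Finset.prod_eq_one h]

theorem exists_psi [Finite F] {t : F} (ht : t * C.bar t = 1) : ∃ x, x ≠ 0 ∧ psi C x = t := by
  obtain ⟨θ, hθ⟩ := C.exists_not_fixed
  obtain ⟨y, hy, h⟩ := IsometryConj.exists_quotient (C.bar : F ≃+* F) C.bar_bar θ
    (isUnit_iff_ne_zero.2 (sub_ne_zero.2 (Ne.symm hθ))) ht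
  refine ⟨y, hy.ne_zero, ?_⟩
  rw [psi, div_eq_iff (bar_ne C hy.ne_zero)]
  exact h.symm.trans (mul_comm _ _)

section Count

variable [Fintype F] (hF : Fintype.card F = q ^ 2)
include hF

theorem pow_card_one (x : F) (hx : x ≠ 0) : x ^ (q ^ 2 - 1) = 1 := hF ▸ FiniteField.pow_card_sub_one_eq_one x hx

theorem norm_pow (t : F) : t * C.bar t = t ^ (q + 1) := by rw [C.bar_eq, pow_succ']

end Count

end CfsgLib.OreSu
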