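import Cfsg.Agent.Lib.Lie.OreSu.Poly
import Cfsg.Agent.Lib.IsometryConj.Norm

/-!
A non-degenerate cyclic space of a unitary transformation has a generator whose first half is totally
isotropic.
-/

set_option autoImplicit false
set_option linter.unusedSectionVars false

namespace CfsgLib.OreSu.Piece

open CfsgLib.SU Polynomial Matrix
open CfsgLib.Perm.Elusive.HermIso (dualPoly)

variable {F : Type*} [Field F] {q n : ℕ} (C : UCtx F q)

/-- a cyclic non-degenerate space -/
structure Cyc (G : Matrix (Fin n) (Fin n) F) (z0 : Fin n → F) (φ : F[X]) : Prop where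
  iso : ∀ u v, C.form (G *ᵥ u) (G *ᵥ v) = C.form u v
  monic : φ.Monic
  ker : ∀ p : F[X], aeval G p *ᵥ z0 = 0 ↔ φ ∣ p
  nondeg : ∀ p : F[X], (∀ i : ℕ, C.form (aeval G p *ᵥ z0) (G ^ i *ᵥ z0) = 0) → φ ∣ p

variable {C} {G : Matrix (Fin n) (Fin n) F} {z0 : Fin n → F} {φ : F[X]}

theorem Cyc.iso_pow (h : Cyc C G z0 φ) (i : ℕ) (u v : Fin n → F) :
    C.form (G ^ i *ᵥ u) (G ^ i *ᵥ v) = C.form u v := by
  induction i with
  | zero => simp
  | succ i ih => rw [pow_succ', ← Matrix.mulVec_mulVec, ← Matrix.mulVec_mulVec, h.iso, ih]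

theorem Cyc.inj (h : Cyc C G z0 φ) {u : Fin n → F} (hu : G *ᵥ u = 0) : u = 0 :=
  C.eq_zero_of_form fun v => by rw [← h.iso, hu, C.form_zero_left]

theorem Cyc.coeff_zero (h : Cyc C G z0 φ) : φ.coeff 0 ≠ 0 := by
  intro h0
  obtain ⟨p, hp⟩ := X_dvd_iff.2 h0
  have h1 : G *ᵥ (aeval G p *ᵥ z0) = 0 := by
    rw [Matrix.mulVec_mulVec]
    rw [show G * aeval G p = aeval G (X * p) by rw [map_mul, aeval_X], ← hp]
    exact (h.ker φ).2 dvd_rfl
  have h2 := (h.ker p).1 (h.inj h1)
  have hp0 : p ≠ 0 := fun e => h.monic.ne_zero (by rw [hp, e, mul_zero])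
  have h3 := natDegree_le_of_dvd h2 hp0
  rw [hp, natDegree_mul X_ne_zero hp0, natDegree_X] at h3
  omega

/-- evaluation at the generator -/
noncomputable def ev (G : Matrix (Fin n) (Fin n) F) (z0 : Fin n → F) (h : φ.Monic) (r : AdjoinRoot φ) :
    Fin n → F := aeval G (AdjoinRoot.modByMonicHom h r) *ᵥ z0

theorem ev_mk (h : Cyc C G z0 φ) (p : F[X]) :
    ev G z0 h.monic (AdjoinRoot.mk φ p) = aeval G p *ᵥ z0 := by
  rw [ev, AdjoinRoot.modByMonicHom_mk]
  have e := Polynomial.modByMonic_add_div p φ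
  conv_rhs => rw [← e]
  rw [map_add, Matrix.add_mulVec, (h.ker (φ * (p /ₘ φ))).2 (dvd_mul_right _ _), add_zero]

theorem ev_add (h : φ.Monic) (a b : AdjoinRoot φ) : ev G z0 h (a + b) = ev G z0 h a + ev G z0 h b := by
  rw [ev, ev, ev, map_add, map_add, Matrix.add_mulVec]

theorem ev_smul (h : φ.Monic) (c : F) (a : AdjoinRoot φ) : ev G z0 h (c • a) = c • ev G z0 h a := by
  rw [ev, ev, map_smul, map_smul, Matrix.smul_mulVec]

theorem ev_mk_mul (h : Cyc C G z0 φ) (p : F[X]) (a : AdjoinRoot φ) :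
    ev G z0 h.monic (AdjoinRoot.mk φ p * a) = aeval G p *ᵥ ev G z0 h.monic a := by
  obtain ⟨b, rfl⟩ := AdjoinRoot.mk_surjective a
  rw [← map_mul, ev_mk h, ev_mk h, map_mul, Matrix.mulVec_mulVec]

theorem ev_root_pow_mul (h : Cyc C G z0 φ) (i : ℕ) (a : AdjoinRoot φ) :
    ev G z0 h.monic (AdjoinRoot.root φ ^ i * a) = G ^ i *ᵥ ev G z0 h.monic a := by
  rw [← AdjoinRoot.mk_X, ← map_pow, ev_mk_mul h, map_pow, aeval_X]

theorem ev_eq_zero (h : Cyc C G z0 φ) {a : AdjoinRoot φ} (ha : ev G z0 h.monic a = 0) : a = 0 := by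
  obtain ⟨b, rfl⟩ := AdjoinRoot.mk_surjective a
  rw [ev_mk h] at ha
  exact AdjoinRoot.mk_eq_zero.2 ((h.ker b).1 ha)

/-- the functional -/
noncomputable def eps (C : UCtx F q) (G : Matrix (Fin n) (Fin n) F) (z0 : Fin n → F) (h : φ.Monic)
    (r : AdjoinRoot φ) : F := C.form (ev G z0 h r) z0

theorem eps_add (h : φ.Monic) (a b : AdjoinRoot φ) :
    eps C G z0 h (a + b) = eps C G z0 h a + eps C G z0 h b := by
  rw [eps, eps, eps, ev_add, C.form_add_left]

theorem eps_smul (h : φ.Monic) (c : F) (a : AdjoinRoot φ) :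
    eps C G z0 h (c • a) = c * eps C G z0 h a := by
  rw [eps, eps, ev_smul, C.form_smul_left]

theorem eps_zero (h : φ.Monic) : eps C G z0 h (0 : AdjoinRoot φ) = 0 := by
  rw [eps, ev, map_zero, map_zero, Matrix.zero_mulVec, C.form_zero_left]

theorem eps_sum (h : φ.Monic) {α : Type*} (t : Finset α) (f : α → AdjoinRoot φ) :
    eps C G z0 h (∑ i ∈ t, f i) = ∑ i ∈ t, eps C G z0 h (f i) := by
  classical
  induction t using Finset.induction_on with
  | empty => rw [Finset.sum_empty, Finset.sum_empty, eps_zero]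
  | insert a t ha ih => rw [Finset.sum_insert ha, Finset.sum_insert ha, eps_add, ih]

/-- evaluating a product with a class of small degree -/
theorem eps_expand (h : φ.Monic) (P : F[X]) (m : ℕ) (hm : P.natDegree < m) (r : AdjoinRoot φ) :
    eps C G z0 h (AdjoinRoot.mk φ P * r) =
      ∑ i ∈ Finset.range m, P.coeff i * eps C G z0 h (AdjoinRoot.root φ ^ i * r) := by
  rw [← AdjoinRoot.aeval_eq, aeval_eq_sum_range' hm, Finset.sum_mul, eps_sum]
  exact Finset.sum_congr rfl fun i _ => by rw [smul_mul_assoc, eps_smul]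

theorem exists_inv_root (h : Cyc C G z0 φ) : ∃ y, AdjoinRoot.root φ * y = 1 := by
  refine ⟨AdjoinRoot.mk φ (-(Polynomial.C (φ.coeff 0)⁻¹ * φ.divX)), ?_⟩
  rw [← AdjoinRoot.mk_X, ← map_mul, ← sub_eq_zero, ← map_one (AdjoinRoot.mk φ), ← map_sub,
    AdjoinRoot.mk_eq_zero]
  refine ⟨-Polynomial.C (φ.coeff 0)⁻¹, ?_⟩
  have e : Polynomial.C (φ.coeff 0)⁻¹ * Polynomial.C (φ.coeff 0) = 1 := by
    rw [← map_mul, inv_mul_cancel₀ h.coeff_zero, map_one]
  conv_rhs => enter [1]; rw [← X_mul_divX_add φ]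
  linear_combination e

theorem form_ev (h : Cyc C G z0 φ) {y : AdjoinRoot φ} (hy : AdjoinRoot.root φ * y = 1) (a : AdjoinRoot φ)
    (p : F[X]) : C.form (ev G z0 h.monic a) (aeval G p *ᵥ z0) =
      eps C G z0 h.monic (a * p.eval₂ ((AdjoinRoot.of φ).comp (C.bar : F →+* F)) y) := by
  induction p using Polynomial.induction_on' with
  | add p p' hp hp' =>
    rw [map_add, Matrix.add_mulVec, C.form_add_right, hp, hp', eval₂_add, mul_add, eps_add]
  | monomial i c =>
    have e : ev G z0 h.monic a = G ^ i *ᵥ ev G z0 h.monic (y ^ i * a) := by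
      rw [← ev_root_pow_mul h, ← mul_assoc, ← mul_pow, hy, one_pow, one_mul]
    rw [aeval_monomial, ← Algebra.smul_def, Matrix.smul_mulVec, C.form_smul_right, e, h.iso_pow,
      eval₂_monomial, RingHom.comp_apply, ← AdjoinRoot.algebraMap_eq, mul_left_comm, ← Algebra.smul_def,
      eps_smul, mul_comm (y ^ i)]
    rfl

theorem eq_zero_of_eps (h : Cyc C G z0 φ) {r : AdjoinRoot φ}
    (hr : ∀ a, eps C G z0 h.monic (a * r) = 0) : r = 0 := by
  obtain ⟨y, hy⟩ := exists_inv_root h
  obtain ⟨p, rfl⟩ := AdjoinRoot.mk_surjective r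
  refine AdjoinRoot.mk_eq_zero.2 (h.nondeg p fun i => ?_)
  rw [← ev_mk h p, ← aeval_X_pow (R := F) G, form_ev h hy, mul_comm]
  exact hr _

theorem eval₂_star (h : Cyc C G z0 φ) {y : AdjoinRoot φ} (hy : AdjoinRoot.root φ * y = 1) :
    φ.eval₂ ((AdjoinRoot.of φ).comp (C.bar : F →+* F)) y = 0 := by
  refine eq_zero_of_eps h fun a => ?_
  rw [← form_ev h hy a φ, (h.ker φ).2 dvd_rfl, C.form_zero_right]

theorem norm_coeff_zero (h : Cyc C G z0 φ) : φ.coeff 0 * C.bar (φ.coeff 0) = 1 := by
  obtain ⟨y, hy⟩ := exists_inv_root h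
  letI : Invertible y := ⟨AdjoinRoot.root φ, hy, (mul_comm _ _).trans hy⟩
  have h1 := eval₂_reverse_mul_pow (AdjoinRoot.of φ) y (φ.map (C.bar : F →+* F))
  rw [eval₂_map ((C.bar : F →+* F)), eval₂_star h hy] at h1
  have h2 : (φ.map (C.bar : F →+* F)).reverse.eval₂ (AdjoinRoot.of φ) (AdjoinRoot.root φ) = 0 := by
    have hu : IsUnit (y ^ (φ.map (C.bar : F →+* F)).natDegree) :=
      (IsUnit.of_mul_eq_one (AdjoinRoot.root φ) ((mul_comm _ _).trans hy)).pow _
    exact (hu.mul_left_eq_zero).1 (show _ * _ = _ from h1)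
  rw [← AdjoinRoot.algebraMap_eq, ← aeval_def, AdjoinRoot.aeval_eq, AdjoinRoot.mk_eq_zero] at h2
  obtain ⟨w, hw⟩ := h2
  change dualPoly C φ = φ * w at hw
  have hne : dualPoly C φ ≠ 0 := fun e => h.coeff_zero (by
    rw [← dualPoly_dualPoly C h.coeff_zero, e]; simp [dualPoly])
  have hw0 : w ≠ 0 := fun e => hne (by rw [hw, e, mul_zero])
  have hdw : w.natDegree = 0 := by
    have := congrArg natDegree hw
    rw [natDegree_dualPoly C h.coeff_zero, natDegree_mul h.monic.ne_zero hw0] at this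
    omega
  have e0 : (1 : F) = φ.coeff 0 * w.coeff 0 := by
    have := congrArg (fun P => P.coeff 0) hw
    simpa [coeff_dualPoly, h.monic.coeff_natDegree, mul_coeff_zero] using this
  have e1 : C.bar (φ.coeff 0) = w.coeff 0 := by
    have := congrArg (fun P => P.coeff φ.natDegree) hw
    rw [eq_C_of_natDegree_eq_zero hdw] at this
    simpa [coeff_dualPoly, coeff_mul_C, h.monic.coeff_natDegree] using this
  rw [e1]; exact e0.symm

/-- the functionals on a window are independent -/
theorem exists_window (h : Cyc C G z0 φ) {y : AdjoinRoot φ} (hy : AdjoinRoot.root φ * y = 1) (s : ℕ)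
    (t : Fin φ.natDegree → F) :
    ∃ r, (∀ i : Fin φ.natDegree, eps C G z0 h.monic (AdjoinRoot.root φ ^ (i : ℕ) * y ^ s * r) = t i) ∧
      ∀ r', (∀ i : Fin φ.natDegree, eps C G z0 h.monic (AdjoinRoot.root φ ^ (i : ℕ) * y ^ s * r') = t i) →
        r' = r := by
  haveI : Module.Finite F (AdjoinRoot φ) := h.monic.finite_adjoinRoot
  let L : AdjoinRoot φ →ₗ[F] (Fin φ.natDegree → F) :=
    { toFun := fun r i => eps C G z0 h.monic (AdjoinRoot.root φ ^ (i : ℕ) * y ^ s * r)
      map_add' := fun a b => by funext i; simp only [mul_add, eps_add]; rfl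
      map_smul' := fun c a => by funext i; simp only [mul_smul_comm, eps_smul]; rfl }
  have hinj : Function.Injective L := by
    refine (injective_iff_map_eq_zero L).2 fun r hr => ?_
    have h0 : y ^ s * r = 0 := by
      refine eq_zero_of_eps h fun a => ?_
      obtain ⟨p, rfl⟩ := AdjoinRoot.mk_surjective a
      rw [show AdjoinRoot.mk φ p = AdjoinRoot.mk φ (p %ₘ φ) from
        (AdjoinRoot.mk_eq_mk.2 ⟨p /ₘ φ, by linear_combination -modByMonic_add_div p φ⟩)]
      rcases eq_or_ne (p %ₘ φ) 0 with e | e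
      · rw [e, map_zero, zero_mul, eps_zero]
      have hd : (p %ₘ φ).natDegree < φ.natDegree := natDegree_lt_natDegree e (degree_modByMonic_lt p h.monic)
      rw [eps_expand h.monic _ _ hd]
      refine Finset.sum_eq_zero fun i hi => ?_
      rw [← mul_assoc]
      have := congrFun hr ⟨i, Finset.mem_range.1 hi⟩
      exact mul_eq_zero_of_right _ this
    calc r = (AdjoinRoot.root φ * y) ^ s * r := by rw [hy, one_pow, one_mul]
      _ = 0 := by rw [mul_pow, mul_assoc, h0, mul_zero]
  have hsurj : Function.Surjective L :=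
    (LinearMap.injective_iff_surjective_of_finrank_eq_finrank (by
      rw [(AdjoinRoot.powerBasis h.monic.ne_zero).finrank, AdjoinRoot.powerBasis_dim, Module.finrank_pi,
        Fintype.card_fin])).1 hinj
  obtain ⟨r, hr⟩ := hsurj t
  exact ⟨r, fun i => congrFun hr i, fun r' hr' => hinj ((funext hr' : L r' = t).trans hr.symm)⟩

/-- a generator with totally isotropic first half -/
theorem exists_gen [Finite F] (h : Cyc C G z0 φ) (hd : 2 ≤ φ.natDegree)
    (hodd : Odd φ.natDegree → ∃ ω, ω * C.bar ω = 1 ∧ φ.eval ω ≠ 0) :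
    ∃ (z : Fin n → F) (p p' : F[X]), z = aeval G p *ᵥ z0 ∧ z0 = aeval G p' *ᵥ z ∧
      (∀ P : F[X], aeval G P *ᵥ z = 0 ↔ φ ∣ P) ∧
      (∀ l, l < φ.natDegree / 2 → C.form (G ^ l *ᵥ z) z = 0) ∧
      C.form (G ^ (φ.natDegree / 2) *ᵥ z) z ≠ 0 := by
  classical
  haveI : Module.Finite F (AdjoinRoot φ) := h.monic.finite_adjoinRoot
  haveI : Finite (AdjoinRoot φ) := Module.finite_of_finite F
  set k := φ.natDegree / 2 with hk
  have hdd := Nat.div_add_mod φ.natDegree 2
  have hk1 : 1 ≤ k := by omega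
  obtain ⟨y, hy⟩ := exists_inv_root h
  set x := AdjoinRoot.root φ with hx
  set E := eps C G z0 h.monic with hE
  -- the involution
  let S := AdjoinRoot.lift ((AdjoinRoot.of φ).comp (C.bar : F →+* F)) y (eval₂_star h hy)
  have hSx : S x = y := AdjoinRoot.lift_root _
  have hSy : S y = x := by
    have e : S x * S y = 1 := by rw [← map_mul, hy, map_one]
    rw [hSx] at e
    calc S y = (x * y) * S y := by rw [hy, one_mul]
      _ = x := by rw [mul_assoc, e, mul_one]
  have hSc : ∀ c, S (AdjoinRoot.of φ c) = AdjoinRoot.of φ (C.bar c) := fun c => AdjoinRoot.lift_of _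
  have hSS : ∀ a, S (S a) = a := by
    intro a
    obtain ⟨p, rfl⟩ := AdjoinRoot.mk_surjective a
    induction p using Polynomial.induction_on' with
    | add p p' hp hp' => rw [map_add, map_add, map_add, hp, hp']
    | monomial i c =>
      rw [← C_mul_X_pow_eq_monomial, map_mul, map_pow, AdjoinRoot.mk_C, AdjoinRoot.mk_X, map_mul, map_pow,
        hSc, map_mul, map_pow, hSc, C.bar_bar, ← hx, hSx, hSy]
  let f : AdjoinRoot φ ≃+* AdjoinRoot φ :=
    { toFun := S, invFun := S, left_inv := hSS, right_inv := hSS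
      map_mul' := map_mul S, map_add' := map_add S }
  have hform : ∀ a b, C.form (ev G z0 h.monic a) (ev G z0 h.monic b) = E (a * S b) := by
    intro a b
    obtain ⟨p, rfl⟩ := AdjoinRoot.mk_surjective b
    rw [ev_mk h, form_ev h hy]
    show _ = E (a * AdjoinRoot.lift _ y _ (AdjoinRoot.mk φ p))
    rw [AdjoinRoot.lift_mk]
  have hES : ∀ a, E (S a) = C.bar (E a) := by
    intro a
    have e1 : ev G z0 h.monic 1 = z0 := by rw [← map_one (AdjoinRoot.mk φ), ev_mk h, map_one, Matrix.one_mulVec]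
    have := hform 1 a
    rw [one_mul, e1] at this
    rw [← this, ← C.bar_form]
    rfl
  -- vanishing on an interval forces zero
  have hrec : ∀ (r : AdjoinRoot φ) (P : F[X]), P.Monic → P.natDegree ≤ 2 * k - 1 →
      AdjoinRoot.mk φ P * r = 0 → (∀ i, i < 2 * k - 1 → E (x ^ i * y ^ (k - 1) * r) = 0) → r = 0 := by
    intro r P hP hPd hPr hz
    have h0 : y ^ (k - 1) * r = 0 := by
      refine eq_zero_of_eps h fun a => ?_
      obtain ⟨A, rfl⟩ := AdjoinRoot.mk_surjective a
      have e : AdjoinRoot.mk φ A * (y ^ (k - 1) * r) = AdjoinRoot.mk φ (A %ₘ P) * (y ^ (k - 1) * r) := by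
        conv_lhs => rw [← Polynomial.modByMonic_add_div A P]
        rw [map_add, map_mul]
        linear_combination (AdjoinRoot.mk φ (A /ₘ P) * y ^ (k - 1)) * hPr
      rw [e]
      rcases eq_or_ne (A %ₘ P) 0 with e0 | e0
      · rw [e0, map_zero, zero_mul, eps_zero]
      have hd' : (A %ₘ P).natDegree < 2 * k - 1 :=
        lt_of_lt_of_le (natDegree_lt_natDegree e0 (degree_modByMonic_lt A hP)) hPd
      rw [eps_expand h.monic _ _ hd']
      refine Finset.sum_eq_zero fun i hi => ?_
      rw [← mul_assoc]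
      exact mul_eq_zero_of_right _ (hz i (Finset.mem_range.1 hi))
    calc r = (x * y) ^ (k - 1) * r := by rw [hy, one_pow, one_mul]
      _ = 0 := by rw [mul_pow, mul_assoc, h0, mul_zero]
  have hann : ∀ r : AdjoinRoot φ, ¬ IsUnit r → ∃ P : F[X], P.Monic ∧ P.natDegree < φ.natDegree ∧
      AdjoinRoot.mk φ P * r = 0 := by
    intro r hr
    obtain ⟨b, hb0, hb⟩ : ∃ b, b ≠ 0 ∧ b * r = 0 := by
      by_contra hcon
      refine hr ?_
      have hinj : Function.Injective fun b => b * r := by
        intro b b' hbb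
        by_contra hne
        exact hcon ⟨b - b', sub_ne_zero.2 hne, by rw [sub_mul, sub_eq_zero]; exact hbb⟩
      obtain ⟨b, hb⟩ := Finite.surjective_of_injective hinj 1
      exact IsUnit.of_mul_eq_one b ((mul_comm _ _).trans hb)
    obtain ⟨B, rfl⟩ := AdjoinRoot.mk_surjective b
    set B' := B %ₘ φ with hB'
    have eB : AdjoinRoot.mk φ B = AdjoinRoot.mk φ B' :=
      AdjoinRoot.mk_eq_mk.2 ⟨B /ₘ φ, by rw [hB']; linear_combination -modByMonic_add_div B φ⟩
    rw [eB] at hb hb0
    have hB0 : B' ≠ 0 := fun e => hb0 (by rw [e, map_zero])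
    refine ⟨normalize B', monic_normalize hB0, ?_, ?_⟩
    · rw [natDegree_eq_of_degree_eq degree_normalize]
      exact natDegree_lt_natDegree hB0 (degree_modByMonic_lt B h.monic)
    · rw [normalize_apply, map_mul, mul_right_comm, hb, zero_mul]
  have hcan : ∀ a b : ℕ, x ^ (b + a) * y ^ a = x ^ b := by
    intro a b
    rw [pow_add, mul_assoc, ← mul_pow, hy, one_pow, mul_one]
  have hrefl : ∀ s i : ℕ, i ≤ 2 * s → y ^ i * x ^ s = x ^ (2 * s - i) * y ^ s := by
    intro s i hi
    calc y ^ i * x ^ s = y ^ i * x ^ s * (x * y) ^ s := by rw [hy, one_pow, mul_one]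
      _ = x ^ (2 * s - i + i) * y ^ i * y ^ s := by
          rw [Nat.sub_add_cancel hi, two_mul, pow_add, mul_pow]; ring
      _ = _ := by rw [hcan]
  have hEneg : ∀ s i r, i ≤ 2 * s → E (x ^ i * y ^ s * S r) = C.bar (E (x ^ (2 * s - i) * y ^ s * r)) := by
    intro s i r hi
    rw [← hES, ← hrefl s i hi, map_mul, map_mul, map_pow, map_pow, hSx, hSy]
  -- the self-adjoint unit
  obtain ⟨R, hRS, hRu, hR0, hRk⟩ : ∃ R, S R = R ∧ IsUnit R ∧ (∀ l, l < k → E (x ^ l * R) = 0) ∧
      E (x ^ k * R) ≠ 0 := by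
    rcases Nat.mod_two_eq_zero_or_one φ.natDegree with hev | hod
    · -- even dimension
      obtain ⟨r, hr, -⟩ := exists_window h hy (k - 1)
        (fun i => if (i : ℕ) = 2 * k - 1 then 1 else 0)
      have hz : ∀ i, i < 2 * k - 1 → E (x ^ i * y ^ (k - 1) * r) = 0 := fun i hi => by
        have := hr ⟨i, by omega⟩
        rw [if_neg (show i ≠ 2 * k - 1 by omega)] at this
        exact this
      have hlast : E (x ^ (2 * k - 1) * y ^ (k - 1) * r) = 1 := by
        have := hr ⟨2 * k - 1, by omega⟩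
        rw [if_pos rfl] at this
        exact this
      have htop : E (x ^ k * r) = 1 := by
        rw [← hcan (k - 1) k, show k + (k - 1) = 2 * k - 1 by omega]; exact hlast
      have hr0 : r ≠ 0 := fun e => one_ne_zero (α := F) (by
        rw [← htop, e, mul_zero, hE, eps_zero])
      have hru : IsUnit r := by
        by_contra hcon
        obtain ⟨P, hP, hPd, hPr⟩ := hann r hcon
        exact hr0 (hrec r P hP (by omega) hPr hz)
      set c := E (x ^ (2 * k - 1) * y ^ (k - 1) * S r) with hc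
      have hcr : S r = c • r := by
        obtain ⟨r2, -, h2⟩ := exists_window h hy (k - 1)
          (fun i => if (i : ℕ) = 2 * k - 1 then c else 0)
        refine (h2 _ fun i => ?_).trans (h2 _ fun i => ?_).symm
        · split_ifs with hi
          · rw [hi]
          · show E _ = 0
            rw [hEneg _ _ _ (by omega), hz _ (by omega), map_zero]
        · rw [mul_smul_comm, eps_smul]
          split_ifs with hi
          · rw [hi, hE] at *
            rw [hlast, mul_one]
          · exact mul_eq_zero_of_right _ (hz _ (by omega))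
      have hSsmul : ∀ (a : F) (u : AdjoinRoot φ), S (a • u) = C.bar a • S u := fun a u => by
        rw [Algebra.smul_def, Algebra.smul_def, AdjoinRoot.algebraMap_eq, map_mul, hSc]
      have hcn : c * C.bar c = 1 := by
        have e := hSS r
        rw [hcr, hSsmul, hcr, smul_smul] at e
        have e2 := congrArg (fun u => E (x ^ k * u)) e
        simp only [mul_smul_comm] at e2
        rw [hE, eps_smul, ← hE, htop, mul_one, mul_comm] at e2
        exact e2
      obtain ⟨a, ha0, ha⟩ := exists_psi C hcn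
      rw [psi, div_eq_iff (bar_ne C ha0)] at ha
      refine ⟨a • r, ?_, ?_, fun l hl => ?_, ?_⟩
      · rw [hSsmul, hcr, smul_smul, mul_comm, ← ha]
      · rw [Algebra.smul_def]
        exact ((isUnit_iff_ne_zero.2 ha0).map _).mul hru
      · rw [mul_smul_comm, hE, eps_smul, ← hE, ← hcan (k - 1) l, hz _ (by omega), mul_zero]
      · rw [mul_smul_comm, hE, eps_smul, ← hE, htop, mul_one]; exact ha0
    · -- odd dimension
      obtain ⟨ω, hω, hωφ⟩ := hodd (Nat.odd_iff.2 hod)
      obtain ⟨η, hη0, hη⟩ := exists_psi C (norm_mul C (norm_coeff_zero h) (norm_inv C hω))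
      obtain ⟨r, hr, huniq⟩ := exists_window h hy k
        (fun i => if (i : ℕ) = 2 * k then η else if (i : ℕ) = 0 then C.bar η else 0)
      have hz : ∀ i, 0 < i → i < 2 * k → E (x ^ i * y ^ k * r) = 0 := fun i hi hi' => by
        have := hr ⟨i, by omega⟩
        rw [if_neg (show i ≠ 2 * k by omega), if_neg (show i ≠ 0 by omega)] at this
        exact this
      have hlast : E (x ^ (2 * k) * y ^ k * r) = η := by
        have := hr ⟨2 * k, by omega⟩
        rw [if_pos rfl] at this
        exact this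
      have hfirst : E (x ^ 0 * y ^ k * r) = C.bar η := by
        have := hr ⟨0, by omega⟩
        rw [if_neg (show 0 ≠ 2 * k by omega), if_pos rfl] at this
        exact this
      have htop : E (x ^ k * r) = η := by
        rw [← hcan k k, ← two_mul]; exact hlast
      have hlow : ∀ l, l < k → E (x ^ l * r) = 0 := fun l hl => by
        rw [← hcan k l, hz _ (by omega) (by omega)]
      have hSr : S r = r := by
        refine huniq _ fun i => ?_
        show E _ = _
        rw [hEneg _ _ _ (by omega)]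
        by_cases h1 : (i : ℕ) = 2 * k
        · rw [if_pos h1, h1, Nat.sub_self, hfirst, C.bar_bar]
        rw [if_neg h1]
        by_cases h2 : (i : ℕ) = 0
        · rw [if_pos h2, h2, Nat.sub_zero, hlast]
        · rw [if_neg h2, hz _ (by omega) (by omega), map_zero]
      refine ⟨r, hSr, ?_, hlow, htop ▸ hη0⟩
      by_contra hcon
      have hr0 : r ≠ 0 := fun e => hη0 (by rw [← htop, e, mul_zero, hE, eps_zero])
      have hz' : ∀ i, i < 2 * k - 1 → E (x ^ i * y ^ (k - 1) * r) = 0 := fun i hi => by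
        have e : x ^ i * y ^ (k - 1) = x ^ (i + 1) * y ^ k := by
          conv_rhs => rw [show k = k - 1 + 1 by omega, pow_succ x, pow_succ y]
          linear_combination -(x ^ i * y ^ (k - 1)) * hy
        rw [e, hz _ (by omega) (by omega)]
      obtain ⟨P, hP, hPd, hPr⟩ := hann r hcon
      have hPd' : P.natDegree = 2 * k := by
        by_contra hne
        exact hr0 (hrec r P hP (by omega) hPr hz')
      have hdiv := modByMonic_add_div φ P
      have hrem : φ %ₘ P = 0 := by
        by_contra hne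
        refine hr0 (hrec r (normalize (φ %ₘ P)) (monic_normalize hne) ?_ ?_ hz')
        · rw [natDegree_eq_of_degree_eq degree_normalize]
          have := natDegree_lt_natDegree hne (degree_modByMonic_lt φ hP)
          omega
        · have e : AdjoinRoot.mk φ (φ %ₘ P) * r = 0 := by
            have e1 := congrArg (AdjoinRoot.mk φ) hdiv
            rw [AdjoinRoot.mk_self, map_add, map_mul] at e1
            linear_combination r * e1 - AdjoinRoot.mk φ (φ /ₘ P) * hPr
          rw [normalize_apply, map_mul, mul_right_comm, e, zero_mul]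
      rw [hrem, zero_add] at hdiv
      obtain ⟨b, hb⟩ : ∃ b, φ /ₘ P = X + Polynomial.C b := by
        refine ⟨_, Monic.eq_X_add_C (hP.of_mul_monic_left (by rw [hdiv]; exact h.monic)) ?_⟩
        rw [natDegree_divByMonic φ hP]; omega
      have hrel : P.coeff 0 * C.bar η + η = 0 := by
        have e0 : E (AdjoinRoot.mk φ P * (y ^ k * r)) = 0 := by
          rw [mul_left_comm, hPr, mul_zero, hE, eps_zero]
        rw [hE, eps_expand h.monic P (2 * k + 1) (by omega), Finset.sum_range_succ, ← hE] at e0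
        have e1 : ∑ i ∈ Finset.range (2 * k), P.coeff i * E (x ^ i * (y ^ k * r)) = P.coeff 0 * C.bar η := by
          rw [Finset.sum_eq_single 0]
          · rw [← mul_assoc, hfirst]
          · intro i hi hi0
            rw [← mul_assoc, hz i (Nat.pos_of_ne_zero hi0) (Finset.mem_range.1 hi), mul_zero]
          · intro h0; exact absurd (Finset.mem_range.2 (by omega)) h0
        rw [e1, ← mul_assoc (x ^ (2 * k)), hlast] at e0
        rw [← hPd', hP.coeff_natDegree, one_mul] at e0
        exact e0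
      have hc0 : φ.coeff 0 = P.coeff 0 * b := by
        conv_lhs => rw [← hdiv, hb]
        simp [mul_coeff_zero]
      refine hωφ ?_
      rw [← hdiv, hb, eval_mul]
      refine mul_eq_zero_of_right _ ?_
      rw [eval_add, eval_X, eval_C]
      rw [psi, div_eq_iff (bar_ne C hη0)] at hη
      have hP0 : P.coeff 0 ≠ 0 := fun e => h.coeff_zero (by rw [hc0, e, zero_mul])
      have e2 : (P.coeff 0 * C.bar η) * (b + ω) = 0 := by
        have hω0 := norm_one_ne C hω
        rw [hc0] at hη
        field_simp at hη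
        linear_combination ω * hrel - hη
      rw [add_comm]
      exact (mul_eq_zero.1 e2).resolve_left (mul_ne_zero hP0 (bar_ne C hη0))
  -- the generator
  obtain ⟨θ0, hθ0⟩ := C.exists_not_fixed
  obtain ⟨u, hu, huR⟩ := IsometryConj.exists_norm f hSS (AdjoinRoot.of φ θ0) (by
    show IsUnit (AdjoinRoot.of φ θ0 - S (AdjoinRoot.of φ θ0))
    rw [hSc, ← map_sub]
    exact (isUnit_iff_ne_zero.2 (sub_ne_zero.2 (Ne.symm hθ0))).map _) hRS hRu
  obtain ⟨p, hp⟩ := AdjoinRoot.mk_surjective u
  obtain ⟨u', hu'⟩ := hu.exists_left_inv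
  obtain ⟨p', hp'⟩ := AdjoinRoot.mk_surjective u'
  have hz : ∀ l, C.form (G ^ l *ᵥ (aeval G p *ᵥ z0)) (aeval G p *ᵥ z0) = E (x ^ l * R) := by
    intro l
    rw [← ev_mk h, ← ev_root_pow_mul h, hform, mul_assoc, hp]
    exact congrArg (fun t => E (x ^ l * t)) huR
  refine ⟨aeval G p *ᵥ z0, p, p', rfl, ?_, fun P => ?_, fun l hl => (hz l).trans (hR0 l hl),
    fun e => hRk ((hz k).symm.trans e)⟩
  · rw [← ev_mk h p, ← ev_mk_mul h, hp, hp', hu', ← map_one (AdjoinRoot.mk φ), ev_mk h, map_one,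
      Matrix.one_mulVec]
  · rw [← ev_mk h p, ← ev_mk_mul h, hp]
    constructor
    · intro e
      have e2 := ev_eq_zero h e
      exact AdjoinRoot.mk_eq_zero.1 ((hu.mul_left_eq_zero).1 e2)
    · intro e
      rw [AdjoinRoot.mk_eq_zero.2 e, zero_mul, ← map_zero (AdjoinRoot.mk φ), ev_mk h, map_zero,
        Matrix.zero_mulVec]

end CfsgLib.OreSu.Piece
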