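import Cfsg.Agent.Lib.Lie.OreSu.Crit
import Cfsg.Agent.Lib.Lie.OreSu.Piece

/-!
The frame of a decomposition into non-degenerate cyclic spaces and lines, and its adjustments.
-/

set_option autoImplicit false
set_option linter.unusedSectionVars false

namespace CfsgLib.OreSu

open CfsgLib.SU Polynomial Matrix
open CfsgLib.OreSu.Piece (Cyc)

variable {F : Type*} [Field F] {q n : ℕ} (C : UCtx F q)

section Rep

variable {ι κ : Type*} [Fintype ι] [DecidableEq ι] [Fintype κ] [DecidableEq κ]

local notation "BIG" => Matrix (ι ⊕ (κ ⊕ ι)) (ι ⊕ (κ ⊕ ι)) F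

/-- `g` is the matrix of `G` in a frame -/
def Rep (G : Matrix (Fin n) (Fin n) F) (g : BIG) : Prop :=
  ∃ (B : Matrix (Fin n) (ι ⊕ (κ ⊕ ι)) F) (B' : Matrix (ι ⊕ (κ ⊕ ι)) (Fin n) F),
    B * B' = 1 ∧ B' * B = 1 ∧ ad C B * B = JJ ∧ g = B' * G * B

variable {C}

theorem ad_iso_of {G : Matrix (Fin n) (Fin n) F}
    (hG : ∀ u v : Fin n → F, C.form (G *ᵥ u) (G *ᵥ v) = C.form u v) : ad C G * G = 1 := by
  ext x y
  have h := hG (Pi.single y 1) (Pi.single x 1)
  rw [Matrix.mulVec_single_one, Matrix.mulVec_single_one] at h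
  rw [Matrix.mul_apply]
  have e : ∀ i, ad C G x i * G i y = G i y * C.bar (G i x) := fun i => by
    show C.bar (G i x) * G i y = _
    rw [mul_comm]
  rw [Finset.sum_congr rfl fun i _ => e i]
  refine h.trans ?_
  simp only [UCtx.form, Matrix.one_apply, Pi.single_apply]
  simp [apply_ite C.bar, eq_comm]

theorem Rep.iso {G : Matrix (Fin n) (Fin n) F} {g : BIG} (h : Rep C G g) (hG : ad C G * G = 1) : Iso C g := by
  obtain ⟨B, B', h1, h2, h3, rfl⟩ := h
  show ad C (B' * G * B) * JJ * (B' * G * B) = JJ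
  rw [← h3, ad_mul, ad_mul, show ad C B * (ad C G * ad C B') * (ad C B * B) * (B' * G * B) =
    ad C B * (ad C G * (((ad C B' * ad C B) * (B * B')) * G)) * B by simp only [Matrix.mul_assoc],
    ← ad_mul, h1, ad_one, Matrix.one_mul, Matrix.one_mul, hG, Matrix.mul_one]

theorem Rep.det_eq {G : Matrix (Fin n) (Fin n) F} {g : BIG} (h : Rep C G g) : g.det = G.det := by
  obtain ⟨B, B', h1, h2, -, rfl⟩ := h
  exact Matrix.det_conj_of_mul_eq_one h2 h1

theorem Rep.conj {G : Matrix (Fin n) (Fin n) F} {g : BIG} (h : Rep C G g) {U U' : BIG} (hU : Iso C U)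
    (h1 : U * U' = 1) : Rep C G (U' * g * U) := by
  obtain ⟨B, B', hb1, hb2, hb3, rfl⟩ := h
  refine ⟨B * U, U' * B', ?_, ?_, ?_, by simp only [Matrix.mul_assoc]⟩
  · rw [Matrix.mul_assoc, ← Matrix.mul_assoc U, h1, Matrix.one_mul, hb1]
  · rw [Matrix.mul_assoc, ← Matrix.mul_assoc B', hb2, Matrix.one_mul, mul_eq_one_comm.1 h1]
  · rw [ad_mul, Matrix.mul_assoc, ← Matrix.mul_assoc (ad C B), hb3, ← Matrix.mul_assoc]
    exact hU

/-- a commutator in the frame is a commutator -/
theorem Rep.commutator {G : Cfsg.SU n F q} {g : UG (ι := ι) (κ := κ) C} (h : Rep C G.1.1 g.1.1)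
    (hc : ∃ x y : UG (ι := ι) (κ := κ) C, g = x * y * x⁻¹ * y⁻¹) :
    ∃ a b : Cfsg.SU n F q, G = a * b * a⁻¹ * b⁻¹ := by
  obtain ⟨B, B', h1, h2, h3, hg⟩ := h
  obtain ⟨x, y, hxy⟩ := hc
  have hB : B' = (JJ : BIG) * ad C B := by
    calc B' = (JJ : BIG) * ((JJ : BIG) * B') := by rw [← Matrix.mul_assoc, JJ_sq, Matrix.one_mul]
      _ = (JJ : BIG) * (ad C B * (B * B')) := by rw [← Matrix.mul_assoc (ad C B), h3]
      _ = _ := by rw [h1, Matrix.mul_one]
  have hadB' : ad C B' * (JJ : BIG) * B' = 1 := by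
    rw [hB, ad_mul, ad_ad, ad_JJ, Matrix.mul_assoc B, JJ_sq, Matrix.mul_one, ← hB, h1]
  have hform : ∀ z : UG (ι := ι) (κ := κ) C, ∀ u v : Fin n → F,
      C.form ((B * z.1.1 * B') *ᵥ u) ((B * z.1.1 * B') *ᵥ v) = C.form u v := by
    intro z u v
    have key : ad C (B * z.1.1 * B') * (B * z.1.1 * B') = 1 := by
      rw [ad_mul, ad_mul, show ad C B' * (ad C z.1.1 * ad C B) * (B * z.1.1 * B') =
        ad C B' * (ad C z.1.1 * (ad C B * B) * z.1.1) * B' by simp only [Matrix.mul_assoc], h3,
        show ad C z.1.1 * JJ * z.1.1 = JJ from z.2, hadB']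
    generalize B * z.1.1 * B' = Z at key ⊢
    have key' : Zᵀ * Z.map C.bar = 1 := by
      have h := congrArg Matrix.transpose key
      rw [Matrix.transpose_mul, Matrix.transpose_one] at h
      exact h
    have hv : (fun i => C.bar ((Z *ᵥ v) i)) = (Z.map C.bar) *ᵥ (fun i => C.bar (v i)) := by
      funext i
      simp [Matrix.mulVec, dotProduct, map_sum, map_mul]
    show (Z *ᵥ u) ⬝ᵥ (fun i => C.bar ((Z *ᵥ v) i)) = u ⬝ᵥ fun i => C.bar (v i)
    rw [hv, Matrix.dotProduct_mulVec, Matrix.vecMul_mulVec, key', Matrix.vecMul_one]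
  let T : UG (ι := ι) (κ := κ) C → Cfsg.SU n F q := fun z =>
    C.mkSU (B * z.1.1 * B') (by rw [Matrix.det_conj_of_mul_eq_one h1 h2]; exact z.1.2) (hform z)
  have hT : ∀ z, (T z).1.1 = B * z.1.1 * B' := fun z => rfl
  have hmul : ∀ z w, T (z * w) = T z * T w := fun z w => Subtype.ext (Subtype.ext (by
    show B * (z.1.1 * w.1.1) * B' = B * z.1.1 * B' * (B * w.1.1 * B')
    rw [show B * z.1.1 * B' * (B * w.1.1 * B') = B * (z.1.1 * ((B' * B) * w.1.1)) * B' by
      simp only [Matrix.mul_assoc], h2, Matrix.one_mul]))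
  let Th : UG (ι := ι) (κ := κ) C →* Cfsg.SU n F q := MonoidHom.mk' T hmul
  refine ⟨Th x, Th y, ?_⟩
  rw [← map_inv, ← map_inv, ← map_mul, ← map_mul, ← map_mul, ← hxy]
  refine Subtype.ext (Subtype.ext ?_)
  show G.1.1 = B * g.1.1 * B'
  rw [hg, show B * (B' * G.1.1 * B) * B' = (B * B') * G.1.1 * (B * B') by simp only [Matrix.mul_assoc],
    h1, Matrix.one_mul, Matrix.mul_one]

end Rep

section Std

variable {r : ℕ} {k : Fin r → ℕ} {κ : Type*} [Fintype κ] [DecidableEq κ]

/-- the isotropy block of the first half -/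
def xmat (k : Fin r → ℕ) (η : Fin r → F) : Matrix (Σ j, Fin (k j)) (Σ j, Fin (k j)) F :=
  blockDiagonal' fun j => Matrix.of fun i m => if (i : ℕ) = 0 ∧ (m : ℕ) + 1 = k j then η j else 0

/-- columns before the last one are shifts -/
def Shift (k : Fin r → ℕ) (M : Matrix (Σ j, Fin (k j)) (Σ j, Fin (k j)) F) : Prop :=
  ∀ a b : Σ j, Fin (k j), (b.2 : ℕ) + 1 ≠ k b.1 →
    M a b = if a.1 = b.1 ∧ (a.2 : ℕ) = (b.2 : ℕ) + 1 then 1 else 0

/-- first index of a block -/
def fst {J : Type*} {k : J → ℕ} (hk : ∀ j, 0 < k j) (j : J) : Σ j, Fin (k j) := ⟨j, ⟨0, hk j⟩⟩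

/-- last index of a block -/
def lst {J : Type*} {k : J → ℕ} (hk : ∀ j, 0 < k j) (j : J) : Σ j, Fin (k j) :=
  ⟨j, ⟨k j - 1, Nat.sub_lt (hk j) one_pos⟩⟩

variable (hk : ∀ j, 0 < k j)

theorem mul_xmat (S : Matrix (Σ j, Fin (k j)) (Σ j, Fin (k j)) F) (η : Fin r → F) (a b : Σ j, Fin (k j)) :
    (S * xmat k η) a b = if (b.2 : ℕ) + 1 = k b.1 then S a (fst hk b.1) * η b.1 else 0 := by
  rw [Matrix.mul_apply, Finset.sum_eq_single (fst hk b.1)]
  · obtain ⟨j, m⟩ := b
    rw [fst, xmat, blockDiagonal'_apply_eq, Matrix.of_apply]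
    simp only [true_and, mul_ite, mul_zero]
  · intro c _ hc
    obtain ⟨j, m⟩ := b
    obtain ⟨l, i⟩ := c
    by_cases h : l = j
    · subst h
      rw [xmat, blockDiagonal'_apply_eq, Matrix.of_apply, if_neg, mul_zero]
      exact fun e => hc (by rw [fst]; exact congrArg (Sigma.mk l) (Fin.ext e.1))
    · rw [xmat, blockDiagonal'_apply_ne _ _ _ h, mul_zero]
  · intro h; exact absurd (Finset.mem_univ _) h

variable {C}

/-- skewness of the corner forced by the form -/
theorem corner_skew {g : Matrix ((Σ j, Fin (k j)) ⊕ (κ ⊕ Σ j, Fin (k j))) _ F} {η : Fin r → F}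
    (hg : Iso C g) (h21 : g.submatrix (Sum.inr ∘ Sum.inl) Sum.inl = 0)
    (h31 : g.submatrix (Sum.inr ∘ Sum.inr) Sum.inl = xmat k η) {l j : Fin r} (hl : η l ≠ 0) (hj : η j ≠ 0) :
    g (Sum.inl (fst hk l)) (Sum.inl (lst hk j)) / η j +
      C.bar (g (Sum.inl (fst hk j)) (Sum.inl (lst hk l)) / η l) = 0 := by
  obtain ⟨M, g12, g13, g21, g22, g23, g31, g32, g33, rfl⟩ := exists_b3 g
  have e21 : g21 = 0 := by rw [← h21]; ext i j; simp [b3]
  have e31 : g31 = xmat k η := by rw [← h31]; ext i j; simp [b3]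
  simp only [Iso, b3_ad, JJ, b3_mul, Matrix.mul_zero, Matrix.mul_one, zero_add, add_zero] at hg
  obtain ⟨h11, -⟩ := b3_inj hg
  subst e21 e31
  rw [ad_zero, Matrix.zero_mul, add_zero] at h11
  have h := congrFun (congrFun h11 (lst hk l)) (lst hk j)
  rw [Matrix.add_apply, Matrix.zero_apply] at h
  have hlast : ∀ i, ((lst hk i).2 : ℕ) + 1 = k (lst hk i).1 := fun i => Nat.sub_add_cancel (hk i)
  have e1 : (ad C (xmat k η) * M) (lst hk l) (lst hk j) = C.bar (η l) * M (fst hk l) (lst hk j) := by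
    have e : ad C (xmat k η) * M = ad C (ad C M * xmat k η) := by rw [ad_mul, ad_ad]
    rw [e]
    show C.bar ((ad C M * xmat k η) (lst hk j) (lst hk l)) = _
    rw [mul_xmat hk, if_pos (hlast l), map_mul]
    show C.bar (C.bar (M (fst hk l) (lst hk j))) * C.bar (η l) = _
    rw [C.bar_bar, mul_comm]
  have e2 : (ad C M * xmat k η) (lst hk l) (lst hk j) = C.bar (M (fst hk j) (lst hk l)) * η j := by
    rw [mul_xmat hk, if_pos (hlast j)]; rfl
  rw [e1, e2] at h
  have := bar_ne C hl
  show M (fst hk l) (lst hk j) / η j + C.bar (M (fst hk j) (lst hk l) / η l) = 0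
  rw [map_div₀]
  field_simp
  linear_combination h

/-- change of frame by an upper unipotent element -/
theorem adjust_core {ι' : Type*} [Fintype ι'] [DecidableEq ι'] {G : Matrix (Fin n) (Fin n) F}
    {g : Matrix (ι' ⊕ (κ ⊕ ι')) _ F} {X : Matrix ι' ι' F} (hrep : Rep C G g)
    (h21 : g.submatrix (Sum.inr ∘ Sum.inl) Sum.inl = 0)
    (h31 : g.submatrix (Sum.inr ∘ Sum.inr) Sum.inl = X)
    {R : Matrix κ ι' F} {S : Matrix ι' ι' F}
    (hRS : Rad C R (ad C S)) :
    ∃ g', Rep C G g' ∧ g'.submatrix Sum.inl Sum.inl = g.submatrix Sum.inl Sum.inl + S * X ∧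
      g'.submatrix (Sum.inr ∘ Sum.inl) Sum.inl = -(R * X) ∧
      g'.submatrix (Sum.inr ∘ Sum.inl) (Sum.inr ∘ Sum.inl) =
        g.submatrix (Sum.inr ∘ Sum.inl) (Sum.inr ∘ Sum.inl) -
          R * g.submatrix (Sum.inr ∘ Sum.inr) (Sum.inr ∘ Sum.inl) + R * X * ad C R := by
  have h' : Rad C (-R) S := by
    unfold Rad at hRS ⊢
    rw [ad_neg, Matrix.neg_mul, Matrix.mul_neg, neg_neg, ← hRS, ad_ad]; abel
  have hinv : low C R (ad C S) * low C (-R) S = 1 := by
    have e : ad C S + ad C R * R + S = 0 := by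
      unfold Rad at hRS; rw [ad_ad] at hRS; rw [← hRS]; abel
    simp [low, b3_mul, ← b3_one, ad_neg, e]
  set U := JJ * low C R (ad C S) * JJ
  set U' := JJ * low C (-R) S * JJ
  have hUU : U * U' = 1 := by
    show JJ * low C R (ad C S) * JJ * (JJ * low C (-R) S * JJ) = 1
    rw [show JJ * low C R (ad C S) * JJ * (JJ * low C (-R) S * JJ) =
      JJ * (low C R (ad C S) * ((JJ * JJ) * low C (-R) S)) * JJ by simp only [Matrix.mul_assoc], JJ_sq,
      Matrix.one_mul, hinv, Matrix.mul_one, JJ_sq]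
  refine ⟨U' * g * U, hrep.conj (iso_conj C (iso_low C hRS)) hUU, ?_⟩
  obtain ⟨M, g12, g13, g21, g22, g23, g31, g32, g33, rfl⟩ := exists_b3 g
  have e21 : g21 = 0 := by rw [← h21]; ext i j; simp [b3]
  have e31 : g31 = X := by rw [← h31]; ext i j; simp [b3]
  subst e21 e31
  have hprod : U' * b3 M g12 g13 0 g22 g23 g31 g32 g33 * U =
      JJ * low C (-R) S * JJ * b3 M g12 g13 0 g22 g23 g31 g32 g33 *
        (JJ * low C R (ad C S) * JJ) := rfl
  rw [hprod, low, low, JJ_conj, JJ_conj, ad_neg, neg_neg, b3_mul, b3_mul]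
  refine ⟨?_, ?_, ?_⟩
  · ext i j; simp [b3, Matrix.mul_apply]
  · ext i j; simp [b3]
  · ext i j; simp [b3, Matrix.mul_apply]; ring

/-- adjustment without lines -/
theorem adjust [Finite F] {G : Matrix (Fin n) (Fin n) F} (hG : ad C G * G = 1)
    {g : Matrix ((Σ j, Fin (k j)) ⊕ (κ ⊕ Σ j, Fin (k j))) _ F} {η : Fin r → F} {δ : κ → F} (hrep : Rep C G g)
    (h21 : g.submatrix (Sum.inr ∘ Sum.inl) Sum.inl = 0)
    (h31 : g.submatrix (Sum.inr ∘ Sum.inr) Sum.inl = xmat k η)
    (h22 : g.submatrix (Sum.inr ∘ Sum.inl) (Sum.inr ∘ Sum.inl) = diagonal δ)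
    (p : Option (Fin r × κ)) {M : Matrix (Σ j, Fin (k j)) (Σ j, Fin (k j)) F} (hMd : M.det ≠ 0)
    (hM : ∀ a b : Σ j, Fin (k j), ((b.2 : ℕ) + 1 ≠ k b.1 ∨ η b.1 = 0) → M a b = g (Sum.inl a) (Sum.inl b))
    (hskew : ∀ l j, (∀ x ∈ p, l ≠ x.1 ∨ j ≠ x.1) →
      (M (fst hk l) (lst hk j) - g (Sum.inl (fst hk l)) (Sum.inl (lst hk j))) / η j +
        C.bar ((M (fst hk j) (lst hk l) - g (Sum.inl (fst hk j)) (Sum.inl (lst hk l))) / η l) = 0) :
    ∃ g' δ', Rep C G g' ∧ g'.submatrix Sum.inl Sum.inl = M ∧ schur g' = diagonal δ' ∧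
      (∀ t, δ' t * C.bar (δ' t) = 1) ∧ (∀ t, (∀ x ∈ p, t ≠ x.2) → δ' t = δ t) ∧
      psi C M.det * ∏ t, δ' t = G.det := by
  classical
  set Δ := fun a j => (M a (lst hk j) - g (Sum.inl a) (Sum.inl (lst hk j))) / η j with hΔ
  let S : Matrix (Σ j, Fin (k j)) (Σ j, Fin (k j)) F := Matrix.of fun a b =>
    if (b.2 : ℕ) = 0 then Δ a b.1 else if (a.2 : ℕ) = 0 then -C.bar (Δ b a.1) else 0
  obtain ⟨R, hR, hRrow⟩ : ∃ R : Matrix κ (Σ j, Fin (k j)) F, Rad C R (ad C S) ∧
      ∀ t, (∀ x ∈ p, t ≠ x.2) → ∀ a, R t a = 0 := by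
    have hz : ∀ a b : Σ j, Fin (k j), (b.2 : ℕ) = 0 → b = fst hk b.1 := by
      rintro a ⟨j, m⟩ h
      exact congrArg (Sigma.mk j) (Fin.ext h)
    have hsum : ∀ a b : Σ j, Fin (k j), ((∀ x ∈ p, a ≠ fst hk x.1 ∨ b ≠ fst hk x.1)) →
        C.bar (S b a) + S a b = 0 := by
      intro a b hab
      simp only [S, Matrix.of_apply]
      by_cases ha : (a.2 : ℕ) = 0 <;> by_cases hb : (b.2 : ℕ) = 0 <;>
        simp only [ha, hb, if_true, if_false]
      · have e1 := hz a a ha
        have e2 := hz b b hb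
        have h := hskew a.1 b.1 fun x hx => by
          rcases hab x hx with h | h
          · exact Or.inl fun e => h (e ▸ e1)
          · exact Or.inr fun e => h (e ▸ e2)
        rw [← e1, ← e2, add_comm] at h
        exact h
      · exact add_neg_cancel _
      · rw [map_neg, C.bar_bar]; exact neg_add_cancel _
      · rw [map_zero, add_zero]
    rcases p with _ | ⟨j0, s0⟩
    · refine ⟨0, ?_, fun t _ a => rfl⟩
      unfold Rad
      rw [ad_ad, Matrix.mul_zero, add_zero]
      ext a b
      exact hsum a b (by simp)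
    · set c := Δ (fst hk j0) j0 with hc
      obtain ⟨a0, ha0⟩ := C.exists_trace_ne_zero
      clear ha0
      obtain ⟨a, ha⟩ : ∃ a, a * C.bar a = -(c + C.bar c) := by
        by_cases h0 : c + C.bar c = 0
        · exact ⟨0, by rw [h0, zero_mul, neg_zero]⟩
        · have hb : C.bar (-(c + C.bar c)) = -(c + C.bar c) := by rw [map_neg, map_add, C.bar_bar, add_comm]
          exact C.exists_norm hb
      refine ⟨Matrix.of fun t b => if t = s0 ∧ b = fst hk j0 then a else 0, ?_, fun t ht b => if_neg fun e =>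
        ht ⟨j0, s0⟩ rfl e.1⟩
      unfold Rad
      rw [ad_ad]
      ext x y
      rw [Matrix.add_apply, Matrix.add_apply, Matrix.zero_apply, Matrix.mul_apply,
        Finset.sum_eq_single s0 (fun t _ ht => by simp [ht]) (by simp)]
      show C.bar (S y x) + S x y + C.bar (if s0 = s0 ∧ x = fst hk j0 then a else 0) *
        (if s0 = s0 ∧ y = fst hk j0 then a else 0) = 0
      by_cases hxy : x = fst hk j0 ∧ y = fst hk j0
      · obtain ⟨rfl, rfl⟩ := hxy
        have e : S (fst hk j0) (fst hk j0) = c := by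
          simp only [S, Matrix.of_apply]
          rw [if_pos (show ((fst hk j0).2 : ℕ) = 0 from rfl)]
          rfl
        rw [e, if_pos ⟨rfl, rfl⟩]
        linear_combination ha
      · rw [hsum x y fun z hz => by
          obtain rfl : (j0, s0) = z := Option.some_injective _ hz
          exact not_and_or.1 hxy, zero_add]
        rcases not_and_or.1 hxy with h | h
        · rw [if_neg fun e => h e.2, map_zero, zero_mul]
        · rw [if_neg (c := s0 = s0 ∧ y = fst hk j0) fun e => h e.2, mul_zero]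
  obtain ⟨g', hrep', h11', h21', h22'⟩ := adjust_core hrep h21 h31 hR
  have hg'M : g'.submatrix Sum.inl Sum.inl = M := by
    rw [h11']
    ext a b
    rw [Matrix.add_apply, mul_xmat hk]
    by_cases hb : (b.2 : ℕ) + 1 = k b.1
    · rw [if_pos hb]
      have eb : b = lst hk b.1 := by
        obtain ⟨j, m⟩ := b
        exact congrArg (Sigma.mk j) (Fin.ext (by simp only at hb ⊢; omega))
      show g (Sum.inl a) (Sum.inl b) + S a (fst hk b.1) * η b.1 = M a b
      simp only [S, Matrix.of_apply]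
      rw [if_pos (show ((fst hk b.1).2 : ℕ) = 0 from rfl)]
      show _ + Δ a b.1 * η b.1 = _
      rcases eq_or_ne (η b.1) 0 with h0 | h0
      · rw [h0, mul_zero, add_zero, hM a b (Or.inr h0)]
      · rw [hΔ]
        dsimp only
        rw [div_mul_cancel₀ _ h0, ← eb]
        ring
    · rw [if_neg hb, add_zero, hM a b (Or.inl hb)]; rfl
  have hiso := hrep'.iso hG
  have hMd' : (g'.submatrix Sum.inl Sum.inl).det ≠ 0 := hg'M ▸ hMd
  obtain ⟨Q₀, S₀, R', T', -, -, hDu, -⟩ := exists_decomp hiso hMd'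
  change ad C (schur g') * schur g' = 1 at hDu
  have hrow : ∀ t, (∀ x ∈ p, t ≠ x.2) → ∀ u, schur g' t u = if t = u then δ t else 0 := by
    intro t ht u
    have e0 : ∀ b, (R * xmat k η) t b = 0 := fun b => by
      rw [Matrix.mul_apply]
      exact Finset.sum_eq_zero fun a _ => by rw [hRrow t ht a, zero_mul]
    unfold schur
    rw [h21', h22', h22, Matrix.neg_mul, Matrix.neg_mul, sub_neg_eq_add, Matrix.add_apply, Matrix.add_apply,
      Matrix.sub_apply, Matrix.diagonal_apply]
    have z1 : ∀ {μ : Type _} (N : Matrix (Σ j, Fin (k j)) μ F) (v : μ), (R * N) t v = 0 := fun N v => by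
      rw [Matrix.mul_apply]
      exact Finset.sum_eq_zero fun a _ => by rw [hRrow t ht a, zero_mul]
    have z2 : ∀ {μ : Type _} (N : Matrix (Σ j, Fin (k j)) μ F) (v : μ), (R * xmat k η * N) t v = 0 := fun N v => by
      rw [Matrix.mul_apply]
      exact Finset.sum_eq_zero fun a _ => by rw [e0, zero_mul]
    rw [z1, z2, Matrix.mul_assoc (R * xmat k η), z2]
    simp
  have hdiag : ∀ t u, t ≠ u → schur g' t u = 0 := by
    intro t u htu
    by_cases ht : ∀ x ∈ p, t ≠ x.2
    · rw [hrow t ht u, if_neg htu]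
    simp only [not_forall, exists_prop, not_not] at ht
    obtain ⟨x, hx, rfl⟩ := ht
    have hne : ∀ v, v ≠ x.2 → ∀ y ∈ p, v ≠ y.2 := fun v hv y hy => by
      rw [Option.mem_def] at hx hy
      rw [hx] at hy; rw [← Option.some_injective _ hy]; exact hv
    -- column `u` has norm one already in its own row
    have hu := congrFun (congrFun hDu u) u
    rw [Matrix.mul_apply, Matrix.one_apply_eq, ← Finset.sum_erase_add _ _ (Finset.mem_univ u),
      Finset.sum_eq_single x.2 (fun v hv hvx => by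
        rw [hrow v (hne v hvx) u, if_neg (Finset.mem_erase.1 hv).1, mul_zero])
        (fun h => absurd (Finset.mem_erase.2 ⟨htu, Finset.mem_univ _⟩) h)] at hu
    have hδ : C.bar (schur g' u u) * schur g' u u = 1 := by
      have h : schur g' * ad C (schur g') = 1 := mul_eq_one_comm.1 hDu
      have h' := congrFun (congrFun h u) u
      rw [Matrix.mul_apply, Matrix.one_apply_eq, Finset.sum_eq_single u (fun v _ hv => by
        rw [hrow u (hne u (Ne.symm htu)) v, if_neg (Ne.symm hv), zero_mul]) (by simp)] at h'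
      rw [mul_comm]; exact h'
    change C.bar (schur g' x.2 u) * schur g' x.2 u + C.bar (schur g' u u) * schur g' u u = 1 at hu
    rw [hδ, add_eq_right] at hu
    rcases mul_eq_zero.1 hu with h | h
    · exact (map_eq_zero C.bar).1 h
    · exact h
  have hD : schur g' = diagonal fun t => schur g' t t := by
    ext t u
    rw [Matrix.diagonal_apply]
    split_ifs with h
    · rw [h]
    · exact hdiag t u h
  refine ⟨g', fun t => schur g' t t, hrep', hg'M, hD, fun t => ?_, fun t ht => by dsimp only; rw [hrow t ht t, if_pos rfl], ?_⟩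
  · have h := congrFun (congrFun hDu t) t
    rw [Matrix.mul_apply, Matrix.one_apply_eq, Finset.sum_eq_single t (fun v _ hv => by
      rw [hdiag v t hv, mul_zero]) (by simp)] at h
    rw [mul_comm]; exact h
  · rw [← hrep'.det_eq, det_eq_of_iso hiso hMd', hg'M]
    conv_rhs => rw [hD, det_diagonal]

end Std

section Half

variable {C} [Finite F] {G : Matrix (Fin n) (Fin n) F} {z : Fin n → F} {φ : F[X]}

/-- the linear combinations of the first powers -/
noncomputable def comb (G : Matrix (Fin n) (Fin n) F) (z : Fin n → F) (d : ℕ) : (Fin d → F) →ₗ[F] (Fin n → F) :=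
  Fintype.linearCombination F fun i : Fin d => G ^ (i : ℕ) *ᵥ z

theorem comb_eq (d : ℕ) (a : Fin d → F) :
    comb G z d a = aeval G (∑ i : Fin d, Polynomial.C (a i) * X ^ (i : ℕ)) *ᵥ z := by
  rw [comb, Fintype.linearCombination_apply, map_sum, Matrix.sum_mulVec]
  refine Finset.sum_congr rfl fun i _ => ?_
  rw [map_mul, map_pow, aeval_C, aeval_X, ← Algebra.smul_def, Matrix.smul_mulVec]

theorem comb_coeff (d : ℕ) (a : Fin d → F) (i : Fin d) :
    (∑ i : Fin d, Polynomial.C (a i) * X ^ (i : ℕ)).coeff (i : ℕ) = a i := by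
  rw [Polynomial.finsetSum_coeff, Finset.sum_eq_single i]
  · simp
  · intro j _ hj
    rw [coeff_C_mul_X_pow, if_neg fun e => hj (Fin.ext e.symm)]
  · simp

theorem comb_poly_degree (h : φ.Monic) (a : Fin φ.natDegree → F) :
    (∑ i : Fin φ.natDegree, Polynomial.C (a i) * X ^ (i : ℕ)).degree < φ.degree := by
  rw [degree_eq_natDegree h.ne_zero]
  refine lt_of_le_of_lt (degree_sum_le _ _) ?_
  refine (Finset.sup_lt_iff (WithBot.bot_lt_coe _)).2 fun i _ => ?_
  exact lt_of_le_of_lt (degree_C_mul_X_pow_le _ _) (WithBot.coe_lt_coe.2 i.isLt)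

theorem comb_injective (h : Cyc C G z φ) : Function.Injective (comb G z φ.natDegree) := by
  refine (injective_iff_map_eq_zero (comb G z φ.natDegree)).2 fun a ha => ?_
  rw [comb_eq, h.ker] at ha
  have hp := eq_zero_of_dvd_of_degree_lt ha (comb_poly_degree h.monic a)
  funext i
  rw [← comb_coeff φ.natDegree a i, hp, coeff_zero]
  rfl

/-- prescribed inner products against the first powers -/
theorem exists_pairing (h : Cyc C G z φ) (t : Fin φ.natDegree → F) :
    ∃ a, ∀ i : Fin φ.natDegree, C.form (comb G z φ.natDegree a) (G ^ (i : ℕ) *ᵥ z) = t i := by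
  let L : (Fin φ.natDegree → F) →ₗ[F] (Fin φ.natDegree → F) :=
    { toFun := fun a i => C.form (comb G z φ.natDegree a) (G ^ (i : ℕ) *ᵥ z)
      map_add' := fun a b => by funext i; simp only [map_add, C.form_add_left]; rfl
      map_smul' := fun c a => by funext i; simp only [map_smul, C.form_smul_left]; rfl }
  have hinj : Function.Injective L := by
    refine (injective_iff_map_eq_zero L).2 fun a ha => comb_injective h ?_
    rw [map_zero, comb_eq]
    refine (h.ker _).2 (h.nondeg _ fun i => ?_)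
    rw [← comb_eq]
    obtain ⟨P, hP⟩ : ∃ P, P = (X : F[X]) ^ i %ₘ φ := ⟨_, rfl⟩
    have e : G ^ i *ᵥ z = aeval G P *ᵥ z := by
      conv_lhs => rw [← aeval_X_pow (R := F) G, ← Polynomial.modByMonic_add_div (X ^ i) φ]
      rw [map_add, Matrix.add_mulVec, (h.ker _).2 (dvd_mul_right _ _), add_zero, hP]
    rw [e, aeval_eq_sum_range, Matrix.sum_mulVec]
    rw [← C.bar_form, C.form_sum_left, map_sum]
    refine Finset.sum_eq_zero fun l hl => ?_
    rw [Matrix.smul_mulVec, C.form_smul_left, map_mul, C.bar_form]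
    rcases eq_or_ne P 0 with hP0 | hP0
    · simp [hP0]
    have hl' : l < φ.natDegree := by
      have h1 : P.natDegree < φ.natDegree :=
        natDegree_lt_natDegree hP0 (hP ▸ degree_modByMonic_lt _ h.monic)
      have := Finset.mem_range.1 hl
      omega
    exact mul_eq_zero_of_right _ (congrFun ha ⟨l, hl'⟩)
  obtain ⟨a, ha⟩ := LinearMap.surjective_of_injective hinj t
  exact ⟨a, congrFun ha⟩

/-- the half frame of a cyclic space -/
theorem exists_half (h : Cyc C G z φ) {k : ℕ} (hk : φ.natDegree / 2 = k) (hk1 : 0 < k)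
    (hz : ∀ l, l < k → C.form (G ^ l *ᵥ z) z = 0) (hη : C.form (G ^ k *ᵥ z) z ≠ 0) :
    (∀ i j : Fin k, C.form (G ^ (i : ℕ) *ᵥ z) (G ^ (j : ℕ) *ᵥ z) = 0) ∧
    ∃ (f : Fin k → Fin n → F) (m : Fin n → F),
      (∀ i, ∃ p : F[X], f i = aeval G p *ᵥ z) ∧ (∃ p : F[X], m = aeval G p *ᵥ z) ∧
      (∀ a b, C.form (f a) (f b) = 0) ∧
      (∀ i a : Fin k, C.form (G ^ (i : ℕ) *ᵥ z) (f a) = if i = a then 1 else 0) ∧
      (Odd φ.natDegree → C.form m m = 1 ∧ (∀ i : Fin k, C.form (G ^ (i : ℕ) *ᵥ z) m = 0) ∧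
        (∀ i : Fin k, C.form (G ^ ((i : ℕ) + 1) *ᵥ z) m = 0) ∧ ∀ a, C.form (f a) m = 0) := by
  classical
  have hee : ∀ i j : Fin k, C.form (G ^ (i : ℕ) *ᵥ z) (G ^ (j : ℕ) *ᵥ z) = 0 := by
    intro i j
    have aux : ∀ a b : ℕ, b ≤ a → a < k → C.form (G ^ a *ᵥ z) (G ^ b *ᵥ z) = 0 := fun a b hab ha => by
      rw [show a = b + (a - b) by omega, pow_add, ← Matrix.mulVec_mulVec, h.iso_pow]
      exact hz _ (by omega)
    rcases le_total (j : ℕ) i with hij | hij
    · exact aux _ _ hij i.isLt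
    · exact C.form_swap_zero (aux _ _ hij j.isLt)
  refine ⟨hee, ?_⟩
  have hd : 2 * k ≤ φ.natDegree := by omega
  set e : Fin k → Fin n → F := fun i => G ^ (i : ℕ) *ᵥ z with he
  -- dual vectors
  choose a ha using fun l : Fin k => exists_pairing h fun i => if (i : ℕ) = l then 1 else 0
  set f0 : Fin k → Fin n → F := fun l => comb G z φ.natDegree (a l) with hf0
  have hfe : ∀ l i : Fin k, C.form (f0 l) (e i) = if i = l then 1 else 0 := by
    intro l i
    rw [hf0, he]
    dsimp only
    rw [ha l ⟨i, by omega⟩]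
    simp [Fin.ext_iff]
  have hef : ∀ i l : Fin k, C.form (e i) (f0 l) = if i = l then 1 else 0 := fun i l => by
    rw [← C.bar_form, hfe, apply_ite C.bar, map_one, map_zero]
  choose x hx using fun l : Fin k =>
    C.exists_trace (c := -C.form (f0 l) (f0 l)) (by rw [map_neg, C.form_self_fixed])
  let T : Fin k → Fin k → F := fun a b => if a < b then -C.form (f0 a) (f0 b) else if a = b then x a else 0
  set f1 : Fin k → Fin n → F := fun l => f0 l + ∑ i, T l i • e i with hf1
  have hef1 : ∀ i l : Fin k, C.form (e i) (f1 l) = if i = l then 1 else 0 := by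
    intro i l
    rw [hf1]
    dsimp only
    rw [C.form_add_right, hef, ← C.bar_form (∑ i, T l i • e i), C.form_sum_left]
    simp [C.form_smul_left, hee, he]
  have hff1 : ∀ a b, C.form (f1 a) (f1 b) = 0 := by
    intro a b
    rw [hf1]
    dsimp only
    rw [C.form_add_left, C.form_add_right, C.form_add_right, C.form_sum_left _ _ (f0 b),
      C.form_sum_left _ _ (∑ i, T b i • e i)]
    have e1 : C.form (f0 a) (∑ i, T b i • e i) = C.bar (T b a) := by
      rw [← C.bar_form, C.form_sum_left]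
      simp [C.form_smul_left, hef]
    have e2 : ∀ i, C.form (T a i • e i) (∑ j, T b j • e j) = 0 := fun i => by
      rw [← C.bar_form, C.form_sum_left]
      simp [C.form_smul_left, C.form_smul_right, hee, he]
    rw [e1, Finset.sum_eq_zero fun i _ => e2 i]
    simp only [C.form_smul_left, hef, mul_ite, mul_one, mul_zero, Finset.sum_ite_eq', Finset.mem_univ, if_true,
      add_zero]
    rcases lt_trichotomy a b with hab | rfl | hab
    · simp [T, hab, hab.ne', not_lt_of_gt hab]
    · simp only [T, lt_irrefl, if_false, if_true]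
      linear_combination hx a
    · simp only [T, hab, not_lt_of_gt hab, hab.ne', if_false, if_true, map_neg, C.bar_form, add_zero]
      ring
  have hfp : ∀ l, ∃ b, f1 l = comb G z φ.natDegree b := fun l => by
    refine ⟨a l + ∑ i, T l i • Pi.single (⟨i, by omega⟩ : Fin φ.natDegree) 1, ?_⟩
    rw [map_add, map_sum, hf1]
    dsimp only
    congr 1
    refine Finset.sum_congr rfl fun i _ => ?_
    rw [map_smul, comb, Fintype.linearCombination_apply_single, one_smul]
  by_cases hodd : Odd φ.natDegree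
  · have hd' : φ.natDegree = 2 * k + 1 := by
      have := Nat.odd_iff.1 hodd; omega
    -- a vector orthogonal to the pairs
    let L : (Fin φ.natDegree → F) →ₗ[F] (Fin k ⊕ Fin k → F) :=
      { toFun := fun b s => C.form (comb G z φ.natDegree b) (Sum.elim e f1 s)
        map_add' := fun b b' => by funext s; simp only [map_add, C.form_add_left]; rfl
        map_smul' := fun c b => by funext s; simp only [map_smul, C.form_smul_left]; rfl }
    have hlt : Module.finrank F (Fin k ⊕ Fin k → F) < Module.finrank F (Fin φ.natDegree → F) := by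
      rw [Module.finrank_pi, Module.finrank_pi, Fintype.card_sum, Fintype.card_fin, Fintype.card_fin]; omega
    obtain ⟨b, hb, hb0⟩ :=
      Submodule.exists_mem_ne_zero_of_ne_bot (LinearMap.ker_ne_bot_of_finrank_lt (f := L) hlt)
    set v := comb G z φ.natDegree b with hv
    have hve : ∀ i, C.form v (e i) = 0 := fun i => congrFun (LinearMap.mem_ker.1 hb) (Sum.inl i)
    have hvf : ∀ i, C.form v (f1 i) = 0 := fun i => congrFun (LinearMap.mem_ker.1 hb) (Sum.inr i)
    have hvv : C.form v v ≠ 0 := by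
      intro h0
      choose bf hbf using hfp
      let fam : Fin k ⊕ Fin k ⊕ Unit → (Fin φ.natDegree → F) :=
        Sum.elim (fun i => Pi.single (⟨i, by omega⟩ : Fin φ.natDegree) 1) (Sum.elim bf fun _ => b)
      have hfame : ∀ i, comb G z φ.natDegree (fam (Sum.inl i)) = e i := fun i => by
        show comb G z φ.natDegree (Pi.single _ 1) = _
        rw [comb, Fintype.linearCombination_apply_single, one_smul]
      have hfamf : ∀ i, comb G z φ.natDegree (fam (Sum.inr (Sum.inl i))) = f1 i := fun i => (hbf i).symm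
      have hfamv : comb G z φ.natDegree (fam (Sum.inr (Sum.inr ()))) = v := rfl
      have hli : LinearIndependent F fam := by
        rw [Fintype.linearIndependent_iff]
        intro c hc
        have h1 := congrArg (comb G z φ.natDegree) hc
        rw [map_sum, map_zero, Fintype.sum_sum_type, Fintype.sum_sum_type] at h1
        simp only [map_smul, hfame, hfamf, Finset.univ_unique, Finset.sum_singleton, PUnit.default_eq_unit,
          hfamv] at h1
        have hf : ∀ i, c (Sum.inr (Sum.inl i)) = 0 := fun i => by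
          have h2 := congrArg (fun w => C.form w (e i)) h1
          simp only [C.form_add_left, C.form_sum_left, C.form_smul_left, C.form_zero_left, hve,
            fun a => (by rw [← C.bar_form, hef1, apply_ite C.bar, map_one, map_zero] :
              C.form (f1 a) (e i) = if i = a then 1 else 0)] at h2
          simpa [hee, he] using h2
        have hein : ∀ i, c (Sum.inl i) = 0 := fun i => by
          have h2 := congrArg (fun w => C.form w (f1 i)) h1
          simp only [C.form_add_left, C.form_sum_left, C.form_smul_left, C.form_zero_left, hvf, hef1, hf] at h2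
          simpa using h2
        simp only [hf, hein, zero_smul, Finset.sum_const_zero, zero_add, smul_eq_zero] at h1
        rcases h1 with h1 | h1
        · rintro (i | i | ⟨⟩)
          exacts [hein i, hf i, h1]
        · exact absurd (comb_injective h (h1.trans (map_zero _).symm)) hb0
      have hspan := hli.span_eq_top_of_card_eq_finrank' (by
        rw [Module.finrank_pi, Fintype.card_sum, Fintype.card_sum, Fintype.card_fin, Fintype.card_fin,
          Fintype.card_unit]; omega)
      have hall : ∀ w : Fin φ.natDegree → F, C.form (comb G z φ.natDegree w) v = 0 := by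
        intro w
        have hw : w ∈ Submodule.span F (Set.range fam) := hspan ▸ Submodule.mem_top
        induction hw using Submodule.span_induction with
        | mem x hx =>
          obtain ⟨s, rfl⟩ := hx
          rcases s with i | i | ⟨⟩
          · rw [hfame]; exact C.form_swap_zero (hve i)
          · rw [hfamf]; exact C.form_swap_zero (hvf i)
          · exact h0
        | zero => rw [map_zero, C.form_zero_left]
        | add x y _ _ hx hy => rw [map_add, C.form_add_left, hx, hy, add_zero]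
        | smul c x _ hx => rw [map_smul, C.form_smul_left, hx, mul_zero]
      refine hb0 (comb_injective h ?_)
      rw [map_zero, comb_eq]
      refine (h.ker _).2 (h.nondeg _ fun i => ?_)
      rw [← comb_eq, ← hv]
      obtain ⟨w, hw⟩ : ∃ w, G ^ i *ᵥ z = comb G z φ.natDegree w := by
        refine ⟨fun l => (X ^ i %ₘ φ).coeff l, ?_⟩
        rw [comb_eq]
        conv_lhs => rw [← aeval_X_pow (R := F) G, ← Polynomial.modByMonic_add_div (X ^ i) φ]
        rw [map_add, Matrix.add_mulVec, (h.ker _).2 (dvd_mul_right _ _), add_zero]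
        congr 2
        rcases eq_or_ne (X ^ i %ₘ φ) 0 with h0' | h0'
        · simp [h0']
        rw [Fin.sum_univ_eq_sum_range (fun l => Polynomial.C ((X ^ i %ₘ φ).coeff l) * X ^ l)]
        exact as_sum_range_C_mul_X_pow' _ (natDegree_lt_natDegree h0' (degree_modByMonic_lt _ h.monic))
      rw [hw]
      exact C.form_swap_zero (hall w)
    obtain ⟨s, hs⟩ := C.exists_norm (c := (C.form v v)⁻¹) (by rw [map_inv₀, C.form_self_fixed])
    obtain ⟨m, hm⟩ : ∃ m, m = s • v := ⟨_, rfl⟩
    have hmm : C.form m m = 1 := by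
      rw [hm, C.form_smul_left, C.form_smul_right, ← mul_assoc, hs, inv_mul_cancel₀ hvv]
    have hme : ∀ i, C.form m (e i) = 0 := fun i => by rw [hm, C.form_smul_left, hve, mul_zero]
    have hmf : ∀ i, C.form m (f1 i) = 0 := fun i => by rw [hm, C.form_smul_left, hvf, mul_zero]
    set i0 : Fin k := ⟨0, hk1⟩
    set μ := C.form (G ^ k *ᵥ z) m with hμ
    set η := C.form (G ^ k *ᵥ z) z with hη'
    set γ := -C.bar (μ / η) with hγ
    obtain ⟨b', hb'⟩ := C.exists_trace (c := -(γ * C.bar γ)) (by rw [map_neg, C.norm_fixed])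
    set f : Fin k → Fin n → F := fun l => if l = i0 then f1 l + (-C.bar γ) • m + b' • e i0 else f1 l with hf
    have hee' : ∀ i j, C.form (e i) (e j) = 0 := hee
    refine ⟨f, m + γ • e i0, ?_, ?_, ?_, ?_, fun _ => ⟨?_, ?_, ?_, ?_⟩⟩
    · intro l
      have hm' : ∃ p : F[X], m = aeval G p *ᵥ z :=
        ⟨Polynomial.C s * ∑ i, Polynomial.C (b i) * X ^ (i : ℕ), by
          rw [hm, hv, comb_eq, map_mul, aeval_C, ← Algebra.smul_def, Matrix.smul_mulVec]⟩
      obtain ⟨bl, hbl⟩ := hfp l
      rw [comb_eq] at hbl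
      obtain ⟨pm, hpm⟩ := hm'
      rw [hf]
      dsimp only
      split_ifs
      · exact ⟨(∑ i : Fin φ.natDegree, Polynomial.C (bl i) * X ^ (i : ℕ)) + Polynomial.C (-C.bar γ) * pm + Polynomial.C b' * X ^ (i0 : ℕ), by
          rw [map_add, map_add, map_mul, map_mul, aeval_C, aeval_C, ← Algebra.smul_def, ← Algebra.smul_def,
            Matrix.add_mulVec, Matrix.add_mulVec, Matrix.smul_mulVec, Matrix.smul_mulVec, ← hbl, ← hpm,
            aeval_X_pow]⟩
      · exact ⟨_, hbl⟩
    · refine ⟨Polynomial.C s * (∑ i, Polynomial.C (b i) * X ^ (i : ℕ)) + Polynomial.C γ * X ^ (i0 : ℕ), ?_⟩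
      rw [map_add, map_mul, map_mul, aeval_C, aeval_C, ← Algebra.smul_def, ← Algebra.smul_def, aeval_X_pow,
        Matrix.add_mulVec, Matrix.smul_mulVec, Matrix.smul_mulVec, hm, hv, comb_eq]
    · intro p p'
      rw [hf]
      dsimp only
      have e1 := C.form_swap_zero (hmf p)
      have e2 := hef1 i0 p
      have e3 := hef1 i0 p'
      have e4 : C.form (f1 p) (e i0) = if i0 = p then 1 else 0 := by
        rw [← C.bar_form, e2, apply_ite C.bar, map_one, map_zero]
      split_ifs with h1 h2 h2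
      · subst h1 h2
        rw [if_pos rfl] at e2 e4
        simp only [C.form_add_left, C.form_add_right, C.form_smul_left, C.form_smul_right, hff1, hmm, hme,
          C.form_swap_zero (hme i0), hmf, C.form_swap_zero (hmf i0), e2, e4, hee' i0 i0]
        simp only [map_neg, C.bar_bar]
        linear_combination hb'
      · subst h1
        simp only [C.form_add_left, C.form_smul_left, hff1, hmf, e3, if_neg (Ne.symm h2)]
        ring
      · subst h2
        simp only [C.form_add_right, C.form_smul_right, hff1, e1, e4, if_neg (Ne.symm h1)]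
        ring
      · exact hff1 p p'
    · intro i l
      show C.form (e i) (f l) = _
      rw [hf]
      dsimp only
      by_cases h1 : l = i0
      · rw [if_pos h1]
        simp only [C.form_add_right, C.form_smul_right, hef1, C.form_swap_zero (hme i), hee' i i0]
        ring
      · rw [if_neg h1]; exact hef1 i l
    · simp only [C.form_add_left, C.form_add_right, C.form_smul_left, C.form_smul_right, hmm, hme,
        C.form_swap_zero (hme i0), hee' i0 i0]
      ring
    · intro i
      show C.form (e i) _ = 0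
      simp only [C.form_add_right, C.form_smul_right, C.form_swap_zero (hme i), hee' i i0]
      ring
    · intro i
      by_cases hi : (i : ℕ) + 1 < k
      · have e1 := C.form_swap_zero (hme ⟨(i : ℕ) + 1, hi⟩)
        have e2 := hee ⟨(i : ℕ) + 1, hi⟩ i0
        simp only [he] at e1 e2 ⊢
        rw [C.form_add_right, C.form_smul_right, e1, e2, mul_zero, add_zero]
      · have hik : (i : ℕ) + 1 = k := by omega
        have e0 : e i0 = z := by simp [he, i0]
        rw [hik, C.form_add_right, C.form_smul_right, e0, ← hμ, ← hη', hγ, map_neg, C.bar_bar, neg_mul,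
          div_mul_cancel₀ _ hη, add_neg_cancel]
    · intro l
      rw [hf]
      dsimp only
      have e2 : C.form (f1 l) (e i0) = if i0 = l then 1 else 0 := by
        rw [← C.bar_form, hef1, apply_ite C.bar, map_one, map_zero]
      split_ifs with h1
      · subst h1
        rw [if_pos rfl] at e2
        simp only [C.form_add_left, C.form_add_right, C.form_smul_left, C.form_smul_right, hmm, hme,
          C.form_swap_zero (hmf i0), C.form_swap_zero (hme i0), e2, hee' i0 i0]
        ring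
      · simp only [C.form_add_right, C.form_smul_right, C.form_swap_zero (hmf l), e2, if_neg (Ne.symm h1)]
        ring
  · refine ⟨f1, 0, fun l => ?_, ⟨0, by rw [map_zero, Matrix.zero_mulVec]⟩, hff1, hef1,
      fun h' => absurd h' hodd⟩
    obtain ⟨b, hb⟩ := hfp l
    exact ⟨_, hb.trans (comb_eq _ _)⟩

end Half

section Global

variable {C} [Finite F] {G : Matrix (Fin n) (Fin n) F}

/-- a generator with isotropic first powers is again cyclic -/
theorem exists_gen_cyc {z : Fin n → F} {φ : F[X]} (hc : Cyc C G z φ) (hd : 2 ≤ φ.natDegree)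
    (hodd : Odd φ.natDegree → ∃ ω, ω * C.bar ω = 1 ∧ φ.eval ω ≠ 0) :
    ∃ (z' : Fin n → F) (p : F[X]), z' = aeval G p *ᵥ z ∧ Cyc C G z' φ ∧
      (∀ l, l < φ.natDegree / 2 → C.form (G ^ l *ᵥ z') z' = 0) ∧
      C.form (G ^ (φ.natDegree / 2) *ᵥ z') z' ≠ 0 := by
  obtain ⟨z', p, p', hz', hz0, hker, h0, hne⟩ := Piece.exists_gen hc hd hodd
  refine ⟨z', p, hz', ⟨hc.iso, hc.monic, hker, fun P hP => ?_⟩, h0, hne⟩
  -- a vector orthogonal to the new space is orthogonal to the old one
  refine (hker P).1 ?_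
  have hall : ∀ R : F[X], C.form (aeval G P *ᵥ z') (aeval G R *ᵥ z') = 0 := by
    intro R
    induction R using Polynomial.induction_on' with
    | add a b ha hb => rw [map_add, Matrix.add_mulVec, C.form_add_right, ha, hb, add_zero]
    | monomial i c =>
      rw [aeval_monomial, ← Algebra.smul_def, Matrix.smul_mulVec, C.form_smul_right, hP i, mul_zero]
  have h2 : φ ∣ P * p := hc.nondeg _ fun i => by
    rw [map_mul, ← Matrix.mulVec_mulVec, ← hz', hz0, Matrix.mulVec_mulVec, ← aeval_X_pow (R := F) G, ← map_mul]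
    exact hall _
  obtain ⟨w, hw⟩ := h2
  rw [hz', Matrix.mulVec_mulVec, ← map_mul, hw]
  exact (hc.ker _).2 (dvd_mul_right _ _)

/-- the standard frame of an orthogonal family of cyclic spaces and lines -/
theorem exists_std (hG : ∀ u v, C.form (G *ᵥ u) (G *ᵥ v) = C.form u v) {r l : ℕ} (z : Fin r → Fin n → F)
    (φ : Fin r → F[X]) (u : Fin l → Fin n → F) (c : Fin l → F)
    (hz : ∀ j, Cyc C G (z j) (φ j) ∧ 2 ≤ (φ j).natDegree ∧
      (Odd (φ j).natDegree → ∃ ω, ω * C.bar ω = 1 ∧ (φ j).eval ω ≠ 0))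
    (hzz : ∀ i j, i ≠ j → ∀ p p' : F[X], C.form (aeval G p *ᵥ z i) (aeval G p' *ᵥ z j) = 0)
    (hu : ∀ s, G *ᵥ u s = c s • u s)
    (huu : ∀ s t, C.form (u s) (u t) = if s = t then 1 else 0)
    (hzu : ∀ j s (p : F[X]), C.form (aeval G p *ᵥ z j) (u s) = 0)
    (hn : ∑ j, (φ j).natDegree + l = n) :
    ∃ (g : Matrix ((Σ j, Fin ((φ j).natDegree / 2)) ⊕ (({j : Fin r // (φ j).natDegree % 2 = 1} ⊕ Fin l) ⊕
        Σ j, Fin ((φ j).natDegree / 2))) _ F)
      (η : Fin r → F) (δ : {j : Fin r // (φ j).natDegree % 2 = 1} ⊕ Fin l → F),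
      Rep C G g ∧ (∀ j, η j ≠ 0) ∧ (∀ s, δ (Sum.inr s) = c s) ∧
      g.submatrix (Sum.inr ∘ Sum.inl) Sum.inl = 0 ∧
      g.submatrix (Sum.inr ∘ Sum.inr) Sum.inl = xmat (fun j => (φ j).natDegree / 2) η ∧
      g.submatrix (Sum.inr ∘ Sum.inl) (Sum.inr ∘ Sum.inl) = diagonal δ ∧
      Shift (fun j => (φ j).natDegree / 2) (g.submatrix Sum.inl Sum.inl) ∧
      ∀ a b, a.1 ≠ b.1 → g (Sum.inl a) (Sum.inl b) = 0 := by
  classical
  -- good generators
  have hgen := fun j => exists_gen_cyc (hz j).1 (hz j).2.1 (hz j).2.2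
  choose z' pz hz' hcyc hz0 hzne using hgen
  have hk : ∀ j, 0 < (φ j).natDegree / 2 := fun j => by have := (hz j).2.1; omega
  choose hee f m hfP hmP hff hef hmO using fun j => exists_half (hcyc j) rfl (hk j) (hz0 j) (hzne j)
  choose pf hpf using hfP
  choose pm hpm using hmP
  -- the columns
  let e : (Σ j, Fin ((φ j).natDegree / 2)) → Fin n → F := fun a => G ^ (a.2 : ℕ) *ᵥ z' a.1
  let mm : {j : Fin r // (φ j).natDegree % 2 = 1} ⊕ Fin l → Fin n → F :=
    Sum.elim (fun j => m j.1) u
  let ff : (Σ j, Fin ((φ j).natDegree / 2)) → Fin n → F := fun a => f a.1 a.2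
  let col := Sum.elim e (Sum.elim mm ff)
  -- every column is a polynomial image of a generator or a line
  have hcross : ∀ i j, i ≠ j → ∀ p p' : F[X], C.form (aeval G p *ᵥ z' i) (aeval G p' *ᵥ z' j) = 0 := by
    intro i j hij p p'
    rw [hz' i, hz' j, Matrix.mulVec_mulVec, Matrix.mulVec_mulVec, ← map_mul, ← map_mul]
    exact hzz i j hij _ _
  have hline : ∀ j s (p : F[X]), C.form (aeval G p *ᵥ z' j) (u s) = 0 := by
    intro j s p
    rw [hz' j, Matrix.mulVec_mulVec, ← map_mul]
    exact hzu j s _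
  have heP : ∀ (j : Fin r) (i : ℕ), G ^ i *ᵥ z' j = aeval G ((X : F[X]) ^ i) *ᵥ z' j := fun j i => by
    rw [aeval_X_pow]
  have hGP : ∀ (p : F[X]) (v : Fin n → F), G *ᵥ (aeval G p *ᵥ v) = aeval G (X * p) *ᵥ v := fun p v => by
    rw [Matrix.mulVec_mulVec, map_mul, aeval_X]
  have hodd' : ∀ j : {j : Fin r // (φ j).natDegree % 2 = 1}, Odd (φ j.1).natDegree := fun j => Nat.odd_iff.2 j.2
  have hgram : ∀ x y, C.form (col x) (col y) = (JJ : Matrix _ _ F) x y := by
    have e_e : ∀ a b, C.form (e a) (e b) = 0 := by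
      rintro ⟨i, x⟩ ⟨j, y⟩
      by_cases h : i = j
      · subst h; exact hee i x y
      · show C.form (G ^ (x : ℕ) *ᵥ z' i) (G ^ (y : ℕ) *ᵥ z' j) = 0
        rw [heP, heP]; exact hcross i j h _ _
    have f_f : ∀ a b, C.form (ff a) (ff b) = 0 := by
      rintro ⟨i, x⟩ ⟨j, y⟩
      by_cases h : i = j
      · subst h; exact hff i x y
      · show C.form (f i x) (f j y) = 0
        rw [hpf, hpf]; exact hcross i j h _ _
    have e_f : ∀ a b, C.form (e a) (ff b) = if a = b then 1 else 0 := by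
      rintro ⟨i, x⟩ ⟨j, y⟩
      by_cases h : i = j
      · subst h
        refine (hef i x y).trans ?_
        simp
      · rw [if_neg fun e => h (congrArg Sigma.fst e)]
        show C.form (G ^ (x : ℕ) *ᵥ z' i) (f j y) = 0
        rw [hpf, heP]; exact hcross i j h _ _
    have e_m : ∀ a t, C.form (e a) (mm t) = 0 := by
      rintro ⟨i, x⟩ (j | s)
      · by_cases h : i = j.1
        · subst h; exact (hmO j.1 (hodd' j)).2.1 x
        · show C.form (G ^ (x : ℕ) *ᵥ z' i) (m j.1) = 0
          rw [hpm, heP]; exact hcross i j.1 h _ _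
      · show C.form (G ^ (x : ℕ) *ᵥ z' i) (u s) = 0
        rw [heP]; exact hline i s _
    have f_m : ∀ a t, C.form (ff a) (mm t) = 0 := by
      rintro ⟨i, x⟩ (j | s)
      · by_cases h : i = j.1
        · subst h; exact (hmO j.1 (hodd' j)).2.2.2 x
        · show C.form (f i x) (m j.1) = 0
          rw [hpm, hpf]; exact hcross i j.1 h _ _
      · show C.form (f i x) (u s) = 0
        rw [hpf]; exact hline i s _
    have m_m : ∀ t t', C.form (mm t) (mm t') = if t = t' then 1 else 0 := by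
      rintro (i | s) (j | t)
      · by_cases h : i = j
        · subst h; rw [if_pos rfl]; exact (hmO i.1 (hodd' i)).1
        · rw [if_neg fun e => h (Sum.inl_injective e)]
          show C.form (m i.1) (m j.1) = 0
          rw [hpm, hpm]; exact hcross _ _ (fun e => h (Subtype.ext e)) _ _
      · rw [if_neg (by simp)]
        show C.form (m i.1) (u t) = 0
        rw [hpm]; exact hline _ _ _
      · rw [if_neg (by simp)]
        show C.form (u s) (m j.1) = 0
        rw [hpm]; exact C.form_swap_zero (hline _ _ _)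
      · refine (huu s t).trans ?_
        simp
    intro x y
    rcases x with a | a | a <;> rcases y with b | b | b <;>
      simp only [col, Sum.elim_inl, Sum.elim_inr, JJ, b3, fromBlocks_apply₁₁, fromBlocks_apply₁₂,
        fromBlocks_apply₂₁, fromBlocks_apply₂₂, fromCols_apply_inl, fromCols_apply_inr, fromRows_apply_inl,
        fromRows_apply_inr, Matrix.zero_apply, Matrix.one_apply]
    · exact e_e a b
    · exact e_m a b
    · exact e_f a b
    · exact C.form_swap_zero (e_m b a)
    · exact m_m a b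
    · exact C.form_swap_zero (f_m b a)
    · rw [← C.bar_form, e_f, apply_ite C.bar, map_one, map_zero]
      simp [eq_comm]
    · exact f_m a b
    · exact f_f a b
  obtain ⟨B, hB⟩ : ∃ B : Matrix (Fin n) _ F, B = Matrix.of fun i x => col x i := ⟨_, rfl⟩
  have hBB : ad C B * B = JJ := by
    ext x y
    rw [Matrix.mul_apply, hB]
    show ∑ i, C.bar (col x i) * col y i = _
    have e : ∑ i, C.bar (col x i) * col y i = C.form (col y) (col x) :=
      Finset.sum_congr rfl fun i _ => mul_comm _ _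
    rw [e, ← C.bar_form, hgram]
    rcases x with a | a | a <;> rcases y with b | b | b <;>
      simp [JJ, b3, Matrix.one_apply, apply_ite C.bar]
  have hcard : Fintype.card ((Σ j, Fin ((φ j).natDegree / 2)) ⊕ (({j : Fin r // (φ j).natDegree % 2 = 1} ⊕ Fin l) ⊕
      Σ j, Fin ((φ j).natDegree / 2))) = n := by
    rw [Fintype.card_sum, Fintype.card_sum, Fintype.card_sum, Fintype.card_sigma, Fintype.card_fin,
      Fintype.card_subtype, Finset.card_filter]
    simp only [Fintype.card_fin]
    conv_rhs => rw [← hn]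
    have e : ∑ j, (φ j).natDegree = ∑ j, ((φ j).natDegree / 2 + (if (φ j).natDegree % 2 = 1 then 1 else 0) +
        (φ j).natDegree / 2) := Finset.sum_congr rfl fun j _ => by split_ifs <;> omega
    rw [e, Finset.sum_add_distrib, Finset.sum_add_distrib]
    omega
  have hB1 : ((JJ : Matrix ((Σ j, Fin ((φ j).natDegree / 2)) ⊕ (({j : Fin r // (φ j).natDegree % 2 = 1} ⊕ Fin l) ⊕ Σ j, Fin ((φ j).natDegree / 2))) _ F) * ad C B) * B = 1 := by rw [Matrix.mul_assoc, hBB, JJ_sq]
  have hB2 : B * ((JJ : Matrix ((Σ j, Fin ((φ j).natDegree / 2)) ⊕ (({j : Fin r // (φ j).natDegree % 2 = 1} ⊕ Fin l) ⊕ Σ j, Fin ((φ j).natDegree / 2))) _ F) * ad C B) = 1 :=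
    (Matrix.mul_eq_one_comm_of_card_eq _ _ _ (by rw [hcard, Fintype.card_fin])).1 hB1
  -- the entries
  have hK : ∀ x y, (ad C B * G * B) x y = C.form (G *ᵥ col y) (col x) := by
    intro x y
    rw [Matrix.mul_assoc, Matrix.mul_apply, hB]
    exact Finset.sum_congr rfl fun i _ => mul_comm _ _
  obtain ⟨a11, a12, a13, a21, a22, a23, a31, a32, a33, hab⟩ := exists_b3 (ad C B * G * B)
  have hg : ((JJ : Matrix ((Σ j, Fin ((φ j).natDegree / 2)) ⊕ (({j : Fin r // (φ j).natDegree % 2 = 1} ⊕ Fin l) ⊕ Σ j, Fin ((φ j).natDegree / 2))) _ F) * ad C B) * G * B = b3 a31 a32 a33 a21 a22 a23 a11 a12 a13 := by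
    rw [show ((JJ : Matrix ((Σ j, Fin ((φ j).natDegree / 2)) ⊕ (({j : Fin r // (φ j).natDegree % 2 = 1} ⊕ Fin l) ⊕ Σ j, Fin ((φ j).natDegree / 2))) _ F) * ad C B) * G * B = JJ * (ad C B * G * B) by simp only [Matrix.mul_assoc], hab]
    simp [JJ, b3_mul]
  have hentry : ∀ x y, b3 a11 a12 a13 a21 a22 a23 a31 a32 a33 x y = C.form (G *ᵥ col y) (col x) := fun x y => by
    rw [← hab, hK]
  have hGe : ∀ j (i : ℕ), G *ᵥ (G ^ i *ᵥ z' j) = G ^ (i + 1) *ᵥ z' j := fun j i => by
    rw [pow_succ', ← Matrix.mulVec_mulVec]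
  refine ⟨((JJ : Matrix ((Σ j, Fin ((φ j).natDegree / 2)) ⊕ (({j : Fin r // (φ j).natDegree % 2 = 1} ⊕ Fin l) ⊕ Σ j, Fin ((φ j).natDegree / 2))) _ F) * ad C B) * G * B, fun j => C.form (G ^ ((φ j).natDegree / 2) *ᵥ z' j) (z' j),
    fun t => C.form (G *ᵥ mm t) (mm t), ⟨B, JJ * ad C B, hB2, hB1, hBB, rfl⟩, hzne, fun s => ?_, ?_, ?_, ?_, ?_, ?_⟩
  · show C.form (G *ᵥ u s) (u s) = c s
    rw [hu, C.form_smul_left, huu, if_pos rfl, mul_one]
  all_goals rw [hg]
  · ext t ⟨j, y⟩
    have h := hentry (Sum.inr (Sum.inl t)) (Sum.inl ⟨j, y⟩)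
    simp only [b3, Matrix.submatrix_apply, Function.comp_apply, fromBlocks_apply₂₁, fromRows_apply_inl,
      Matrix.zero_apply, col, Sum.elim_inl, Sum.elim_inr, e] at h ⊢
    rw [h, hGe]
    rcases t with i | s
    · by_cases hij : j = i.1
      · subst hij; exact (hmO i.1 (hodd' i)).2.2.1 y
      · show C.form _ (m i.1) = 0
        rw [hpm, heP]; exact hcross _ _ hij _ _
    · show C.form _ (u s) = 0
      rw [heP]; exact hline _ _ _
  · ext ⟨i, x⟩ ⟨j, y⟩
    have h := hentry (Sum.inl ⟨i, x⟩) (Sum.inl ⟨j, y⟩)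
    simp only [b3, Matrix.submatrix_apply, Function.comp_apply, fromBlocks_apply₂₁, fromBlocks_apply₁₁,
      fromRows_apply_inr, col, Sum.elim_inl, e] at h ⊢
    rw [h, hGe]
    by_cases hij : i = j
    · subst hij
      rw [xmat, blockDiagonal'_apply_eq, Matrix.of_apply]
      by_cases hy : (y : ℕ) + 1 = (φ i).natDegree / 2
      · by_cases hx : (x : ℕ) = 0
        · rw [if_pos ⟨hx, hy⟩, hy, hx, pow_zero, Matrix.one_mulVec]
        · have e : G ^ ((φ i).natDegree / 2) = G ^ (x : ℕ) * G ^ ((φ i).natDegree / 2 - x) := by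
            rw [← pow_add, Nat.add_sub_cancel' x.isLt.le]
          rw [if_neg fun e => hx e.1, hy, e, ← Matrix.mulVec_mulVec, (hcyc i).iso_pow]
          exact hz0 i _ (by omega)
      · rw [if_neg fun e => hy e.2]
        exact hee i ⟨(y : ℕ) + 1, by omega⟩ x
    · rw [xmat, blockDiagonal'_apply_ne _ _ _ hij, heP j, heP i]
      exact hcross _ _ (Ne.symm hij) _ _
  · ext t t'
    have h := hentry (Sum.inr (Sum.inl t)) (Sum.inr (Sum.inl t'))
    simp only [b3, Matrix.submatrix_apply, Function.comp_apply, fromBlocks_apply₂₂, fromBlocks_apply₁₁,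
      col, Sum.elim_inl, Sum.elim_inr] at h ⊢
    rw [h, Matrix.diagonal_apply]
    split_ifs with htt
    · rw [htt]
    · rcases t' with j | s
      · rcases t with i | s
        · show C.form (G *ᵥ m j.1) (m i.1) = 0
          rw [hpm, hpm, hGP]; exact hcross _ _ (fun e => htt (congrArg Sum.inl (Subtype.ext e.symm))) _ _
        · show C.form (G *ᵥ m j.1) (u s) = 0
          rw [hpm, hGP]; exact hline _ _ _
      · show C.form (G *ᵥ u s) _ = 0
        rw [hu, C.form_smul_left]
        rcases t with i | t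
        · show c s * C.form (u s) (m i.1) = 0
          rw [hpm, C.form_swap_zero (hline _ _ _), mul_zero]
        · show c s * C.form (u s) (u t) = 0
          rw [huu, if_neg fun e => htt (congrArg Sum.inr e.symm), mul_zero]
  · rintro ⟨i, x⟩ ⟨j, y⟩ hy
    have h := hentry (Sum.inr (Sum.inr ⟨i, x⟩)) (Sum.inl ⟨j, y⟩)
    simp only [b3, Matrix.submatrix_apply, fromBlocks_apply₂₁, fromBlocks_apply₁₁,
      fromRows_apply_inr, col, Sum.elim_inl, Sum.elim_inr, e] at h ⊢
    rw [h, hGe]
    show C.form (G ^ ((y : ℕ) + 1) *ᵥ z' j) (f i x) = _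
    by_cases hij : i = j
    · subst hij
      refine (hef i ⟨(y : ℕ) + 1, by have := y.isLt; dsimp only at hy this; omega⟩ x).trans ?_
      simp [Fin.ext_iff, eq_comm]
    · rw [if_neg fun e => hij e.1, hpf, heP]
      exact hcross _ _ (Ne.symm hij) _ _
  · rintro ⟨i, x⟩ ⟨j, y⟩ hij
    have h := hentry (Sum.inr (Sum.inr ⟨i, x⟩)) (Sum.inl ⟨j, y⟩)
    simp only [b3, fromBlocks_apply₂₁, fromBlocks_apply₁₁,
      fromRows_apply_inr, col, Sum.elim_inl, Sum.elim_inr, e] at h ⊢
    rw [h, hGe]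
    show C.form _ (f i x) = 0
    rw [hpf, heP]
    exact hcross _ _ (Ne.symm hij) _ _

end Global

end CfsgLib.OreSu
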