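import Cfsg.Agent.Lib.Lie.OreSu.Block
import Cfsg.Agent.Lib.Lie.OreSu.Frame

/-!
Diagonal and monomial elements for the middle part, and the final criterion.
-/

set_option autoImplicit false
set_option linter.unusedSectionVars false

namespace CfsgLib.OreSu

open CfsgLib.SU Polynomial Matrix

variable {F : Type*} [Field F] {q n : ℕ} (C : UCtx F q)
variable {κ : Type*} [Fintype κ] [DecidableEq κ]

theorem ad_diag (a : κ → F) : ad C (diagonal a) = diagonal fun t => C.bar (a t) := by
  rw [ad, diagonal_map (map_zero C.bar), diagonal_transpose]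

theorem unitary_diag {a : κ → F} (ha : ∀ t, a t * C.bar (a t) = 1) : ad C (diagonal a) * diagonal a = 1 := by
  rw [ad_diag, diagonal_mul_diagonal, ← diagonal_one]
  exact congrArg diagonal (funext fun t => (mul_comm _ _).trans (ha t))

theorem det_unitary {b : Matrix κ κ F} (hb : ad C b * b = 1) : b.det * C.bar b.det = 1 := by
  have h := congrArg Matrix.det hb
  rwa [det_mul, det_ad, det_one, mul_comm] at h

theorem aeval_diag (a : κ → F) (p : F[X]) : aeval (diagonal a) p = diagonal fun t => p.eval (a t) := by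
  induction p using Polynomial.induction_on' with
  | add p p' hp hp' => rw [map_add, hp, hp', diagonal_add]; simp
  | monomial i c =>
    rw [aeval_monomial, diagonal_pow, Matrix.algebraMap_eq_diagonal, diagonal_mul_diagonal]
    simp [eval_monomial]

theorem isUnit_aeval_diag {a : κ → F} {p : F[X]} (h : ∀ t, p.eval (a t) ≠ 0) :
    IsUnit (aeval (diagonal a) p) := by
  rw [aeval_diag, Matrix.isUnit_iff_isUnit_det, det_diagonal, isUnit_iff_ne_zero]
  exact Finset.prod_ne_zero_iff.2 fun t _ => h t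

theorem permMatrix_ad (π : Equiv.Perm κ) : ad C (π.permMatrix F) * π.permMatrix F = 1 := by
  ext x y
  rw [Matrix.mul_apply, Finset.sum_eq_single (π.symm x)]
  · simp [ad, PEquiv.toMatrix_apply, Equiv.toPEquiv_apply, Matrix.one_apply]
  · intro z _ hz
    simp only [ad, Matrix.transpose_apply, Matrix.map_apply, PEquiv.toMatrix_apply, Equiv.toPEquiv_apply,
      Option.mem_def, Option.some.injEq]
    rw [if_neg fun e : π z = x => hz (by rw [← e, Equiv.symm_apply_apply]), map_zero, zero_mul]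
  · simp

/-- a cyclic order turns a diagonal matrix of trivial determinant into a commutator -/
theorem exists_cycle (δ : κ → F) (hδ : ∀ t, δ t * C.bar (δ t) = 1) (hprod : ∏ t, δ t = 1) {m : ℕ}
    (e : κ ≃ Fin m) :
    ∃ (a : κ → F) (b : Matrix κ κ F), (∀ t, a t * C.bar (a t) = 1) ∧ ad C b * b = 1 ∧
      b.det = (-1) ^ (m - 1) ∧ diagonal a * diagonal δ * b = b * diagonal a ∧
      (∀ t, a t = ∏ i ∈ Finset.univ.filter (fun i : Fin m => (i : ℕ) < e t), δ (e.symm i)) := by
  classical
  set a : κ → F := fun t => ∏ i ∈ Finset.univ.filter (fun i : Fin m => (i : ℕ) < e t), δ (e.symm i) with ha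
  set π : Equiv.Perm κ := e.symm.permCongr (finRotate m) with hπ
  have hπa : ∀ t, e (π t) = finRotate m (e t) := fun t => by simp [hπ, Equiv.permCongr_apply]
  have hstep : ∀ t, a (π t) = a t * δ t := by
    intro t
    obtain ⟨l, hl⟩ : ∃ l, m = l + 1 := ⟨m - 1, by have := (e t).isLt; omega⟩
    subst hl
    simp only [ha, hπa]
    rw [show δ t = δ (e.symm (e t)) by rw [Equiv.symm_apply_apply]]
    by_cases hlast : e t = Fin.last l
    · rw [hlast, finRotate_last]
      rw [Finset.prod_eq_one (s := Finset.univ.filter fun i : Fin (l + 1) => (i : ℕ) < ((0 : Fin (l + 1)) : ℕ))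
        (fun i hi => by simp at hi)]
      rw [mul_comm, ← Finset.prod_insert (a := Fin.last l) (f := fun i => δ (e.symm i))
        (by simp : Fin.last l ∉ Finset.univ.filter fun i : Fin (l + 1) => (i : ℕ) < (Fin.last l : ℕ))]
      rw [← hprod, ← e.symm.prod_comp]
      refine Finset.prod_congr (Finset.ext fun i => ?_) fun _ _ => rfl
      simp only [Finset.mem_univ, Finset.mem_insert, Finset.mem_filter, true_and, Fin.ext_iff, Fin.val_last, true_iff]
      have := i.isLt; omega
    · have hlt : (e t : ℕ) < l := Fin.val_lt_last hlast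
      have hv : ((finRotate (l + 1) (e t) : Fin (l + 1)) : ℕ) = (e t : ℕ) + 1 := by
        rw [coe_finRotate, if_neg hlast]
      rw [hv, mul_comm, ← Finset.prod_insert (a := e t) (f := fun i => δ (e.symm i))
        (by simp : e t ∉ Finset.univ.filter fun i : Fin (l + 1) => (i : ℕ) < (e t : ℕ))]
      refine Finset.prod_congr (Finset.ext fun i => ?_) fun _ _ => rfl
      simp only [Finset.mem_univ, Finset.mem_insert, Finset.mem_filter, true_and, Fin.ext_iff]
      omega
  refine ⟨a, π.permMatrix F, fun t => norm_prod C _ _ fun i _ => hδ _, permMatrix_ad C π, ?_, ?_, fun t => rfl⟩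
  · rw [Matrix.det_permutation, hπ, Equiv.Perm.sign_permCongr, sign_finRotate]
    simp
  · rw [diagonal_mul_diagonal]
    ext x y
    rw [Matrix.diagonal_mul, Matrix.mul_diagonal]
    simp only [Equiv.Perm.permMatrix, PEquiv.toMatrix_apply, Equiv.toPEquiv_apply, Option.mem_def, Option.some.injEq]
    split_ifs with h
    · rw [← h, hstep]; ring
    · ring

/-- the shift with a twist -/
def shiftMat (L : ℕ) (y : F) : Matrix (Fin L) (Fin L) F :=
  Matrix.of fun i j => if (j : ℕ) + 1 = L then (if (i : ℕ) = 0 then y else 0) else if (i : ℕ) = j + 1 then 1 else 0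

theorem shift_comp {L : ℕ} (hL : 0 < L) (y : F) (h : (X ^ L - Polynomial.C y : F[X]).natDegree = L) :
    shiftMat L y = Matrix.reindex (finCongr h) (finCongr h) (CfsgLib.GLClass.CommSL.comp (X ^ L - Polynomial.C y)) := by
  ext i j
  simp only [shiftMat, Matrix.of_apply, Matrix.reindex_apply, Matrix.submatrix_apply, CfsgLib.GLClass.CommSL.comp,
    h, finCongr_symm, finCongr_apply, Fin.val_cast]
  have := i.isLt
  have hne : (i : ℕ) ≠ L := by omega
  split_ifs with h1 h2 <;> first | rfl | simp [coeff_X_pow, coeff_C, hne, h2, hL.ne]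

/-- monomial solution for a scalar -/
theorem exists_mono {L l : ℕ} (hL : 0 < L) (c : F) (hc : c ^ L = 1) (hcn : c * C.bar c = 1)
    (y : Fin l → F) (hy : ∀ j, y j * C.bar (y j) = 1) (e : κ ≃ Fin L × Fin l) :
    ∃ a b : Matrix κ κ F, ad C a * a = 1 ∧ ad C b * b = 1 ∧
      a * (c • (1 : Matrix κ κ F)) * b = b * a ∧ a.det = ∏ j, (-1) ^ (L + 1) * y j ∧
      ∀ x : F, (∀ j, x ^ L ≠ y j) → IsUnit (aeval a (X - Polynomial.C x)) := by
  classical
  have hd : ∀ z : F, (X ^ L - Polynomial.C z : F[X]).natDegree = L := fun z => natDegree_X_pow_sub_C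
  set a0 : Matrix (Fin L × Fin l) (Fin L × Fin l) F := blockDiagonal fun j => shiftMat L (y j) with ha0
  set b0 : Matrix (Fin L × Fin l) (Fin L × Fin l) F := diagonal fun p => c ^ (p.1 : ℕ) with hb0
  have key : a0 * (c • (1 : Matrix (Fin L × Fin l) (Fin L × Fin l) F)) * b0 = b0 * a0 := by
    rw [Matrix.mul_smul, Matrix.mul_one, Matrix.smul_mul, hb0]
    ext ⟨i, j⟩ ⟨i', j'⟩
    rw [Matrix.smul_apply, Matrix.mul_diagonal, Matrix.diagonal_mul, ha0, blockDiagonal_apply, smul_eq_mul]
    by_cases hj : j = j'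
    · subst hj
      simp only [shiftMat, Matrix.of_apply, if_true]
      split_ifs with h1 h2 h2
      · rw [h2, pow_zero, one_mul, mul_left_comm, ← pow_succ', h1, hc, mul_one]
      · ring
      · rw [h2, one_mul, mul_one, pow_succ']
      · ring
    · rw [if_neg hj]; ring
  have hunit : ad C a0 * a0 = 1 := by
    rw [ha0, ← blockDiagonal_one]
    have e1 : ad C (blockDiagonal fun j => shiftMat L (y j)) = blockDiagonal fun j => ad C (shiftMat L (y j)) := by
      rw [ad, blockDiagonal_map _ _ (map_zero C.bar), blockDiagonal_transpose]; rfl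
    rw [e1, ← blockDiagonal_mul]
    congr 1
    funext j
    ext x z
    rw [Matrix.mul_apply, Pi.one_apply, Matrix.one_apply]
    let s : Fin L := if h : (x : ℕ) + 1 = L then ⟨0, hL⟩ else ⟨(x : ℕ) + 1, by omega⟩
    rw [Finset.sum_eq_single s]
    · show C.bar (shiftMat L (y j) s x) * shiftMat L (y j) s z = _
      simp only [s, shiftMat, Matrix.of_apply]
      split_ifs <;> simp_all [mul_comm (C.bar (y j)), Fin.ext_iff] <;> omega
    · intro i _ hi
      show C.bar (shiftMat L (y j) i x) * shiftMat L (y j) i z = _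
      have : shiftMat L (y j) i x = 0 := by
        simp only [shiftMat, Matrix.of_apply]
        simp only [s] at hi
        split_ifs at hi ⊢ with h1 h2 <;> first | rfl | (exfalso; apply hi; apply Fin.ext; simp; omega)
      rw [this, map_zero, zero_mul]
    · simp
  refine ⟨Matrix.reindexAlgEquiv F F e.symm a0, Matrix.reindexAlgEquiv F F e.symm b0, ?_, ?_, ?_, ?_, ?_⟩
  · have h1 : ad C (Matrix.reindexAlgEquiv F F e.symm a0) = Matrix.reindexAlgEquiv F F e.symm (ad C a0) := rfl
    rw [h1, ← map_mul, hunit, map_one]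
  · have h1 : ad C (Matrix.reindexAlgEquiv F F e.symm b0) = Matrix.reindexAlgEquiv F F e.symm (ad C b0) := rfl
    rw [h1, ← map_mul, hb0, unitary_diag C fun p => by rw [map_pow, ← mul_pow, hcn, one_pow], map_one]
  · rw [← map_one (Matrix.reindexAlgEquiv F F e.symm), ← map_smul, ← map_mul, ← map_mul, ← map_mul, key]
  · rw [Matrix.det_reindexAlgEquiv, ha0, det_blockDiagonal]
    refine Finset.prod_congr rfl fun j _ => ?_
    rw [shift_comp hL (y j) (hd _), Matrix.det_reindex_self,
      CfsgLib.GLClass.CommSL.det_comp (monic_X_pow_sub_C _ hL.ne'), hd]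
    simp [coeff_X_pow, hL.ne, pow_succ]
  · intro x hx
    rw [aeval_algHom_apply, map_sub, aeval_X, aeval_C]
    refine IsUnit.map _ ?_
    rw [Matrix.isUnit_iff_isUnit_det, isUnit_iff_ne_zero]
    have e1 : a0 - algebraMap F (Matrix (Fin L × Fin l) (Fin L × Fin l) F) x =
        blockDiagonal fun j => shiftMat L (y j) - Matrix.scalar (Fin L) x := by
      ext ⟨i, j⟩ ⟨i', j'⟩
      simp only [ha0, Matrix.sub_apply, blockDiagonal_apply, Matrix.algebraMap_eq_diagonal, Matrix.diagonal_apply,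
        Prod.mk.injEq, Matrix.scalar_apply]
      split_ifs <;> simp_all
    rw [e1, det_blockDiagonal]
    refine Finset.prod_ne_zero_iff.2 fun j _ => ?_
    rw [← neg_sub (Matrix.scalar (Fin L) x) (shiftMat L (y j)), Matrix.det_neg, ← Matrix.eval_charpoly,
      shift_comp hL (y j) (hd _), Matrix.charpoly_reindex,
      CfsgLib.GLClass.CommSL.charpoly_comp (monic_X_pow_sub_C _ hL.ne'), eval_sub, eval_pow, eval_X, eval_C]
    exact mul_ne_zero (pow_ne_zero _ (neg_ne_zero.2 one_ne_zero)) (sub_ne_zero.2 (hx j))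

section Finish

variable {C} [Fintype F] {ι : Type*} [Fintype ι] [DecidableEq ι]

/-- a diagonal middle part of trivial determinant and a first block with the commutator property -/
theorem finish (hF : Fintype.card F = q ^ 2) {G : Cfsg.SU n F q}
    (hG : ad C G.1.1 * G.1.1 = 1) {g : Matrix (ι ⊕ (κ ⊕ ι)) (ι ⊕ (κ ⊕ ι)) F} (hrep : Rep C G.1.1 g)
    (hK : KK C (g.submatrix Sum.inl Sum.inl)) {δ : κ → F} (hD : schur g = diagonal δ)
    (hδ : ∀ t, δ t * C.bar (δ t) = 1) (hprod : ∏ t, δ t = 1) :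
    ∃ a b : Cfsg.SU n F q, G = a * b * a⁻¹ * b⁻¹ := by
  obtain ⟨a, b, ha, hb, -, hrel, -⟩ := exists_cycle C δ hδ hprod (Fintype.equivFin κ)
  have hda := det_unitary C (unitary_diag C ha)
  have hdb := det_unitary C hb
  obtain ⟨A, P, N, hA, hP, hN, hAτ, hPσ, hAP⟩ := hK _ _ (norm_inv C hda) (norm_inv C hdb)
  have hgood : Good C A (diagonal a) := good_of_safe C ((safe_omega C hF).pow N) hA hN (unitary_diag C ha)
    (isUnit_aeval_diag fun t => by
      rw [eval_pow]; exact pow_ne_zero _ (safe_eval_ne (safe_omega C hF) (ha t)))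
  have hdet : g.det = 1 := hrep.det_eq.trans G.1.2
  let gg : UG (ι := ι) (κ := κ) C := mkUG g hdet (hrep.iso hG)
  refine Rep.commutator (g := gg) hrep ?_
  refine commutator_of_levi gg hgood hP hb ?_ ?_ hAP ?_
  · rw [hAτ, inv_mul_cancel₀ (norm_one_ne C hda)]
  · rw [hPσ, inv_mul_cancel₀ (norm_one_ne C hdb)]
  · rw [show schur gg.1.1 = diagonal δ from hD]; exact hrel

end Finish

section Cols

variable {C} {ι : Type*} [Fintype ι] [DecidableEq ι]

/-- the coordinates dual to a column -/
def dualIdx : ι ⊕ (κ ⊕ ι) → ι ⊕ (κ ⊕ ι) :=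
  Sum.elim (fun a => Sum.inr (Sum.inr a)) (Sum.elim (fun t => Sum.inr (Sum.inl t)) Sum.inl)

/-- a frame from its vectors -/
theorem rep_of_cols (G : Matrix (Fin n) (Fin n) F) (col : ι ⊕ (κ ⊕ ι) → Fin n → F)
    (hgram : ∀ x y, C.form (col x) (col y) = (JJ : Matrix (ι ⊕ (κ ⊕ ι)) (ι ⊕ (κ ⊕ ι)) F) x y)
    (hcard : Fintype.card (ι ⊕ (κ ⊕ ι)) = n) :
    ∃ g : Matrix (ι ⊕ (κ ⊕ ι)) (ι ⊕ (κ ⊕ ι)) F, Rep C G g ∧
      ∀ x y, g x y = C.form (G *ᵥ col y) (col (dualIdx x)) := by
  obtain ⟨B, hB⟩ : ∃ B : Matrix (Fin n) (ι ⊕ (κ ⊕ ι)) F, B = Matrix.of fun i x => col x i := ⟨_, rfl⟩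
  have hBB : ad C B * B = JJ := by
    ext x y
    rw [Matrix.mul_apply, hB]
    show ∑ i, C.bar (col x i) * col y i = _
    have e : ∑ i, C.bar (col x i) * col y i = C.form (col y) (col x) :=
      Finset.sum_congr rfl fun i _ => mul_comm _ _
    rw [e, ← C.bar_form, hgram]
    rcases x with a | a | a <;> rcases y with b | b | b <;>
      simp [JJ, b3, Matrix.one_apply, apply_ite C.bar]
  have hB1 : ((JJ : Matrix (ι ⊕ (κ ⊕ ι)) _ F) * ad C B) * B = 1 := by rw [Matrix.mul_assoc, hBB, JJ_sq]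
  have hB2 : B * ((JJ : Matrix (ι ⊕ (κ ⊕ ι)) _ F) * ad C B) = 1 :=
    (Matrix.mul_eq_one_comm_of_card_eq _ _ _ (by rw [hcard, Fintype.card_fin])).1 hB1
  refine ⟨((JJ : Matrix (ι ⊕ (κ ⊕ ι)) _ F) * ad C B) * G * B, ⟨B, _, hB2, hB1, hBB, rfl⟩, fun x y => ?_⟩
  have hJ : ∀ z, (JJ : Matrix (ι ⊕ (κ ⊕ ι)) _ F) x z = if z = dualIdx x then 1 else 0 := by
    intro z
    rcases x with a | a | a <;> rcases z with b | b | b <;> simp [JJ, b3, dualIdx, Matrix.one_apply, eq_comm]
  rw [show ((JJ : Matrix (ι ⊕ (κ ⊕ ι)) _ F) * ad C B) * G * B = JJ * (ad C B * (G * B)) by simp only [Matrix.mul_assoc],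
    Matrix.mul_apply]
  simp only [hJ, ite_mul, one_mul, zero_mul, Finset.sum_ite_eq', Finset.mem_univ, if_true]
  rw [Matrix.mul_apply, hB]
  exact Finset.sum_congr rfl fun i _ => mul_comm _ _

end Cols

end CfsgLib.OreSu
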