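import Cfsg.Agent.Lib.Lie.OreSu.Decomp
import Cfsg.Agent.Lib.Lie.OreSu.Frame

/-!
Decomposition of a unitary transformation into cyclic spaces and lines.
-/

set_option autoImplicit false
set_option linter.unusedSectionVars false

namespace CfsgLib.OreSu

open CfsgLib.SU Polynomial Matrix
open CfsgLib.OreSu.Piece (Cyc POK)

variable {F : Type*} [Field F] {q n : ℕ} {C : UCtx F q} {G : Matrix (Fin n) (Fin n) F}

/-- orthogonal cyclic spaces and lines filling `U` -/
structure IsDec (C : UCtx F q) (G : Matrix (Fin n) (Fin n) F) (U : Submodule F (Fin n → F)) (r l : ℕ)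
    (z : Fin r → Fin n → F) (φ : Fin r → F[X]) (u : Fin l → Fin n → F) (c : Fin l → F) : Prop where
  memz : ∀ j, z j ∈ U
  memu : ∀ s, u s ∈ U
  cyc : ∀ j, Cyc C G (z j) (φ j)
  deg : ∀ j, 2 ≤ (φ j).natDegree
  ok : ∀ j, Even (φ j).natDegree ∨ POK C (φ j)
  zz : ∀ i j, i ≠ j → ∀ p p' : F[X], C.form (aeval G p *ᵥ z i) (aeval G p' *ᵥ z j) = 0
  eig : ∀ s, G *ᵥ u s = c s • u s
  uu : ∀ s t, C.form (u s) (u t) = if s = t then 1 else 0
  zu : ∀ j s (p : F[X]), C.form (aeval G p *ᵥ z j) (u s) = 0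
  total : ∑ j, (φ j).natDegree + l = Module.finrank F U

theorem exists_norm_one_ne_one (C : UCtx F q) : ∃ t, t * C.bar t = 1 ∧ t ≠ 1 := by
  obtain ⟨θ, hθ⟩ := C.exists_not_fixed
  have hθ0 : θ ≠ 0 := fun e => hθ (by rw [e, map_zero])
  refine ⟨psi C θ, psi_norm C hθ0, fun e => hθ ?_⟩
  rw [psi, div_eq_one_iff_eq (bar_ne C hθ0)] at e
  exact e.symm

theorem odd_nonroot {φ : F[X]} (h : Even φ.natDegree ∨ POK C φ) (ho : Odd φ.natDegree) :
    ∃ ω, ω * C.bar ω = 1 ∧ φ.eval ω ≠ 0 := by
  rcases h with h | h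
  · exact absurd h (Nat.not_even_iff_odd.2 ho)
  by_contra hcon
  simp only [not_exists, not_and, not_not] at hcon
  obtain ⟨t, ht, ht1⟩ := exists_norm_one_ne_one C
  have h1 : (1 : F) * C.bar 1 = 1 := by rw [map_one, mul_one]
  have e := h 1 h1 (hcon 1 h1)
  have ht0 := hcon t ht
  rw [e, eval_pow, eval_sub, eval_X, eval_C] at ht0
  exact ht1 (sub_eq_zero.1 (eq_zero_of_pow_eq_zero ht0))

theorem aeval_eig {u : Fin n → F} {c : F} (hu : G *ᵥ u = c • u) (p : F[X]) :
    aeval G p *ᵥ u = p.eval c • u := by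
  induction p using Polynomial.induction_on' with
  | add a b ha hb => rw [map_add, Matrix.add_mulVec, ha, hb, eval_add, add_smul]
  | monomial i a =>
    have h : G ^ i *ᵥ u = c ^ i • u := by
      induction i with
      | zero => simp
      | succ i ih => rw [pow_succ, ← Matrix.mulVec_mulVec, hu, Matrix.mulVec_smul, ih, smul_smul, pow_succ']
    rw [aeval_monomial, ← Algebra.smul_def, Matrix.smul_mulVec, h, eval_monomial, smul_smul]

theorem form_all_of_first {z v : Fin n → F} {φ : F[X]} (h : Cyc C G z φ)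
    (hv : ∀ i : Fin φ.natDegree, C.form v (G ^ (i : ℕ) *ᵥ z) = 0) (R : F[X]) :
    C.form v (aeval G R *ᵥ z) = 0 := by
  conv_lhs => rw [← Polynomial.modByMonic_add_div R φ]
  rw [map_add, Matrix.add_mulVec, (h.ker _).2 (dvd_mul_right _ _), add_zero]
  rcases eq_or_ne (R %ₘ φ) 0 with h0 | h0
  · rw [h0, map_zero, Matrix.zero_mulVec, C.form_zero_right]
  have hd := natDegree_lt_natDegree h0 (degree_modByMonic_lt R h.monic)
  rw [aeval_eq_sum_range' hd, Matrix.sum_mulVec, ← C.bar_form, C.form_sum_left, map_sum]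
  refine Finset.sum_eq_zero fun i hi => ?_
  rw [Matrix.smul_mulVec, C.form_smul_left, map_mul, C.bar_form, hv ⟨i, Finset.mem_range.1 hi⟩, mul_zero]

variable (hG : ∀ u v : Fin n → F, C.form (G *ᵥ u) (G *ᵥ v) = C.form u v)
include hG

theorem cyc_line {u : Fin n → F} {c : F} (hu : G *ᵥ u = c • u) (huu : C.form u u = 1) :
    Cyc C G u (X - Polynomial.C c) := by
  refine Piece.cyc_of hG (monic_X_sub_C c) ?_ fun g w hg hgw => ⟨1, ?_⟩
  · rw [aeval_eig hu, eval_sub, eval_X, eval_C, sub_self, zero_smul]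
  · have hw : IsUnit w := ((irreducible_X_sub_C c).isUnit_or_isUnit hgw).resolve_left hg.not_isUnit
    obtain ⟨a, ha, hw'⟩ := Polynomial.isUnit_iff.1 hw
    rw [map_one, Matrix.one_mulVec, ← hw', aeval_eig hu, eval_C, C.form_smul_left, huu, mul_one]
    exact ha.ne_zero

/-- adjoining an orthogonal line with a new eigenvalue -/
theorem cyc_add_line {z u : Fin n → F} {φ : F[X]} {c : F} (h : Cyc C G z φ) (hu : G *ᵥ u = c • u)
    (huu : C.form u u = 1) (hzu : ∀ p : F[X], C.form (aeval G p *ᵥ z) u = 0) (hc : φ.eval c ≠ 0) :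
    Cyc C G (z + u) (φ * (X - Polynomial.C c)) := by
  refine Piece.cyc_of hG (h.monic.mul (monic_X_sub_C c)) ?_ fun g w hg hgw => ?_
  · rw [Matrix.mulVec_add, aeval_eig hu, eval_mul, eval_sub, eval_X, eval_C, sub_self, mul_zero, zero_smul,
      add_zero]
    exact (h.ker _).2 (dvd_mul_right _ _)
  have hwu : ∀ R : F[X], C.form (aeval G w *ᵥ (z + u)) (aeval G R *ᵥ (z + u)) =
      C.form (aeval G w *ᵥ z) (aeval G R *ᵥ z) + w.eval c * C.bar (R.eval c) := by
    intro R
    rw [Matrix.mulVec_add, Matrix.mulVec_add, aeval_eig hu, aeval_eig hu, C.form_add_left, C.form_add_right,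
      C.form_add_right, C.form_smul_right _ _ u, hzu w, C.form_smul_left _ u, C.form_smul_left _ u,
      C.form_swap_zero (hzu R), C.form_smul_right, huu]
    ring
  by_cases hgc : g ∣ X - Polynomial.C c
  · refine ⟨1, ?_⟩
    obtain ⟨v, hv⟩ := (hg.associated_of_dvd (irreducible_X_sub_C c) hgc)
    have hw : w = (v : F[X]) * φ := by
      refine mul_left_cancel₀ hg.ne_zero ?_
      rw [← hgw, ← mul_assoc, hv, mul_comm]
    have hwz : aeval G w *ᵥ z = 0 := (h.ker _).2 (hw ▸ dvd_mul_left _ _)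
    rw [hwu, hwz, C.form_zero_left, zero_add, eval_one, map_one, mul_one, hw, eval_mul]
    obtain ⟨a, ha, hva⟩ := Polynomial.isUnit_iff.1 v.isUnit
    rw [← hva, eval_C]
    exact mul_ne_zero ha.ne_zero hc
  · by_contra hcon
    simp only [not_exists, not_not] at hcon
    have hdvd : X - Polynomial.C c ∣ w :=
      ((irreducible_X_sub_C c).prime.dvd_or_dvd (⟨φ, by rw [← hgw, mul_comm]⟩ : X - Polynomial.C c ∣ g * w)).resolve_left
        fun hd => hgc ((irreducible_X_sub_C c).associated_of_dvd hg hd).symm.dvd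
    have hwc : w.eval c = 0 := dvd_iff_isRoot.1 hdvd
    have h2 : φ ∣ w := h.nondeg _ fun i => by
      have := hcon (X ^ i)
      rw [hwu, hwc, zero_mul, add_zero, aeval_X_pow] at this
      exact this
    obtain ⟨w', hw'⟩ := h2
    refine hgc ⟨w', ?_⟩
    refine mul_left_cancel₀ h.monic.ne_zero ?_
    rw [hgw, hw']
    ring

/-- every non-degenerate invariant space decomposes -/
theorem exists_dec [Finite F] (U : Submodule F (Fin n → F)) (hU : ∀ u ∈ U, G *ᵥ u ∈ U)
    (hnd : ∀ u ∈ U, (∀ v ∈ U, C.form u v = 0) → u = 0) :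
    ∃ r l z φ u c, IsDec C G U r l z φ u c := by
  classical
  induction hd : Module.finrank F U using Nat.strong_induction_on generalizing U with
  | _ N ih =>
  by_cases hne : U = ⊥
  · refine ⟨0, 0, Fin.elim0, Fin.elim0, Fin.elim0, Fin.elim0, ⟨fun j => j.elim0, fun j => j.elim0, fun j => j.elim0,
      fun j => j.elim0, fun j => j.elim0, fun j => j.elim0, fun j => j.elim0, fun j => j.elim0, fun j => j.elim0, ?_⟩⟩
    rw [hne, finrank_bot]; simp
  obtain ⟨z, φ, hzU, hdeg, hcyc, hok⟩ := Piece.exists_cyc hG hU hnd hne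
  let L : U →ₗ[F] (Fin φ.natDegree → F) :=
    { toFun := fun v i => C.form (v : Fin n → F) (G ^ (i : ℕ) *ᵥ z)
      map_add' := fun a b => by funext i; simp only [Submodule.coe_add, C.form_add_left]; rfl
      map_smul' := fun a v => by funext i; simp only [Submodule.coe_smul, C.form_smul_left]; rfl }
  have hsurj : Function.Surjective L := by
    intro t
    obtain ⟨a, ha⟩ := exists_pairing hcyc t
    refine ⟨⟨comb G z φ.natDegree a, ?_⟩, funext ha⟩
    rw [comb_eq]; exact Piece.aeval_mem hU hzU _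
  set U' := (LinearMap.ker L).map U.subtype with hU'
  have hmem : ∀ v, v ∈ U' ↔ v ∈ U ∧ ∀ R : F[X], C.form v (aeval G R *ᵥ z) = 0 := by
    intro v
    constructor
    · rintro ⟨⟨w, hw⟩, hwk, rfl⟩
      exact ⟨hw, form_all_of_first hcyc fun i => congrFun (LinearMap.mem_ker.1 hwk) i⟩
    · rintro ⟨hv, hR⟩
      refine ⟨⟨v, hv⟩, LinearMap.mem_ker.2 (funext fun i => ?_), rfl⟩
      show C.form v (G ^ (i : ℕ) *ᵥ z) = 0
      rw [← aeval_X_pow (R := F) G]; exact hR _
  have hinv : ∀ v ∈ U', G *ᵥ v ∈ U' := by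
    intro v hv
    rw [hmem] at hv ⊢
    refine ⟨hU v hv.1, fun R => ?_⟩
    obtain ⟨X', hX', -⟩ := Piece.exists_adj hG (X : F[X])
    rw [show G *ᵥ v = aeval G (X : F[X]) *ᵥ v by rw [aeval_X], hX', Matrix.mulVec_mulVec, ← map_mul]
    exact hv.2 _
  have hnd' : ∀ v ∈ U', (∀ w ∈ U', C.form v w = 0) → v = 0 := by
    intro v hv hperp
    rw [hmem] at hv
    refine hnd v hv.1 fun w hw => ?_
    obtain ⟨a, ha⟩ := exists_pairing hcyc fun i => C.form w (G ^ (i : ℕ) *ᵥ z)
    have h1 : w - comb G z φ.natDegree a ∈ U' := by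
      rw [hmem]
      refine ⟨sub_mem hw (by rw [comb_eq]; exact Piece.aeval_mem hU hzU _), form_all_of_first hcyc fun i => ?_⟩
      rw [C.form_sub_left, ha, sub_self]
    have h2 := hperp _ h1
    rw [C.form_sub_right, comb_eq, hv.2, sub_zero] at h2
    exact h2
  have hfin : φ.natDegree + Module.finrank F U' = Module.finrank F U := by
    rw [hU', Submodule.finrank_map_subtype_eq, ← LinearMap.finrank_range_add_finrank_ker L,
      LinearMap.range_eq_top.2 hsurj, finrank_top, Module.finrank_pi, Fintype.card_fin]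
  obtain ⟨r, l, zs, φs, us, cs, hD⟩ := ih _ (by omega) U' hinv hnd' rfl
  have hzs : ∀ j (p R : F[X]), C.form (aeval G p *ᵥ zs j) (aeval G R *ᵥ z) = 0 := fun j p R =>
    ((hmem _).1 (Piece.aeval_mem hinv (hD.memz j) p)).2 R
  have hus : ∀ s (R : F[X]), C.form (us s) (aeval G R *ᵥ z) = 0 := fun s R => ((hmem _).1 (hD.memu s)).2 R
  have hsub : ∀ {v}, v ∈ U' → v ∈ U := fun hv => ((hmem _).1 hv).1
  rcases eq_or_lt_of_le hdeg with hd1 | hd2
  · -- a line
    obtain ⟨b, hb⟩ : ∃ b, φ = X + Polynomial.C b := ⟨_, hcyc.monic.eq_X_add_C hd1.symm⟩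
    have hGz : G *ᵥ z = (-b) • z := by
      have h := (hcyc.ker φ).2 dvd_rfl
      rw [hb, map_add, aeval_X, aeval_C, Algebra.algebraMap_eq_smul_one, Matrix.add_mulVec, Matrix.smul_mulVec,
        Matrix.one_mulVec] at h
      rw [neg_smul]
      exact eq_neg_of_add_eq_zero_left h
    have hzz : C.form z z ≠ 0 := by
      intro h0
      have hp : φ ∣ (1 : F[X]) := hcyc.nondeg 1 fun i => by
        rw [map_one, Matrix.one_mulVec, ← aeval_X_pow (R := F) G, aeval_eig hGz, C.form_smul_right, h0, mul_zero]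
      have := natDegree_le_of_dvd hp one_ne_zero
      rw [natDegree_one] at this
      omega
    obtain ⟨s, hs⟩ := C.exists_norm (c := (C.form z z)⁻¹) (by rw [map_inv₀, C.form_self_fixed])
    refine ⟨r, l + 1, zs, φs, Fin.cons (s • z) us, Fin.cons (-b) cs, ⟨fun j => hsub (hD.memz j), ?_, hD.cyc,
      hD.deg, hD.ok, hD.zz, ?_, ?_, ?_, ?_⟩⟩
    · exact Fin.cases (U.smul_mem s hzU) fun i => hsub (hD.memu i)
    · refine Fin.cases ?_ fun i => ?_
      · rw [Fin.cons_zero, Fin.cons_zero, Matrix.mulVec_smul, hGz, smul_comm]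
      · rw [Fin.cons_succ, Fin.cons_succ]; exact hD.eig i
    · intro a
      refine Fin.cases ?_ (fun i => ?_) a <;> intro a' <;> refine Fin.cases ?_ (fun i' => ?_) a'
      · rw [Fin.cons_zero, if_pos rfl, C.form_smul_left, C.form_smul_right, ← mul_assoc, hs, inv_mul_cancel₀ hzz]
      · rw [Fin.cons_zero, Fin.cons_succ, if_neg (Fin.succ_ne_zero i').symm, C.form_smul_left]
        have := C.form_swap_zero (hus i' 1)
        rw [map_one, Matrix.one_mulVec] at this
        rw [this, mul_zero]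
      · rw [Fin.cons_zero, Fin.cons_succ, if_neg (Fin.succ_ne_zero i), C.form_smul_right]
        have := hus i 1
        rw [map_one, Matrix.one_mulVec] at this
        rw [this, mul_zero]
      · rw [Fin.cons_succ, Fin.cons_succ, hD.uu]; simp
    · intro j a p
      refine Fin.cases ?_ (fun i => ?_) a
      · rw [Fin.cons_zero, C.form_smul_right]
        have := hzs j p 1
        rw [map_one, Matrix.one_mulVec] at this
        rw [this, mul_zero]
      · rw [Fin.cons_succ]; exact hD.zu j i p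
    · have := hD.total; omega
  · refine ⟨r + 1, l, Fin.cons z zs, Fin.cons φ φs, us, cs, ⟨?_, fun s => hsub (hD.memu s), ?_, ?_, ?_, ?_,
      hD.eig, hD.uu, ?_, ?_⟩⟩
    · exact Fin.cases hzU fun i => hsub (hD.memz i)
    · refine Fin.cases ?_ fun i => ?_
      · rw [Fin.cons_zero, Fin.cons_zero]; exact hcyc
      · rw [Fin.cons_succ, Fin.cons_succ]; exact hD.cyc i
    · refine Fin.cases ?_ fun i => ?_
      · rw [Fin.cons_zero]; exact hd2
      · rw [Fin.cons_succ]; exact hD.deg i
    · refine Fin.cases ?_ fun i => ?_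
      · rw [Fin.cons_zero]; exact Or.inr hok
      · rw [Fin.cons_succ]; exact hD.ok i
    · intro a
      refine Fin.cases ?_ (fun i => ?_) a <;> intro a' <;> refine Fin.cases ?_ (fun i' => ?_) a' <;>
        intro hne' p p'
      · exact absurd rfl hne'
      · rw [Fin.cons_zero, Fin.cons_succ]; exact C.form_swap_zero (hzs i' p' p)
      · rw [Fin.cons_zero, Fin.cons_succ]; exact hzs i p p'
      · rw [Fin.cons_succ, Fin.cons_succ]
        exact hD.zz i i' (fun e => hne' (congrArg Fin.succ e)) p p'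
    · intro j s p
      refine Fin.cases ?_ (fun i => ?_) j
      · rw [Fin.cons_zero]; exact C.form_swap_zero (hus s p)
      · rw [Fin.cons_succ]; exact hD.zu i s p
    · rw [Fin.sum_univ_succ, Fin.cons_zero]
      simp only [Fin.cons_succ]
      have := hD.total
      omega

/-- two lines with different eigenvalues make a cyclic plane -/
theorem IsDec.merge [Finite F] {U : Submodule F (Fin n → F)} {r l : ℕ} {z : Fin r → Fin n → F} {φ : Fin r → F[X]}
    {u : Fin (l + 2) → Fin n → F} {c : Fin (l + 2) → F} (h : IsDec C G U r (l + 2) z φ u c)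
    {s t : Fin (l + 2)} (hst : c s ≠ c t) :
    ∃ z' φ' u' c', IsDec C G U (r + 1) l z' φ' u' c' := by
  have hne : s ≠ t := fun e => hst (congrArg c e)
  set t' := Equiv.swap 0 s t with ht'
  set σ := Equiv.swap (0 : Fin (l + 2)) s * Equiv.swap 1 t' with hσ
  have ht0 : t' ≠ 0 := fun e => hne (by
    have e' : Equiv.swap 0 s t = Equiv.swap 0 s s := by rw [← ht', e, Equiv.swap_apply_right]
    exact ((Equiv.swap 0 s).injective e').symm)
  have h0 : σ 0 = s := by
    rw [hσ, Equiv.Perm.mul_apply, Equiv.swap_apply_of_ne_of_ne (by simp) ht0.symm, Equiv.swap_apply_left]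
  have h1 : σ 1 = t := by
    rw [hσ, Equiv.Perm.mul_apply, Equiv.swap_apply_left, ht', Equiv.swap_apply_self]
  have hσne : ∀ i : Fin l, σ i.succ.succ ≠ s ∧ σ i.succ.succ ≠ t := fun i =>
    ⟨fun e => absurd (σ.injective (e.trans h0.symm)) (Fin.succ_ne_zero _),
      fun e => absurd (σ.injective (e.trans h1.symm)) (by
        rw [← Fin.succ_zero_eq_one, Fin.succ_inj]; exact Fin.succ_ne_zero _)⟩
  have hst0 : C.form (u s) (u t) = 0 := by rw [h.uu, if_neg hne]
  have hzu : ∀ p : F[X], C.form (aeval G p *ᵥ u s) (u t) = 0 := fun p => by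
    rw [aeval_eig (h.eig s), C.form_smul_left, hst0, mul_zero]
  have hcyc := cyc_add_line hG (cyc_line hG (h.eig s) (by rw [h.uu, if_pos rfl])) (h.eig t)
    (by rw [h.uu, if_pos rfl]) hzu (by rw [eval_sub, eval_X, eval_C, sub_ne_zero]; exact hst.symm)
  have hpz : ∀ p : F[X], aeval G p *ᵥ (u s + u t) = p.eval (c s) • u s + p.eval (c t) • u t := fun p => by
    rw [Matrix.mulVec_add, aeval_eig (h.eig s), aeval_eig (h.eig t)]
  refine ⟨Fin.cons (u s + u t) z, Fin.cons ((X - Polynomial.C (c s)) * (X - Polynomial.C (c t))) φ,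
    fun i => u (σ i.succ.succ), fun i => c (σ i.succ.succ), ⟨?_, fun i => h.memu _, ?_, ?_, ?_, ?_,
      fun i => h.eig _, ?_, ?_, ?_⟩⟩
  · exact Fin.cases (add_mem (h.memu s) (h.memu t)) fun i => h.memz i
  · refine Fin.cases ?_ fun i => ?_
    · rw [Fin.cons_zero, Fin.cons_zero]; exact hcyc
    · rw [Fin.cons_succ, Fin.cons_succ]; exact h.cyc i
  · refine Fin.cases ?_ fun i => ?_
    · rw [Fin.cons_zero, natDegree_mul (X_sub_C_ne_zero _) (X_sub_C_ne_zero _), natDegree_X_sub_C,
        natDegree_X_sub_C]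
    · rw [Fin.cons_succ]; exact h.deg i
  · refine Fin.cases ?_ fun i => ?_
    · rw [Fin.cons_zero, natDegree_mul (X_sub_C_ne_zero _) (X_sub_C_ne_zero _), natDegree_X_sub_C,
        natDegree_X_sub_C]
      exact Or.inl (by decide)
    · rw [Fin.cons_succ]; exact h.ok i
  · intro a
    refine Fin.cases ?_ (fun i => ?_) a <;> intro a' <;> refine Fin.cases ?_ (fun i' => ?_) a' <;>
      intro hne' p p'
    · exact absurd rfl hne'
    · rw [Fin.cons_zero, Fin.cons_succ, hpz, C.form_add_left, C.form_smul_left, C.form_smul_left,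
        C.form_swap_zero (h.zu i' s p'), C.form_swap_zero (h.zu i' t p')]
      ring
    · rw [Fin.cons_zero, Fin.cons_succ, hpz, C.form_add_right, C.form_smul_right, C.form_smul_right, h.zu i s p,
        h.zu i t p]
      ring
    · rw [Fin.cons_succ, Fin.cons_succ]
      exact h.zz i i' (fun e => hne' (congrArg Fin.succ e)) p p'
  · intro i j
    rw [h.uu]
    simp
  · intro j i p
    refine Fin.cases ?_ (fun j' => ?_) j
    · rw [Fin.cons_zero, hpz, C.form_add_left, C.form_smul_left, C.form_smul_left, h.uu, h.uu,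
        if_neg (hσne i).1.symm, if_neg (hσne i).2.symm]
      ring
    · rw [Fin.cons_succ]; exact h.zu j' _ p
  · rw [Fin.sum_univ_succ, Fin.cons_zero, natDegree_mul (X_sub_C_ne_zero _) (X_sub_C_ne_zero _),
      natDegree_X_sub_C, natDegree_X_sub_C]
    simp only [Fin.cons_succ]
    have := h.total
    omega

/-- the three cases -/
theorem dec_cases [Finite F] :
    (∃ r l z φ u c, IsDec C G ⊤ r l z φ u c ∧ 2 ≤ ∑ j, (φ j).natDegree / 2) ∨
    (∃ l z φ u c, IsDec C G ⊤ 1 l z φ u c ∧ (φ 0).natDegree ≤ 3 ∧ ∀ s t, c s = c t) ∨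
    (∃ c : F, G = c • (1 : Matrix (Fin n) (Fin n) F)) := by
  classical
  obtain ⟨r, l, z, φ, u, c, h⟩ := exists_dec hG ⊤ (fun _ _ => trivial)
    (fun v _ hv => C.eq_zero_of_form fun w => hv w trivial)
  have one : ∀ {l : ℕ} {z : Fin 1 → Fin n → F} {φ : Fin 1 → F[X]} {u : Fin l → Fin n → F} {c : Fin l → F},
      IsDec C G ⊤ 1 l z φ u c →
      (∃ r l z φ u c, IsDec C G ⊤ r l z φ u c ∧ 2 ≤ ∑ j, (φ j).natDegree / 2) ∨
      (∃ l z φ u c, IsDec C G ⊤ 1 l z φ u c ∧ (φ 0).natDegree ≤ 3 ∧ ∀ s t, c s = c t) := by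
    intro l z φ u c h
    by_cases h4 : 4 ≤ (φ 0).natDegree
    · exact Or.inl ⟨1, l, z, φ, u, c, h, by rw [Fin.sum_univ_one]; omega⟩
    by_cases hall : ∀ s t, c s = c t
    · exact Or.inr ⟨l, z, φ, u, c, h, by omega, hall⟩
    simp only [not_forall] at hall
    obtain ⟨s, t, hst⟩ := hall
    obtain ⟨l', rfl⟩ : ∃ l', l = l' + 2 := by
      refine ⟨l - 2, ?_⟩
      have hs := s.isLt
      have ht := t.isLt
      have : (s : ℕ) ≠ t := fun e => hst (congrArg c (Fin.ext e))
      omega
    obtain ⟨z', φ', u', c', h'⟩ := h.merge hG hst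
    refine Or.inl ⟨2, l', z', φ', u', c', h', ?_⟩
    have e0 := h'.deg 0
    have e1 := h'.deg 1
    rw [Fin.sum_univ_two]; omega
  match r, z, φ, h with
  | 0, z, φ, h =>
    by_cases hall : ∀ s t, c s = c t
    · refine Or.inr (Or.inr ?_)
      have hl : l = n := by
        have := h.total
        rw [finrank_top, Module.finrank_pi, Fintype.card_fin] at this
        simpa using this
      obtain ⟨c0, hc0⟩ : ∃ c0, ∀ s, c s = c0 := by
        rcases Nat.eq_zero_or_pos l with rfl | hl0
        · exact ⟨0, fun s => s.elim0⟩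
        · exact ⟨c ⟨0, hl0⟩, fun s => hall _ _⟩
      have hli : LinearIndependent F u := by
        rw [Fintype.linearIndependent_iff]
        intro a ha i
        have h2 := congrArg (fun w => C.form w (u i)) ha
        simp only [C.form_sum_left, C.form_smul_left, h.uu, C.form_zero_left] at h2
        simpa using h2
      have hspan := hli.span_eq_top_of_card_eq_finrank' (by
        rw [Module.finrank_pi, Fintype.card_fin, Fintype.card_fin, hl])
      refine ⟨c0, Matrix.ext_iff_mulVec.2 fun v => ?_⟩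
      have hv : v ∈ Submodule.span F (Set.range u) := hspan ▸ Submodule.mem_top
      rw [Matrix.smul_mulVec, Matrix.one_mulVec]
      induction hv using Submodule.span_induction with
      | mem x hx => obtain ⟨s, rfl⟩ := hx; rw [h.eig, hc0]
      | zero => rw [Matrix.mulVec_zero, smul_zero]
      | add x y _ _ hx hy => rw [Matrix.mulVec_add, hx, hy, smul_add]
      | smul a x _ hx => rw [Matrix.mulVec_smul, hx, smul_comm]
    simp only [not_forall] at hall
    obtain ⟨s, t, hst⟩ := hall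
    obtain ⟨l', rfl⟩ : ∃ l', l = l' + 2 := by
      refine ⟨l - 2, ?_⟩
      have hs := s.isLt
      have ht := t.isLt
      have : (s : ℕ) ≠ t := fun e => hst (congrArg c (Fin.ext e))
      omega
    obtain ⟨z', φ', u', c', h'⟩ := h.merge hG hst
    rcases one h' with h'' | h''
    · exact Or.inl h''
    · exact Or.inr (Or.inl h'')
  | 1, z, φ, h =>
    rcases one h with h'' | h''
    · exact Or.inl h''
    · exact Or.inr (Or.inl h'')
  | r + 2, z, φ, h =>
    refine Or.inl ⟨r + 2, l, z, φ, u, c, h, ?_⟩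
    rw [Fin.sum_univ_succ, Fin.sum_univ_succ]
    have e0 := h.deg 0
    have e1 := h.deg (Fin.succ 0)
    omega

end CfsgLib.OreSu
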