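import Cfsg.Agent.Lib.Lie.OreSu.Block
import Cfsg.Agent.Lib.Lie.OreSu.Frame
import Cfsg.Agent.Lib.GLClass.Charpoly

/-!
Admissible first blocks that are conjugated into commutators, for prescribed classes.
-/

set_option autoImplicit false
set_option linter.unusedSectionVars false

namespace CfsgLib.OreSu

open CfsgLib.SU Polynomial Matrix
open CfsgLib.GLClass CfsgLib.GLClass.CommSL

variable {F : Type*} [Field F] [Fintype F] {q : ℕ} {C : UCtx F q} (hF : Fintype.card F = q ^ 2)

/-- the class forced by the form -/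
def cls (C : UCtx F q) {J : Type*} (η : J → F) (j : J) : F := -psi C (η j)

theorem cls_norm {J : Type*} {η : J → F} (h : ∀ j, η j ≠ 0) (j : J) : cls C η j * C.bar (cls C η j) = 1 :=
  norm_neg C (psi_norm C (h j))

/-- a block matrix reachable from a frame -/
structure Adm (C : UCtx F q) {J : Type*} [DecidableEq J] (k : J → ℕ) (hk : ∀ j, 0 < k j) (η : J → F)
    (M : Matrix (Σ j, Fin (k j)) (Σ j, Fin (k j)) F) : Prop where
  shift : ∀ a b : Σ j, Fin (k j), (b.2 : ℕ) + 1 ≠ k b.1 →
    M a b = if a.1 = b.1 ∧ (a.2 : ℕ) = (b.2 : ℕ) + 1 then 1 else 0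
  skew : ∀ l j, M (fst hk l) (lst hk j) / η j + C.bar (M (fst hk j) (lst hk l) / η l) = 0
  mix : ∀ a b : Σ j, Fin (k j), a.1 ≠ b.1 → M a b ≠ 0 →
    q = 2 ∧ cls C η a.1 = cls C η b.1 ∧ cls C η a.1 ≠ 1

/-- there is an admissible matrix with the commutator property -/
def Attain (C : UCtx F q) {J : Type*} [Fintype J] [DecidableEq J] (k : J → ℕ) (hk : ∀ j, 0 < k j) (η : J → F) :
    Prop :=
  ∃ M : Matrix (Σ j, Fin (k j)) (Σ j, Fin (k j)) F, Adm C k hk η M ∧ KK C M ∧ M.det = 1

variable {J : Type*} [Fintype J] [DecidableEq J] {k : J → ℕ} {hk : ∀ j, 0 < k j} {η : J → F}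

theorem Attain.sum {J1 J2 : Type*} [Fintype J1] [DecidableEq J1] [Fintype J2] [DecidableEq J2] (e : J1 ⊕ J2 ≃ J)
    (h1 : Attain C (fun j => k (e (Sum.inl j))) (fun j => hk _) fun j => η (e (Sum.inl j)))
    (h2 : Attain C (fun j => k (e (Sum.inr j))) (fun j => hk _) fun j => η (e (Sum.inr j))) :
    Attain C k hk η := by
  obtain ⟨M1, hA1, hK1, hd1⟩ := h1
  obtain ⟨M2, hA2, hK2, hd2⟩ := h2
  let E : (Σ j : J1, Fin (k (e (Sum.inl j)))) ⊕ (Σ j : J2, Fin (k (e (Sum.inr j)))) ≃ Σ j, Fin (k j) :=
    (Equiv.sumSigmaDistrib fun s => Fin (k (e s))).symm.trans (e.sigmaCongrLeft (β := fun j => Fin (k j)))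
  set M := Matrix.reindex E E (fromBlocks M1 0 0 M2) with hM
  have happ : ∀ x y, M (E x) (E y) = fromBlocks M1 0 0 M2 x y := fun x y => by
    simp only [hM, Matrix.reindex_apply, Matrix.submatrix_apply, Equiv.symm_apply_apply]
  refine ⟨M, ⟨?_, ?_, ?_⟩, KK.sim (sim_reindex E _) (hK1.blocks hK2), ?_⟩
  · intro a b hb
    obtain ⟨a, rfl⟩ := E.surjective a
    obtain ⟨b, rfl⟩ := E.surjective b
    rw [happ]
    rcases a with ⟨l, i⟩ | ⟨l, i⟩ <;> rcases b with ⟨j, m⟩ | ⟨j, m⟩
    · rw [fromBlocks_apply₁₁, hA1.shift _ _ hb]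
      show _ = if e (Sum.inl l) = e (Sum.inl j) ∧ (i : ℕ) = (m : ℕ) + 1 then (1 : F) else 0
      simp
    · rw [fromBlocks_apply₁₂, Matrix.zero_apply]
      show _ = if e (Sum.inl l) = e (Sum.inr j) ∧ (i : ℕ) = (m : ℕ) + 1 then (1 : F) else 0
      simp
    · rw [fromBlocks_apply₂₁, Matrix.zero_apply]
      show _ = if e (Sum.inr l) = e (Sum.inl j) ∧ (i : ℕ) = (m : ℕ) + 1 then (1 : F) else 0
      simp
    · rw [fromBlocks_apply₂₂, hA2.shift _ _ hb]
      show _ = if e (Sum.inr l) = e (Sum.inr j) ∧ (i : ℕ) = (m : ℕ) + 1 then (1 : F) else 0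
      simp
  · intro l j
    obtain ⟨l, rfl⟩ := e.surjective l
    obtain ⟨j, rfl⟩ := e.surjective j
    rcases l with l | l <;> rcases j with j | j
    · show M (E (Sum.inl (fst (fun j => hk (e (Sum.inl j))) l))) (E (Sum.inl (lst (fun j => hk (e (Sum.inl j))) j))) / _ +
        C.bar (M (E (Sum.inl (fst (fun j => hk (e (Sum.inl j))) j))) (E (Sum.inl (lst (fun j => hk (e (Sum.inl j))) l))) / _) = 0
      rw [happ, happ]; exact hA1.skew l j
    · show M (E (Sum.inl (fst (fun j => hk (e (Sum.inl j))) l))) (E (Sum.inr (lst (fun j => hk (e (Sum.inr j))) j))) / _ +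
        C.bar (M (E (Sum.inr (fst (fun j => hk (e (Sum.inr j))) j))) (E (Sum.inl (lst (fun j => hk (e (Sum.inl j))) l))) / _) = 0
      rw [happ, happ]; simp
    · show M (E (Sum.inr (fst (fun j => hk (e (Sum.inr j))) l))) (E (Sum.inl (lst (fun j => hk (e (Sum.inl j))) j))) / _ +
        C.bar (M (E (Sum.inl (fst (fun j => hk (e (Sum.inl j))) j))) (E (Sum.inr (lst (fun j => hk (e (Sum.inr j))) l))) / _) = 0
      rw [happ, happ]; simp
    · show M (E (Sum.inr (fst (fun j => hk (e (Sum.inr j))) l))) (E (Sum.inr (lst (fun j => hk (e (Sum.inr j))) j))) / _ +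
        C.bar (M (E (Sum.inr (fst (fun j => hk (e (Sum.inr j))) j))) (E (Sum.inr (lst (fun j => hk (e (Sum.inr j))) l))) / _) = 0
      rw [happ, happ]; exact hA2.skew l j
  · intro a b hab hne
    obtain ⟨a, rfl⟩ := E.surjective a
    obtain ⟨b, rfl⟩ := E.surjective b
    rw [happ] at hne
    rcases a with ⟨l, i⟩ | ⟨l, i⟩ <;> rcases b with ⟨j, m⟩ | ⟨j, m⟩
    · exact hA1.mix ⟨l, i⟩ ⟨j, m⟩ (fun h => hab (congrArg (fun x => e (Sum.inl x)) h)) hne
    · exact absurd rfl hne
    · exact absurd rfl hne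
    · exact hA2.mix ⟨l, i⟩ ⟨j, m⟩ (fun h => hab (congrArg (fun x => e (Sum.inr x)) h)) hne
  · rw [hM, Matrix.det_reindex_self, det_fromBlocks_zero₁₂, hd1, hd2, one_mul]

include hF

/-- prescribed eigenvalues in blockwise companion form -/
theorem adm_of_roots (η0 : ∀ j, η j ≠ 0) (ρ : (Σ j, Fin (k j)) → F) (hne : ∀ a, ρ a ≠ 0)
    (hcls : ∀ j, psi C (∏ i, ρ ⟨j, i⟩) = cls C η j) :
    ∃ M : Matrix (Σ j, Fin (k j)) (Σ j, Fin (k j)) F, Adm C k hk η M ∧
      M.charpoly = ∏ a, (X - Polynomial.C (ρ a)) ∧ M.det = ∏ a, ρ a := by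
  classical
  set φ : J → F[X] := fun j => ∏ i : Fin (k j), (X - Polynomial.C (ρ ⟨j, i⟩)) with hφ
  have hm : ∀ j, (φ j).Monic := fun j => monic_prod_of_monic _ _ fun i _ => monic_X_sub_C _
  have hd : ∀ j, (φ j).natDegree = k j := fun j => by
    rw [hφ]
    dsimp only
    rw [natDegree_prod_of_monic _ _ fun i _ => monic_X_sub_C _]
    simp
  set N : ∀ j, Matrix (Fin (k j)) (Fin (k j)) F := fun j =>
    Matrix.reindex (finCongr (hd j)) (finCongr (hd j)) (CommSL.comp (φ j)) with hN
  have hNapp : ∀ j (i m : Fin (k j)), N j i m =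
      if (m : ℕ) + 1 = k j then -(φ j).coeff i else if (i : ℕ) = m + 1 then 1 else 0 := by
    intro j i m
    simp [hN, CommSL.comp, hd, Matrix.reindex_apply]
  have hch : (blockDiagonal' N).charpoly = ∏ a, (X - Polynomial.C (ρ a)) := by
    rw [charpoly_blockDiagonal', Fintype.prod_sigma]
    refine Finset.prod_congr rfl fun j _ => ?_
    rw [hN]
    dsimp only
    rw [Matrix.charpoly_reindex, charpoly_comp (hm j)]
  have hdet : (blockDiagonal' N).det = ∏ a, ρ a := by
    rw [Matrix.det_eq_sign_charpoly_coeff, hch, coeff_zero_eq_eval_zero, eval_prod]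
    simp only [eval_sub, eval_X, eval_C, zero_sub]
    rw [Finset.prod_neg, ← mul_assoc, ← pow_add, Finset.card_univ, ← two_mul, pow_mul, neg_one_sq, one_pow, one_mul]
  refine ⟨blockDiagonal' N, ⟨?_, ?_, ?_⟩, hch, hdet⟩
  · rintro ⟨l, i⟩ ⟨j, m⟩ hb
    by_cases h : l = j
    · subst h
      rw [blockDiagonal'_apply_eq, hNapp, if_neg hb]
      simp
    · rw [blockDiagonal'_apply_ne _ _ _ h, if_neg fun e => h e.1]
  · intro l j
    by_cases h : l = j
    · subst h
      have e : blockDiagonal' N (fst hk l) (lst hk l) = -(φ l).coeff 0 := by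
        rw [fst, lst, blockDiagonal'_apply_eq, hNapp]; exact if_pos (Nat.sub_add_cancel (hk l))
      rw [e]
      have hc : (φ l).coeff 0 = (-1) ^ k l * ∏ i, ρ ⟨l, i⟩ := by
        rw [coeff_zero_eq_eval_zero, hφ]
        dsimp only
        rw [eval_prod]
        simp only [eval_sub, eval_X, eval_C, zero_sub]
        rw [Finset.prod_neg, Finset.card_univ, Fintype.card_fin]
      have h0 : -(φ l).coeff 0 ≠ 0 := by
        rw [hc]
        exact neg_ne_zero.2 (mul_ne_zero (pow_ne_zero _ (neg_ne_zero.2 one_ne_zero))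
          (Finset.prod_ne_zero_iff.2 fun i _ => hne _))
      refine skew_of_psi C h0 (η0 l) ?_
      rw [psi_neg, hc, psi_mul, psi_fixed C (by rw [map_pow, map_neg, map_one])
        (pow_ne_zero _ (neg_ne_zero.2 one_ne_zero)), one_mul, hcls]
      rfl
    · rw [fst, lst, blockDiagonal'_apply_ne _ _ _ h, fst, lst, blockDiagonal'_apply_ne _ _ _ (Ne.symm h)]
      simp
  · rintro ⟨l, i⟩ ⟨j, m⟩ hab hne'
    exact absurd (blockDiagonal'_apply_ne _ _ _ hab) hne'

/-- prescribed eigenvalues, one of them simple -/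
theorem good_of_roots (η0 : ∀ j, η j ≠ 0) (ρ : (Σ j, Fin (k j)) → F) (hne : ∀ a, ρ a ≠ 0)
    (hcls : ∀ j, psi C (∏ i, ρ ⟨j, i⟩) = cls C η j) (hprod : ∏ a, ρ a = 1) (a0 : Σ j, Fin (k j))
    (huniq : ∀ b, b ≠ a0 → ρ b ≠ ρ a0) (hcard : 2 ≤ Fintype.card (Σ j, Fin (k j))) : Attain C k hk η := by
  classical
  obtain ⟨M, hA, hch, hdet⟩ := adm_of_roots (hk := hk) hF η0 ρ hne hcls
  rw [hprod] at hdet
  refine ⟨M, hA, ?_, hdet⟩
  refine kk_simple C hF hcard (by rw [hch]; exact Splits.prod fun a _ => Splits.X_sub_C _) hdet (μ := ρ a0)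
    (p := ∏ a ∈ Finset.univ.erase a0, (X - Polynomial.C (ρ a))) ?_ ?_
  · rw [hch, Finset.prod_erase_mul _ _ (Finset.mem_univ a0)]
  · rw [eval_prod]
    refine Finset.prod_ne_zero_iff.2 fun a ha => ?_
    rw [eval_sub, eval_X, eval_C, sub_ne_zero]
    exact (huniq a (Finset.mem_erase.1 ha).1).symm

/-- roots from functions of the block and the position -/
theorem good_of_val (η0 : ∀ j, η j ≠ 0) (v : J → ℕ → F) (x : J → F) (hne : ∀ j i, v j i ≠ 0)
    (hx : ∀ j, ∏ i ∈ Finset.range (k j), v j i = x j) (hcls : ∀ j, psi C (x j) = cls C η j) (hprod : ∏ j, x j = 1)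
    (j0 : J) (i0 : ℕ) (hi0 : i0 < k j0)
    (huniq : ∀ j i, i < k j → (j ≠ j0 ∨ i ≠ i0) → v j i ≠ v j0 i0)
    (hcard : 2 ≤ ∑ j, k j) : Attain C k hk η := by
  refine good_of_roots hF η0 (fun a => v a.1 a.2) (fun a => hne _ _) (fun j => ?_) ?_ ⟨j0, ⟨i0, hi0⟩⟩ ?_ ?_
  · rw [Fin.prod_univ_eq_prod_range (fun i => v j i), hx]; exact hcls j
  · rw [Fintype.prod_sigma, ← hprod]
    exact Finset.prod_congr rfl fun j _ => (Fin.prod_univ_eq_prod_range (fun i => v j i) (k j)).trans (hx j)
  · rintro ⟨j, i⟩ hb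
    refine huniq j i i.isLt ?_
    by_contra hcon
    simp only [not_or, not_not] at hcon
    obtain ⟨rfl, hi⟩ := hcon
    exact hb (congrArg (Sigma.mk j) (Fin.ext hi))
  · rw [Fintype.card_sigma]; simpa using hcard

/-- one value in each block, padded with ones -/
theorem good_default (η0 : ∀ j, η j ≠ 0) (x : J → F) (hne : ∀ j, x j ≠ 0) (hcls : ∀ j, psi C (x j) = cls C η j)
    (hprod : ∏ j, x j = 1) (j0 : J) (h1 : x j0 ≠ 1) (huniq : ∀ j, j ≠ j0 → x j ≠ x j0) (hcard : 2 ≤ ∑ j, k j) :
    Attain C k hk η := by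
  classical
  refine good_of_val hF η0 (fun j i => if i = 0 then x j else 1) x (fun j i => ?_) (fun j => ?_) hcls hprod j0 0
    (hk j0) (fun j i _ h => ?_) hcard
  · split_ifs
    exacts [hne j, one_ne_zero]
  · rw [Finset.prod_ite_eq', if_pos (Finset.mem_range.2 (hk j))]
  · by_cases hi : i = 0
    · rw [if_pos hi, if_pos rfl]
      exact huniq j (h.resolve_right fun e => e hi)
    · rw [if_neg hi, if_pos rfl]; exact h1.symm

/-- the identity serves for single blocks of trivial class -/
theorem good_ones (η0 : ∀ j, η j ≠ 0) (h1 : ∀ j, k j = 1) (hc : ∀ j, cls C η j = 1) (hcard : 2 ≤ Fintype.card J) :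
    Attain C k hk η := by
  refine ⟨1, ⟨?_, ?_, ?_⟩, kk_one C hF ?_, det_one⟩
  · rintro ⟨l, i⟩ ⟨j, m⟩ hb
    exfalso
    have := m.isLt
    have := h1 j
    dsimp only at hb
    omega
  · intro l j
    have e : ∀ j, lst hk j = fst hk j := fun j => by
      rw [lst, fst]; exact congrArg (Sigma.mk j) (Fin.ext (by have := h1 j; simp only; omega))
    rw [e, e]
    by_cases h : l = j
    · subst h
      rw [Matrix.one_apply_eq]
      refine skew_of_psi C one_ne_zero (η0 l) ?_
      rw [psi_one]; exact (hc l).symm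
    · rw [Matrix.one_apply_ne fun e => h (congrArg Sigma.fst e),
        Matrix.one_apply_ne fun e => h (congrArg Sigma.fst e).symm]
      simp
  · intro a b hab hne
    exact absurd (Matrix.one_apply_ne fun e => hab (congrArg Sigma.fst e)) hne
  · rw [Fintype.card_sigma]; simp [h1]; exact hcard

omit hF

section Split

variable (C)

/-- `Attain` on a part of the blocks -/
def AttainS (k : J → ℕ) (hk : ∀ j, 0 < k j) (η : J → F) (s : Finset J) : Prop :=
  Attain C (fun j : s => k j.1) (fun j => hk _) (fun j : s => η j.1)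

variable {C}

theorem AttainS.union {s t : Finset J} (hd : Disjoint s t) (hs : AttainS C k hk η s) (ht : AttainS C k hk η t) :
    AttainS C k hk η (s ∪ t) := by
  refine Attain.sum (Equiv.Finset.union s t hd) ?_ ?_
  · exact hs
  · exact ht

theorem AttainS.univ (h : AttainS C k hk η Finset.univ) : Attain C k hk η := by
  obtain ⟨M, hA, hK, hd⟩ := h
  let e : {j // j ∈ (Finset.univ : Finset J)} ≃ J := Equiv.subtypeUnivEquiv Finset.mem_univ
  let E : (Σ j : {j // j ∈ (Finset.univ : Finset J)}, Fin (k j.1)) ≃ Σ j, Fin (k j) :=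
    e.sigmaCongrLeft (β := fun j => Fin (k j))
  have happ : ∀ x y, Matrix.reindex E E M (E x) (E y) = M x y := fun x y => by
    simp only [Matrix.reindex_apply, Matrix.submatrix_apply, Equiv.symm_apply_apply]
  refine ⟨Matrix.reindex E E M, ⟨?_, ?_, ?_⟩, KK.sim (sim_reindex E _) hK, by rw [Matrix.det_reindex_self, hd]⟩
  · intro a b hb
    obtain ⟨⟨l, i⟩, rfl⟩ := E.surjective a
    obtain ⟨⟨j, m⟩, rfl⟩ := E.surjective b
    rw [happ, hA.shift _ _ hb]
    show _ = if (l : J) = j ∧ (i : ℕ) = (m : ℕ) + 1 then (1 : F) else 0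
    exact if_congr (and_congr_left' Subtype.ext_iff) rfl rfl
  · intro l j
    have h := hA.skew ⟨l, Finset.mem_univ _⟩ ⟨j, Finset.mem_univ _⟩
    rw [← happ, ← happ (fst _ _)] at h
    exact h
  · intro a b hab hne
    obtain ⟨⟨l, i⟩, rfl⟩ := E.surjective a
    obtain ⟨⟨j, m⟩, rfl⟩ := E.surjective b
    rw [happ] at hne
    exact hA.mix _ _ (fun h => hab (congrArg Subtype.val h)) hne

theorem sum_val (s : Finset J) (f : J → ℕ) : (∑ j : s, f j.1) = ∑ j ∈ s, f j :=
  Finset.sum_coe_sort s f

/-- splitting off a group, keeping a small rest with it -/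
theorem goodS_step (s g : Finset J) (hg : g ⊆ s) (hne : g.Nonempty)
    (hs : ∏ j ∈ s, cls C η j = 1) (hgp : ∏ j ∈ g, cls C η j = 1)
    (hgood : ∀ R : Finset J, Disjoint g R → (∀ j ∈ R, cls C η j = 1 ∧ k j = 1) → R.card ≤ 1 →
      AttainS C k hk η (g ∪ R))
    (ih : ∀ t : Finset J, t.card < s.card → ∏ j ∈ t, cls C η j = 1 → 2 ≤ ∑ j ∈ t, k j → AttainS C k hk η t) :
    AttainS C k hk η s := by
  have hu : g ∪ (s \ g) = s := Finset.union_sdiff_of_subset hg
  have hR : ∏ j ∈ s \ g, cls C η j = 1 := by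
    rw [← Finset.prod_sdiff hg, hgp, mul_one] at hs
    exact hs
  rw [← hu]
  by_cases h2 : 2 ≤ ∑ j ∈ s \ g, k j
  · refine AttainS.union Finset.disjoint_sdiff ?_ (ih _ ?_ hR h2)
    · have := hgood ∅ (Finset.disjoint_empty_right _) (by simp) (by simp)
      rwa [Finset.union_empty] at this
    · exact Finset.card_lt_card (Finset.sdiff_ssubset hg hne)
  · have hc : (s \ g).card ≤ ∑ j ∈ s \ g, k j := by
      rw [Finset.card_eq_sum_ones]; exact Finset.sum_le_sum fun j _ => hk j
    refine hgood _ Finset.disjoint_sdiff (fun j hj => ?_) (by omega)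
    have h1 : (s \ g).card = 1 := le_antisymm (by omega) (Finset.card_pos.2 ⟨j, hj⟩)
    obtain ⟨a, ha⟩ := Finset.card_eq_one.1 h1
    rw [ha, Finset.prod_singleton] at hR
    rw [ha, Finset.sum_singleton] at h2
    rw [ha, Finset.mem_singleton] at hj
    subst hj
    exact ⟨hR, by have := hk j; omega⟩

end Split

include hF

/-- a group given by values, the rest of trivial class -/
theorem good_group (η0 : ∀ j, η j ≠ 0) (g R : Finset J) (hd : Disjoint g R) (hR : ∀ j ∈ R, cls C η j = 1)
    (x : J → F) (hx : ∀ j ∈ g, x j ≠ 0 ∧ psi C (x j) = cls C η j) (hprod : ∏ j ∈ g, x j = 1)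
    (j0 : J) (hj0 : j0 ∈ g) (h1 : x j0 ≠ 1) (huniq : ∀ j ∈ g, j ≠ j0 → x j ≠ x j0) (hg : 2 ≤ g.card) :
    AttainS C k hk η (g ∪ R) := by
  classical
  set y : J → F := fun j => if j ∈ g then x j else 1 with hy
  have hyR : ∀ j ∈ R, y j = 1 := fun j hj => if_neg fun h => Finset.disjoint_left.1 hd h hj
  have hyg : ∀ j ∈ g, y j = x j := fun j hj => if_pos hj
  refine good_default hF (fun j => η0 _) (fun j : (g ∪ R : Finset J) => y j.1) ?_ ?_ ?_
    ⟨j0, Finset.mem_union_left _ hj0⟩ ?_ ?_ ?_
  · rintro ⟨j, hj⟩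
    rcases Finset.mem_union.1 hj with h | h
    · rw [hyg j h]; exact (hx j h).1
    · rw [hyR j h]; exact one_ne_zero
  · rintro ⟨j, hj⟩
    show psi C (y j) = cls C η j
    rcases Finset.mem_union.1 hj with h | h
    · rw [hyg j h]; exact (hx j h).2
    · rw [hyR j h, psi_one, hR j h]
  · rw [Finset.prod_coe_sort (g ∪ R) y, Finset.prod_union hd, Finset.prod_congr rfl hyg, hprod,
      Finset.prod_eq_one hyR, mul_one]
  · show y j0 ≠ 1
    rwa [hyg j0 hj0]
  · rintro ⟨j, hj⟩ hne
    show y j ≠ y j0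
    have hne' : j ≠ j0 := fun e => hne (Subtype.ext e)
    rw [hyg j0 hj0]
    rcases Finset.mem_union.1 hj with h | h
    · rw [hyg j h]; exact huniq j h hne'
    · rw [hyR j h]; exact h1.symm
  · rw [sum_val (g ∪ R) k]
    calc 2 ≤ g.card := hg
      _ = ∑ j ∈ g, 1 := Finset.card_eq_sum_ones g
      _ ≤ ∑ j ∈ g, k j := Finset.sum_le_sum fun j _ => hk j
      _ ≤ _ := Finset.sum_le_sum_of_subset Finset.subset_union_left

/-- trivial classes only -/
theorem good_trivial (η0 : ∀ j, η j ≠ 0) (s : Finset J) (hs : ∀ j ∈ s, cls C η j = 1) (h2 : 2 ≤ ∑ j ∈ s, k j)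
    {u w : F} (hu : u * w = 1) (huw : u ≠ w) (hu1 : u ≠ 1) : AttainS C k hk η s := by
  classical
  by_cases hall : ∀ j ∈ s, k j = 1
  · refine good_ones hF (fun j => η0 _) (fun j => hall _ j.2) (fun j => hs _ j.2) ?_
    rw [Fintype.card_coe]
    rwa [Finset.sum_congr rfl hall, ← Finset.card_eq_sum_ones] at h2
  simp only [not_forall] at hall
  obtain ⟨j1, hj1, hk1⟩ := hall
  have hk2 : 2 ≤ k j1 := by have := hk j1; omega
  let v : J → ℕ → F := fun j i => if j = j1 then (if i = 0 then u else if i = 1 then w else 1) else 1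
  refine good_of_val hF (fun j => η0 _) (fun j : s => v j.1) (fun _ => 1) ?_ ?_ (fun j => ?_) (by simp)
    ⟨j1, hj1⟩ 0 (hk j1) ?_ (by rwa [sum_val])
  · intro j i
    simp only [v]
    split_ifs
    exacts [left_ne_zero_of_mul_eq_one hu, right_ne_zero_of_mul_eq_one hu, one_ne_zero, one_ne_zero]
  · rintro ⟨j, hj⟩
    show ∏ i ∈ Finset.range (k j), v j i = 1
    simp only [v]
    split_ifs with h
    · subst h
      rw [← Finset.prod_subset (show ({0, 1} : Finset ℕ) ⊆ Finset.range (k j) by
        intro i hi; simp at hi; rcases hi with rfl | rfl <;> simp <;> omega) fun i _ hi => by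
          simp at hi; simp [hi.1, hi.2]]
      simp [hu]
    · simp
  · rw [psi_one]; exact (hs _ j.2).symm
  · rintro ⟨j, hj⟩ i hi hne
    show v j i ≠ v j1 0
    simp only [v, if_true]
    split_ifs with h h0 h1
    · exact absurd h0 (hne.resolve_left fun h' => h' (Subtype.ext h))
    · exact huw.symm
    · exact hu1.symm
    · exact hu1.symm

section Two

variable (hq : q = 2)
include hq

theorem cube_two {x : F} (hx : x ≠ 0) : x ^ 3 = 1 := by
  have h := FiniteField.pow_card_sub_one_eq_one x hx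
  rwa [hF, hq] at h

theorem psi_two {x : F} (hx : x ≠ 0) : psi C x = x ^ 2 := by
  have h3 := cube_two hF hq hx
  rw [psi, C.bar_eq, hq, div_eq_iff (pow_ne_zero _ hx)]
  linear_combination -x * h3

theorem two_eq_zero : (2 : F) = 0 := by
  have h := FiniteField.cast_card_eq_zero F
  rw [hF, hq] at h
  have h4 : (2 : F) * 2 = 0 := by push_cast at h; linear_combination h
  rcases mul_eq_zero.1 h4 with h | h <;> exact h

theorem exists_omega : ∃ w : F, w ^ 2 + w + 1 = 0 := by
  have h : (2 : ℕ) < Fintype.card F := by rw [hF, hq]; norm_num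
  classical
  obtain ⟨w, hw⟩ : ∃ w : F, w ∉ ({0, 1} : Finset F) := by
    by_contra hcon
    simp only [not_exists, not_not] at hcon
    have := Finset.card_le_card (fun a _ => hcon a : (Finset.univ : Finset F) ⊆ {0, 1})
    rw [Finset.card_univ] at this
    have := Finset.card_le_two (a := (0 : F)) (b := 1)
    omega
  simp only [Finset.mem_insert, Finset.mem_singleton, not_or] at hw
  refine ⟨w, (mul_eq_zero.1 (?_ : (w - 1) * (w ^ 2 + w + 1) = 0)).resolve_left (sub_ne_zero.2 hw.2)⟩
  linear_combination cube_two hF hq hw.1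

/-- three single blocks of one non-trivial class, coupled -/
theorem good_mix (η0 : ∀ j, η j ≠ 0) (h1 : ∀ j, k j = 1) (a b c : J) (hab : a ≠ b) (hac : a ≠ c) (hbc : b ≠ c)
    (hb' : cls C η b = cls C η a) (hc' : cls C η c = cls C η a) (ha1 : cls C η a ≠ 1)
    (hrest : ∀ j, j ≠ a → j ≠ b → j ≠ c → cls C η j = 1) : Attain C k hk η := by
  classical
  have h2 := two_eq_zero hF hq
  have hψ := fun {x : F} (hx : x ≠ 0) => psi_two (C := C) hF hq hx
  have hinj : ∀ {x y : F}, x ≠ 0 → y ≠ 0 → psi C x = psi C y → x = y := by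
    intro x y hx hy h
    rw [hψ hx, hψ hy] at h
    have hx3 := cube_two hF hq hx
    have hy3 := cube_two hF hq hy
    linear_combination -x * hy3 + y * hx3 - x * y * h
  have eb : η b = η a := hinj (η0 b) (η0 a) (neg_injective hb')
  have ec : η c = η a := hinj (η0 c) (η0 a) (neg_injective hc')
  obtain ⟨w, hw⟩ := exists_omega hF hq
  set e := η a
  have he3 : e ^ 3 = 1 := cube_two hF hq (η0 a)
  have hbw : C.bar w = w ^ 2 := by rw [C.bar_eq, hq]
  let ei : Fin 3 → J := ![a, b, c]
  have hei : Function.Injective ei := by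
    intro i j h
    fin_cases i <;> fin_cases j <;> simp_all [ei]
  let H : Matrix (Fin 3) (Fin 3) F := !![1, 1, 1; 1, 1, w; 1, w ^ 2, 0]
  let T : Matrix (Fin 3) (Fin 3) F := e • H
  -- the index equivalence
  let R := {j : J // ∀ i, ei i ≠ j}
  let ε : Fin 3 ⊕ R ≃ Σ j, Fin (k j) :=
    Equiv.ofBijective (Sum.elim (fun i => fst hk (ei i)) fun j => fst hk j.1) ⟨by
      rintro (i | i) (j | j) h
      · exact congrArg Sum.inl (hei (congrArg Sigma.fst h))
      · exact absurd (congrArg Sigma.fst h) (j.2 i)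
      · exact absurd (congrArg Sigma.fst h).symm (i.2 j)
      · exact congrArg Sum.inr (Subtype.ext (congrArg Sigma.fst h)), by
      rintro ⟨j, m⟩
      have hm : m = ⟨0, hk j⟩ := Fin.ext (by have := m.isLt; have := h1 j; simp only; omega)
      subst hm
      by_cases h : ∃ i, ei i = j
      · obtain ⟨i, rfl⟩ := h
        exact ⟨Sum.inl i, rfl⟩
      · exact ⟨Sum.inr ⟨j, fun i e => h ⟨i, e⟩⟩, rfl⟩⟩
  have hε1 : ∀ i, ε (Sum.inl i) = fst hk (ei i) := fun i => rfl
  have hε2 : ∀ j : R, ε (Sum.inr j) = fst hk j.1 := fun j => rfl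
  have hR1 : ∀ j : R, cls C η j.1 = 1 := fun j =>
    hrest _ (fun h => j.2 0 (by simp [ei, h])) (fun h => j.2 1 (by simp [ei, h])) (fun h => j.2 2 (by simp [ei, h]))
  set M := Matrix.reindex ε ε (fromBlocks T 0 0 (1 : Matrix R R F)) with hM
  have happ : ∀ x y, M (ε x) (ε y) = fromBlocks T 0 0 (1 : Matrix R R F) x y := fun x y => by
    simp only [hM, Matrix.reindex_apply, Matrix.submatrix_apply, Equiv.symm_apply_apply]
  have hlf : ∀ j, lst hk j = fst hk j := fun j => by
    rw [lst, fst]; exact congrArg (Sigma.mk j) (Fin.ext (by have := h1 j; simp only; omega))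
  have hη : ∀ i, η (ei i) = e := fun i => by fin_cases i <;> simp [ei, eb, ec] <;> rfl
  have hcls : ∀ i, cls C η (ei i) = cls C η a := fun i => by fin_cases i <;> simp [ei, hb', hc']
  have hchT : T.charpoly = X ^ 3 - 1 := by
    rw [Matrix.charpoly, Matrix.det_fin_three]
    simp only [T, H, Matrix.charmatrix_apply, Matrix.smul_apply, smul_eq_mul]
    simp only [Matrix.diagonal_apply, Matrix.of_apply, Matrix.cons_val', Matrix.cons_val_fin_one,
      Matrix.cons_val_zero, Matrix.cons_val_one, Matrix.cons_val]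
    simp only [Fin.isValue, ↓reduceIte, mul_one, mul_zero, map_mul, map_pow, map_zero, zero_ne_one, one_ne_zero,
      Fin.reduceEq, sub_zero, zero_sub]
    have hC : (2 : F[X]) = 0 := by rw [← map_ofNat Polynomial.C, h2, map_zero]
    have hw' : Polynomial.C w ^ 2 + Polynomial.C w + 1 = 0 := by rw [← map_pow, ← map_add, ← map_one Polynomial.C, ← map_add, hw, map_zero]
    have he' : Polynomial.C e ^ 3 = 1 := by rw [← map_pow, he3, map_one]
    linear_combination (-Polynomial.C e * X ^ 2) * hC + (-Polynomial.C e ^ 2 * X) * (hw' * (Polynomial.C w - 1)) +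
      (Polynomial.C e ^ 3) * (hw' * (Polynomial.C w - 1)) - he' * (1 + 2) + (Polynomial.C e ^ 3) * hC +
      (-1 - X * Polynomial.C e ^ 2 + 2 * Polynomial.C e ^ 3) * hC - Polynomial.C e ^ 3 * hw'
  refine ⟨M, ⟨?_, ?_, ?_⟩, ?_, ?_⟩
  · rintro ⟨l, i⟩ ⟨j, m⟩ hb
    exfalso
    have := m.isLt
    have := h1 j
    dsimp only at hb
    omega
  · intro l j
    rw [hlf, hlf]
    obtain ⟨x, hx⟩ := ε.surjective (fst hk l)
    obtain ⟨y, hy⟩ := ε.surjective (fst hk j)
    rw [← hx, ← hy, happ, happ]
    rcases x with i | i <;> rcases y with i' | i'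
    · obtain rfl : ei i = l := congrArg Sigma.fst hx
      obtain rfl : ei i' = j := congrArg Sigma.fst hy
      rw [fromBlocks_apply₁₁, fromBlocks_apply₁₁, hη, hη]
      simp only [T, Matrix.smul_apply, smul_eq_mul, mul_div_cancel_left₀ _ (show e ≠ 0 from η0 a)]
      fin_cases i <;> fin_cases i' <;> simp [H, hbw, map_pow] <;>
        first
        | linear_combination h2
        | linear_combination w * (cube_two hF hq (show w ≠ 0 from fun h => by simp [h] at hw)) + w * h2
        | linear_combination w ^ 2 * h2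
    · simp
    · simp
    · obtain rfl : (i : J) = l := congrArg Sigma.fst hx
      obtain rfl : (i' : J) = j := congrArg Sigma.fst hy
      rw [fromBlocks_apply₂₂, fromBlocks_apply₂₂]
      by_cases h : i = i'
      · subst h
        rw [Matrix.one_apply_eq]
        refine skew_of_psi C one_ne_zero (η0 _) ?_
        rw [psi_one]; exact (hR1 i).symm
      · rw [Matrix.one_apply_ne h, Matrix.one_apply_ne (Ne.symm h)]
        simp
  · intro p p' hab hne
    obtain ⟨x, rfl⟩ := ε.surjective p
    obtain ⟨y, rfl⟩ := ε.surjective p'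
    rw [happ] at hne
    rcases x with i | i <;> rcases y with i' | i'
    · rw [hε1, hε1]
      exact ⟨hq, (hcls i).trans (hcls i').symm, fun h => ha1 ((hcls i).symm.trans h)⟩
    · exact absurd rfl hne
    · exact absurd rfl hne
    · rw [fromBlocks_apply₂₂] at hne
      exact absurd (Matrix.one_apply_ne fun e => hab (by rw [hε2, hε2, e])) hne
  · have hcardR : Fintype.card (Σ j, Fin (k j)) = 3 + Fintype.card R := by
      rw [← Fintype.card_congr ε, Fintype.card_sum, Fintype.card_fin]
    have hchM : M.charpoly = (X ^ 3 - 1) * (X - 1) ^ Fintype.card R := by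
      rw [hM, Matrix.charpoly_reindex, Matrix.charpoly_fromBlocks_zero₁₂, hchT, Matrix.charpoly_one]
    have hsplit3 : ((X : F[X]) ^ 3 - 1) = (X - Polynomial.C 1) * (X - Polynomial.C w) * (X - Polynomial.C (w ^ 2)) := by
      have hw' : Polynomial.C w ^ 2 + Polynomial.C w + 1 = 0 := by rw [← map_pow, ← map_add, ← map_one Polynomial.C, ← map_add, hw, map_zero]
      rw [map_one, map_pow]
      linear_combination (X ^ 2 - Polynomial.C w * X + (Polynomial.C w - 1)) * hw'
    have hdet : M.det = 1 := by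
      rw [Matrix.det_eq_sign_charpoly_coeff, hchM, coeff_zero_eq_eval_zero, hcardR]
      simp only [eval_mul, eval_sub, eval_pow, eval_X, eval_one, zero_sub]
      rw [zero_pow (by norm_num : (3 : ℕ) ≠ 0), zero_sub, ← pow_succ', ← pow_add,
        show 3 + Fintype.card R + (Fintype.card R + 1) = 2 * (Fintype.card R + 2) by ring, pow_mul, neg_one_sq, one_pow]
    refine kk_simple C hF (by omega) ?_ hdet (μ := w)
      (p := (X - Polynomial.C 1) * (X - Polynomial.C (w ^ 2)) * (X - 1) ^ Fintype.card R) ?_ ?_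
    · rw [hchM, hsplit3, ← map_one Polynomial.C]
      exact (((Splits.X_sub_C _).mul (Splits.X_sub_C _)).mul (Splits.X_sub_C _)).mul ((Splits.X_sub_C _).pow _)
    · rw [hchM, hsplit3]; ring
    · have hw1 : w - 1 ≠ 0 := by
        intro h0
        rw [sub_eq_zero.1 h0] at hw
        exact one_ne_zero (show (1 : F) = 0 by linear_combination hw - h2)
      simp only [eval_mul, eval_sub, eval_pow, eval_X, eval_one, eval_C]
      refine mul_ne_zero (mul_ne_zero hw1 ?_) (pow_ne_zero _ hw1)
      rw [show w - w ^ 2 = -(w * (w - 1)) by ring]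
      exact neg_ne_zero.2 (mul_ne_zero (fun h0 => by simp [h0] at hw) hw1)
  · have hdetT : T.det = 1 := by
      rw [Matrix.det_eq_sign_charpoly_coeff, hchT]
      simp [coeff_zero_eq_eval_zero]
      ring
    rw [hM, Matrix.det_reindex_self, det_fromBlocks_zero₁₂, hdetT, det_one, one_mul]

/-- three blocks of one non-trivial class with a large member -/
theorem good_triple (η0 : ∀ j, η j ≠ 0) (a b c : J) (hab : a ≠ b) (hac : a ≠ c) (hbc : b ≠ c)
    (hb' : cls C η b = cls C η a) (hc' : cls C η c = cls C η a) (ha1 : cls C η a ≠ 1)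
    (hrest : ∀ j, j ≠ a → j ≠ b → j ≠ c → cls C η j = 1 ∧ k j = 1)
    (hone : ∀ j j', j ≠ a → j ≠ b → j ≠ c → j' ≠ a → j' ≠ b → j' ≠ c → j = j') : Attain C k hk η := by
  classical
  by_cases hall : ∀ j, k j = 1
  · exact good_mix hF hq η0 hall a b c hab hac hbc hb' hc' ha1 fun j h1 h2 h3 => (hrest j h1 h2 h3).1
  simp only [not_forall] at hall
  obtain ⟨j1, hj1⟩ := hall
  have hk2 : 2 ≤ k j1 := by have := hk j1; omega
  set x := cls C η a ^ 2 with hxdef
  have hcn := cls_norm (C := C) η0 a
  have hc0 : cls C η a ≠ 0 := left_ne_zero_of_mul_eq_one hcn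
  have hc3 := cube_two hF hq hc0
  have hx0 : x ≠ 0 := pow_ne_zero _ hc0
  have hx3 := cube_two hF hq hx0
  have hx1 : x ≠ 1 := fun h => ha1 (by rw [hxdef] at h; linear_combination -(cls C η a) * h + hc3)
  have hxx : x ^ 2 ≠ x := fun h => hx1 (mul_left_cancel₀ hx0 (by rw [mul_one, ← pow_two]; exact h))
  have hx21 : x ^ 2 ≠ 1 := fun h => hx1 (by linear_combination -x * h + hx3)
  have hψx : psi C x = cls C η a := by
    rw [psi_two hF hq hx0, hxdef]; linear_combination (cls C η a) * hc3
  have hT : ∀ j, cls C η j ≠ 1 → (j = a ∨ j = b ∨ j = c) := fun j hj => by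
    by_contra h
    simp only [not_or] at h
    exact hj (hrest j h.1 h.2.1 h.2.2).1
  have hcl : ∀ j, (j = a ∨ j = b ∨ j = c) → cls C η j = cls C η a := by
    rintro j (rfl | rfl | rfl)
    exacts [rfl, hb', hc']
  set y : J → F := fun j => if (j = a ∨ j = b ∨ j = c) then x else 1 with hy
  have hyc : ∀ j, psi C (y j) = cls C η j := fun j => by
    simp only [hy]
    split_ifs with h
    · rw [hψx, hcl j h]
    · simp only [not_or] at h
      rw [psi_one, (hrest j h.1 h.2.1 h.2.2).1]
  have hyp : ∏ j, y j = 1 := by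
    rw [← Finset.prod_subset (Finset.subset_univ ({a, b, c} : Finset J)) fun j _ hj => by
      simp at hj; simp [hy, hj.1, hj.2.1, hj.2.2]]
    rw [Finset.prod_insert (by simp [hab, hac]), Finset.prod_pair hbc]
    simp [hy]
    linear_combination hx3
  have hcard : 2 ≤ ∑ j, k j := hk2.trans (Finset.single_le_sum (fun j _ => Nat.zero_le _) (Finset.mem_univ j1))
  by_cases h3 : ∃ j, 3 ≤ k j
  · obtain ⟨j0, hj0⟩ := h3
    have hj0T : j0 = a ∨ j0 = b ∨ j0 = c := by
      by_contra h
      simp only [not_or] at h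
      have := (hrest j0 h.1 h.2.1 h.2.2).2
      omega
    let v : J → ℕ → F := fun j i =>
      if j = j0 then (if i = 0 then x else if i = 1 then x else if i = 2 then x ^ 2 else 1)
      else (if i = 0 then y j else 1)
    refine good_of_val hF η0 v y ?_ ?_ hyc hyp j0 2 (by omega) ?_ hcard
    · intro j i
      simp only [v, hy]
      split_ifs <;> first | exact hx0 | exact one_ne_zero | exact pow_ne_zero _ hx0
    · intro j
      simp only [v]
      split_ifs with h
      · subst h
        rw [← Finset.prod_subset (show ({0, 1, 2} : Finset ℕ) ⊆ Finset.range (k j) by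
          intro i hi; simp at hi; rcases hi with rfl | rfl | rfl <;> simp <;> omega) fun i _ hi => by
            simp at hi; simp [hi.1, hi.2.1, hi.2.2]]
        simp [hy, hj0T]
        linear_combination x * hx3
      · rw [Finset.prod_ite_eq', if_pos (Finset.mem_range.2 (hk j))]
    · intro j i _ hne
      have e : v j0 2 = x ^ 2 := by simp [v]
      rw [e]
      simp only [v, hy]
      split_ifs with h h0 h1 h2' <;>
        first
        | exact hxx.symm
        | exact hx21.symm
        | exact absurd h2' (hne.resolve_left fun h' => h' h)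
  simp only [not_exists, not_le] at h3
  have hj1T : j1 = a ∨ j1 = b ∨ j1 = c := by
    by_contra h
    simp only [not_or] at h
    exact hj1 (hrest j1 h.1 h.2.1 h.2.2).2
  by_cases hext : ∃ j, j ≠ a ∧ j ≠ b ∧ j ≠ c
  · obtain ⟨j0, hj0a, hj0b, hj0c⟩ := hext
    let v : J → ℕ → F := fun j i =>
      if k j = 1 then (if i = 0 then y j else 1) else (if i < 2 then x ^ 2 else 1)
    refine good_of_val hF η0 v y ?_ ?_ hyc hyp j0 0 (hk j0) ?_ hcard
    · intro j i
      simp only [v, hy]
      split_ifs <;> first | exact hx0 | exact one_ne_zero | exact pow_ne_zero _ hx0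
    · intro j
      simp only [v]
      split_ifs with h
      · rw [h]; simp
      · have hk' : k j = 2 := by have := hk j; have := h3 j; omega
        have hjT : j = a ∨ j = b ∨ j = c := by
          by_contra hh
          simp only [not_or] at hh
          exact h (hrest j hh.1 hh.2.1 hh.2.2).2
        rw [hk']
        simp [Finset.prod_range_succ, hy, hjT]
        linear_combination x * hx3
    · intro j i hi hne
      have e : v j0 0 = 1 := by simp [v, (hrest j0 hj0a hj0b hj0c).2, hy, hj0a, hj0b, hj0c]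
      rw [e]
      simp only [v, hy]
      split_ifs with h h0 hjT h2' <;>
        first
        | exact hx1
        | exact hx21
        | (exfalso; simp only [not_or] at hjT
           exact (hne.resolve_right fun e' => e' h0) (hone j j0 hjT.1 hjT.2.1 hjT.2.2 hj0a hj0b hj0c))
        | (exfalso; have := h3 j; omega)
  · let v : J → ℕ → F := fun j i =>
      if j = j1 then (if i = 0 then x else 1) else
        if k j = 1 then (if i = 0 then y j else 1) else (if i < 2 then x ^ 2 else 1)
    have hallT : ∀ j, j = a ∨ j = b ∨ j = c := fun j => by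
      by_contra h
      simp only [not_or] at h
      exact hext ⟨j, h⟩
    refine good_of_val hF η0 v y ?_ ?_ hyc hyp j1 1 (by omega) ?_ hcard
    · intro j i
      simp only [v, hy]
      split_ifs <;> first | exact hx0 | exact one_ne_zero | exact pow_ne_zero _ hx0
    · intro j
      simp only [v, hy, hallT j, if_true]
      split_ifs with h h'
      · rw [Finset.prod_ite_eq', if_pos (Finset.mem_range.2 (hk j))]
      · rw [h']; simp
      · have hk' : k j = 2 := by have := hk j; have := h3 j; omega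
        rw [hk']
        simp [Finset.prod_range_succ]
        linear_combination x * hx3
    · intro j i hi hne
      have e : v j1 1 = 1 := by simp [v]
      rw [e]
      simp only [v, hy, hallT j, if_true]
      split_ifs with h h0 h' h0' h2' <;>
        first
        | exact hx1
        | exact hx21
        | (exfalso; have := h3 j; have := hne.resolve_left (fun h'' => h'' h); omega)
        | (exfalso; have := h3 j; omega)

theorem good_two (η0 : ∀ j, η j ≠ 0) (s : Finset J) (hs : ∏ j ∈ s, cls C η j = 1) (h2 : 2 ≤ ∑ j ∈ s, k j) :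
    AttainS C k hk η s := by
  classical
  induction hn : s.card using Nat.strong_induction_on generalizing s with
  | _ N ih =>
  have ih' : ∀ t : Finset J, t.card < s.card → ∏ j ∈ t, cls C η j = 1 → 2 ≤ ∑ j ∈ t, k j → AttainS C k hk η t :=
    fun t ht h1 h2' => ih _ (hn ▸ ht) t h1 h2' rfl
  have hc0 : ∀ j, cls C η j ≠ 0 := fun j => left_ne_zero_of_mul_eq_one (cls_norm (C := C) η0 j)
  have hc3 : ∀ j, cls C η j ^ 3 = 1 := fun j => cube_two hF hq (hc0 j)
  by_cases hpair : ∃ a ∈ s, ∃ b ∈ s, cls C η a ≠ 1 ∧ cls C η b ≠ 1 ∧ cls C η a ≠ cls C η b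
  · obtain ⟨a, ha, b, hb, ha1, hb1, hab⟩ := hpair
    have hne : a ≠ b := fun e => hab (congrArg _ e)
    have hb2 : cls C η b = cls C η a ^ 2 := by
      have qa : cls C η a ^ 2 + cls C η a + 1 = 0 := (mul_eq_zero.1 (show (cls C η a - 1) * _ = 0 by
        linear_combination hc3 a)).resolve_left (sub_ne_zero.2 ha1)
      have qb : cls C η b ^ 2 + cls C η b + 1 = 0 := (mul_eq_zero.1 (show (cls C η b - 1) * _ = 0 by
        linear_combination hc3 b)).resolve_left (sub_ne_zero.2 hb1)
      have h4 : cls C η b + cls C η a + 1 = 0 := (mul_eq_zero.1 (show (cls C η b - cls C η a) * _ = 0 by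
        linear_combination qb - qa)).resolve_left (sub_ne_zero.2 hab.symm)
      linear_combination h4 - qa
    refine goodS_step s {a, b} (by simp [Finset.insert_subset_iff, ha, hb]) ⟨a, by simp⟩ hs ?_ ?_ ih'
    · rw [Finset.prod_pair hne, hb2]; linear_combination hc3 a
    · intro R hd hR _
      refine good_group hF η0 {a, b} R hd (fun j hj => (hR j hj).1) (fun j => cls C η j ^ 2) (fun j _ => ?_) ?_ a
        (by simp) ?_ (fun j hj hja => ?_) (by rw [Finset.card_pair hne])
      · refine ⟨pow_ne_zero _ (hc0 j), ?_⟩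
        rw [psi_two hF hq (pow_ne_zero _ (hc0 j))]; linear_combination (cls C η j) * hc3 j
      · rw [Finset.prod_pair hne, hb2]
        linear_combination (cls C η a ^ 3 + 1) * hc3 a
      · intro h; exact ha1 (by linear_combination -(cls C η a) * h + hc3 a)
      · obtain rfl : j = b := by simpa [hja] using hj
        intro h
        apply hab
        rw [hb2] at h ⊢
        linear_combination h - cls C η a * hc3 a
  simp only [not_exists, not_and] at hpair
  have hsame : ∀ a ∈ s, ∀ b ∈ s, cls C η a ≠ 1 → cls C η b ≠ 1 → cls C η a = cls C η b := fun a ha b hb h1 h2' =>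
    not_not.1 (hpair a ha b hb h1 h2')
  set T := s.filter fun j => cls C η j ≠ 1 with hT
  obtain ⟨w, hw⟩ := exists_omega hF hq
  have hw0 : w ≠ 0 := fun h => by simp [h] at hw
  have hw1 : w ≠ 1 := fun h => by
    rw [h] at hw
    exact one_ne_zero (show (1 : F) = 0 by linear_combination hw - two_eq_zero hF hq)
  rcases T.eq_empty_or_nonempty with hT0 | ⟨a, haT⟩
  · refine good_trivial hF η0 s (fun j hj => ?_) h2 (u := w) (w := w ^ 2) ?_ ?_ hw1
    · by_contra h
      exact Finset.notMem_empty j (hT0 ▸ Finset.mem_filter.2 ⟨hj, h⟩)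
    · linear_combination (w - 1) * hw
    · intro h
      exact hw1 (mul_left_cancel₀ hw0 (by rw [mul_one, ← pow_two]; exact h.symm))
  obtain ⟨has, ha1⟩ := Finset.mem_filter.1 haT
  have hTc : ∀ j ∈ T, cls C η j = cls C η a := fun j hj =>
    hsame j (Finset.mem_filter.1 hj).1 a has (Finset.mem_filter.1 hj).2 ha1
  have hTp : cls C η a ^ T.card = 1 := by
    rw [← Finset.prod_const, ← Finset.prod_congr rfl hTc, ← hs]
    exact Finset.prod_filter_ne_one s
  have h3T : 3 ≤ T.card := by
    have hpos : 0 < T.card := Finset.card_pos.2 ⟨a, haT⟩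
    by_contra hlt
    rcases (by omega : T.card = 1 ∨ T.card = 2) with h | h <;> rw [h] at hTp
    · exact ha1 (by simpa using hTp)
    · exact ha1 (by linear_combination -(cls C η a) * hTp + hc3 a)
  obtain ⟨g, hgT, hg3⟩ := Finset.exists_subset_card_eq h3T
  obtain ⟨x, y, z, hxy, hxz, hyz, rfl⟩ := Finset.card_eq_three.1 hg3
  have hgs : ({x, y, z} : Finset J) ⊆ s := hgT.trans (Finset.filter_subset _ _)
  have hxT : x ∈ T := hgT (by simp)
  refine goodS_step s _ hgs ⟨x, by simp⟩ hs ?_ ?_ ih'
  · rw [Finset.prod_congr rfl fun j hj => hTc j (hgT hj), Finset.prod_const, hg3, hc3]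
  · intro R hd hR hR1
    refine good_triple hF hq (fun j => η0 _) ⟨x, by simp⟩ ⟨y, by simp⟩ ⟨z, by simp⟩ (fun e => hxy (congrArg Subtype.val e))
      (fun e => hxz (congrArg Subtype.val e)) (fun e => hyz (congrArg Subtype.val e)) ?_ ?_ ?_ ?_ ?_
    · exact (hTc y (hgT (by simp))).trans (hTc x hxT).symm
    · exact (hTc z (hgT (by simp))).trans (hTc x hxT).symm
    · exact (Finset.mem_filter.1 hxT).2
    · rintro ⟨j, hj⟩ h1 h2' h3'
      simp only [Ne, Subtype.mk.injEq] at h1 h2' h3'
      exact hR j ((Finset.mem_union.1 hj).resolve_left (by simp [h1, h2', h3']))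
    · rintro ⟨j, hj⟩ ⟨j', hj'⟩ h1 h2' h3' h4 h5 h6
      simp only [Ne, Subtype.mk.injEq] at h1 h2' h3' h4 h5 h6
      exact Subtype.ext (Finset.card_le_one.1 hR1 j ((Finset.mem_union.1 hj).resolve_left (by simp [h1, h2', h3']))
        j' ((Finset.mem_union.1 hj').resolve_left (by simp [h4, h5, h6])))

end Two

section Three

variable (hq : q = 3)
include hq

theorem three_eq_zero : (3 : F) = 0 := by
  have h := FiniteField.cast_card_eq_zero F
  rw [hF, hq] at h
  have h4 : (3 : F) * 3 = 0 := by push_cast at h; linear_combination h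
  rcases mul_eq_zero.1 h4 with h | h <;> exact h

theorem psi_three {x : F} (hx : x ≠ 0) : psi C x = x⁻¹ ^ 2 := by
  rw [psi, C.bar_eq, hq, inv_pow]
  field_simp

theorem exists_i (C : UCtx F q) : ∃ i : F, i ^ 2 = -1 := by
  obtain ⟨x, hx⟩ := C.exists_norm (c := (-1 : F)) (by rw [map_neg, map_one])
  rw [C.bar_eq, hq] at hx
  exact ⟨x ^ 2, by linear_combination hx⟩

theorem one_ne_neg_one : (1 : F) ≠ -1 := fun h =>
  one_ne_zero (show (1 : F) = 0 by linear_combination three_eq_zero hF hq - h)

theorem good_three (η0 : ∀ j, η j ≠ 0) (s : Finset J) (hs : ∏ j ∈ s, cls C η j = 1) (h2 : 2 ≤ ∑ j ∈ s, k j) :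
    AttainS C k hk η s := by
  classical
  induction hn : s.card using Nat.strong_induction_on generalizing s with
  | _ N ih =>
  have ih' : ∀ t : Finset J, t.card < s.card → ∏ j ∈ t, cls C η j = 1 → 2 ≤ ∑ j ∈ t, k j → AttainS C k hk η t :=
    fun t ht h1 h2' => ih _ (hn ▸ ht) t h1 h2' rfl
  have hc0 : ∀ j, cls C η j ≠ 0 := fun j => left_ne_zero_of_mul_eq_one (cls_norm (C := C) η0 j)
  have hc4 : ∀ j, cls C η j ^ 4 = 1 := fun j => by
    have h := cls_norm (C := C) η0 j
    rw [C.bar_eq] at h
    linear_combination h - (cls C η j) * congrArg (cls C η j ^ ·) hq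
  have h1ne := one_ne_neg_one hF hq
  obtain ⟨i, hi⟩ := exists_i hF hq C
  have hi0 : i ≠ 0 := fun h => by simp [h] at hi
  have hi1 : i ≠ 1 := fun h => h1ne (by rw [h, one_pow] at hi; exact hi)
  have hii : i ≠ -i := fun h => hi0 (by
    have h2' : (2 : F) * i = 0 := by linear_combination h
    exact (mul_eq_zero.1 h2').resolve_left fun h0 => h1ne (by linear_combination h0))
  -- two blocks of class minus one
  by_cases hA : ∃ a ∈ s, ∃ b ∈ s, a ≠ b ∧ cls C η a = -1 ∧ cls C η b = -1
  · obtain ⟨a, ha, b, hb, hne, hca, hcb⟩ := hA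
    refine goodS_step s {a, b} (by simp [Finset.insert_subset_iff, ha, hb]) ⟨a, by simp⟩ hs ?_ ?_ ih'
    · rw [Finset.prod_pair hne, hca, hcb]; ring
    · intro R hd hR _
      refine good_group hF η0 {a, b} R hd (fun j hj => (hR j hj).1) (fun j => if j = a then i else -i)
        (fun j hj => ?_) ?_ a (by simp) (by simp [hi1]) (fun j hj hja => ?_) (by rw [Finset.card_pair hne])
      · have e : ∀ y : F, y ^ 2 = -1 → y ≠ 0 ∧ psi C y = -1 := fun y hy => by
          have hy0 : y ≠ 0 := fun h => by simp [h] at hy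
          exact ⟨hy0, by rw [psi_three hF hq hy0, inv_pow, hy, inv_neg, inv_one]⟩
        simp at hj
        split_ifs with h
        · subst h; rw [hca]; exact e i hi
        · obtain rfl : j = b := hj.resolve_left h
          rw [hcb]; exact e (-i) (by linear_combination hi)
      · rw [Finset.prod_pair hne, if_pos rfl, if_neg hne.symm]; linear_combination -hi
      · simp only [if_neg hja, if_true]; exact hii.symm
  simp only [not_exists, not_and] at hA
  -- opposite classes of order four
  by_cases hB : ∃ a ∈ s, ∃ b ∈ s, cls C η a ^ 2 = -1 ∧ cls C η a * cls C η b = 1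
  · obtain ⟨a, ha, b, hb, hca, hab⟩ := hB
    have hne : a ≠ b := by
      rintro rfl
      exact h1ne (by linear_combination hca - hab)
    obtain ⟨x, hx0, hx⟩ := exists_psi C (cls_norm (C := C) η0 a)
    have hx2 : x ^ 2 * cls C η a = 1 := by
      rw [← hx, psi_three hF hq hx0, inv_pow, mul_inv_cancel₀ (pow_ne_zero _ hx0)]
    have hx1 : x ≠ 1 := fun h => h1ne (by
      rw [h, one_pow, one_mul] at hx2; rw [← hca, hx2, one_pow])
    refine goodS_step s {a, b} (by simp [Finset.insert_subset_iff, ha, hb]) ⟨a, by simp⟩ hs ?_ ?_ ih'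
    · rw [Finset.prod_pair hne, hab]
    · intro R hd hR _
      refine good_group hF η0 {a, b} R hd (fun j hj => (hR j hj).1) (fun j => if j = a then x else x⁻¹)
        (fun j hj => ?_) ?_ a (by simp) (by simp [hx1]) (fun j hj hja => ?_) (by rw [Finset.card_pair hne])
      · simp at hj
        split_ifs with h
        · subst h; exact ⟨hx0, hx⟩
        · obtain rfl : j = b := hj.resolve_left h
          exact ⟨inv_ne_zero hx0, by rw [psi_inv, hx]; exact inv_eq_of_mul_eq_one_right hab⟩
      · rw [Finset.prod_pair hne, if_pos rfl, if_neg hne.symm, mul_inv_cancel₀ hx0]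
      · simp only [if_neg hja, if_true]
        intro h
        refine h1ne ?_
        have hxx : x * x = 1 := by nth_rewrite 1 [← h]; exact inv_mul_cancel₀ hx0
        rw [pow_two, hxx, one_mul] at hx2
        rw [← hca, hx2, one_pow]
  simp only [not_exists, not_and] at hB
  set T := s.filter fun j => cls C η j ^ 2 = -1 with hT
  set U := s.filter fun j => cls C η j = -1 with hU
  have hU1 : U.card ≤ 1 := Finset.card_le_one.2 fun a ha b hb => by
    obtain ⟨ha', hca⟩ := Finset.mem_filter.1 ha
    obtain ⟨hb', hcb⟩ := Finset.mem_filter.1 hb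
    by_contra hne
    exact hA a ha' b hb' hne hca hcb
  have hclass : ∀ j ∈ s, j ∉ T → j ∉ U → cls C η j = 1 := fun j hj hjT hjU => by
    have h1' : (cls C η j ^ 2 - 1) * (cls C η j ^ 2 + 1) = 0 := by linear_combination hc4 j
    rcases mul_eq_zero.1 h1' with h | h
    · have h' : (cls C η j - 1) * (cls C η j + 1) = 0 := by linear_combination h
      exact sub_eq_zero.1 ((mul_eq_zero.1 h').resolve_right fun h0 =>
        hjU (Finset.mem_filter.2 ⟨hj, eq_neg_of_add_eq_zero_left h0⟩))
    · exact absurd (Finset.mem_filter.2 ⟨hj, eq_neg_of_add_eq_zero_left h⟩) hjT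
  have hdTU : Disjoint T U := Finset.disjoint_left.2 fun j h1' h2' => by
    have e1 := (Finset.mem_filter.1 h1').2
    rw [(Finset.mem_filter.1 h2').2] at e1
    exact h1ne (by linear_combination e1)
  have hsTU : (∏ j ∈ T, cls C η j) * ∏ j ∈ U, cls C η j = 1 := by
    rw [← Finset.prod_union hdTU, ← hs]
    refine Finset.prod_subset (Finset.union_subset (Finset.filter_subset _ _) (Finset.filter_subset _ _))
      fun j hj hj' => ?_
    rw [Finset.mem_union, not_or] at hj'
    exact hclass j hj hj'.1 hj'.2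
  rcases T.eq_empty_or_nonempty with hT0 | ⟨a, haT⟩
  · rw [hT0, Finset.prod_empty, one_mul] at hsTU
    have hU0 : U = ∅ := by
      rcases Nat.le_one_iff_eq_zero_or_eq_one.1 hU1 with h | h
      · exact Finset.card_eq_zero.1 h
      · obtain ⟨b, hb⟩ := Finset.card_eq_one.1 h
        rw [hb, Finset.prod_singleton, (Finset.mem_filter.1 (hb ▸ Finset.mem_singleton_self b : b ∈ U)).2] at hsTU
        exact absurd hsTU.symm h1ne
    refine good_trivial hF η0 s (fun j hj => hclass j hj (by simp [hT0]) (by simp [hU0])) h2 (u := i) (w := -i)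
      (by linear_combination -hi) hii hi1
  obtain ⟨has, hca⟩ := Finset.mem_filter.1 haT
  have hTc : ∀ j ∈ T, cls C η j = cls C η a := fun j hj => by
    obtain ⟨hjs, hcj⟩ := Finset.mem_filter.1 hj
    have h1' : (cls C η j - cls C η a) * (cls C η j + cls C η a) = 0 := by linear_combination hcj - hca
    refine sub_eq_zero.1 ((mul_eq_zero.1 h1').resolve_right fun h0 => hB a has j hjs hca ?_)
    linear_combination (cls C η a) * h0 - hca
  rw [Finset.prod_congr rfl hTc, Finset.prod_const] at hsTU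
  obtain ⟨x, hx0, hx⟩ := exists_psi C (cls_norm (C := C) η0 a)
  have hx2 : x ^ 2 * cls C η a = 1 := by
    rw [← hx, psi_three hF hq hx0, inv_pow, mul_inv_cancel₀ (pow_ne_zero _ hx0)]
  have hx4 : x ^ 4 = -1 := by
    linear_combination (x ^ 2 * cls C η a + 1) * hx2 * (-1) + x ^ 4 * hca
  rcases U.eq_empty_or_nonempty with hU0 | ⟨b, hbU⟩
  · -- four of one class
    rw [hU0, Finset.prod_empty, mul_one] at hsTU
    have h4T : 4 ≤ T.card := by
      have hpos : 0 < T.card := Finset.card_pos.2 ⟨a, haT⟩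
      by_contra hlt
      rcases (by omega : T.card = 1 ∨ T.card = 2 ∨ T.card = 3) with h | h | h <;> rw [h] at hsTU
      · exact h1ne (by linear_combination hca - (cls C η a + 1) * hsTU)
      · exact h1ne (by linear_combination hca - hsTU)
      · exact h1ne (by linear_combination hca - (cls C η a + 1) * (cls C η a * hsTU * (-1) + hc4 a))
    obtain ⟨g, hgT, hg4⟩ := Finset.exists_subset_card_eq h4T
    obtain ⟨d, hd⟩ : g.Nonempty := Finset.card_pos.1 (by omega)
    refine goodS_step s g (hgT.trans (Finset.filter_subset _ _)) ⟨d, hd⟩ hs ?_ ?_ ih'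
    · rw [Finset.prod_congr rfl fun j hj => hTc j (hgT hj), Finset.prod_const, hg4, hc4]
    · intro R hdR hR _
      refine good_group hF η0 g R hdR (fun j hj => (hR j hj).1) (fun j => if j = d then (x ^ 3)⁻¹ else x)
        (fun j hj => ?_) ?_ d hd ?_ (fun j hj hjd => ?_) (by omega)
      · rw [hTc j (hgT hj)]
        split_ifs
        · refine ⟨inv_ne_zero (pow_ne_zero _ hx0), ?_⟩
          rw [psi_inv, show x ^ 3 = x * x * x by ring, psi_mul, psi_mul, hx]
          refine inv_eq_of_mul_eq_one_right ?_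
          linear_combination hc4 a
        · exact ⟨hx0, hx⟩
      · rw [← Finset.mul_prod_erase g _ hd, if_pos rfl, Finset.prod_congr rfl fun j hj =>
          if_neg (Finset.mem_erase.1 hj).1, Finset.prod_const, Finset.card_erase_of_mem hd, hg4,
          inv_mul_cancel₀ (pow_ne_zero _ hx0)]
      · intro h
        rw [if_pos rfl, inv_eq_one] at h
        rw [show x ^ 4 = x * x ^ 3 by ring, h, mul_one] at hx4
        rw [hx4] at h
        exact h1ne (by linear_combination -h)
      · rw [if_neg hjd, if_pos rfl]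
        intro h
        refine h1ne ?_
        have h' : x * x ^ 3 = 1 := (mul_eq_one_iff_eq_inv₀ (pow_ne_zero 3 hx0)).2 h
        linear_combination hx4 - h'
  · -- a pair and minus one
    have hcb := (Finset.mem_filter.1 hbU).2
    have hUs : U = {b} := Finset.eq_singleton_iff_unique_mem.2 ⟨hbU, fun y hy => Finset.card_le_one.1 hU1 y hy b hbU⟩
    rw [hUs, Finset.prod_singleton, hcb] at hsTU
    have h2T : 2 ≤ T.card := by
      have hpos : 0 < T.card := Finset.card_pos.2 ⟨a, haT⟩
      by_contra hlt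
      rw [(by omega : T.card = 1), pow_one] at hsTU
      exact h1ne (by linear_combination hca + (cls C η a - 1) * hsTU)
    obtain ⟨g, hgT, hg2⟩ := Finset.exists_subset_card_eq h2T
    obtain ⟨y, z, hyz, rfl⟩ := Finset.card_eq_two.1 hg2
    have hby : b ≠ y := fun e => Finset.disjoint_left.1 hdTU (hgT (by simp : y ∈ ({y, z} : Finset J))) (e ▸ hbU)
    have hbz : b ≠ z := fun e => Finset.disjoint_left.1 hdTU (hgT (by simp : z ∈ ({y, z} : Finset J))) (e ▸ hbU)
    refine goodS_step s {b, y, z} ?_ ⟨b, by simp⟩ hs ?_ ?_ ih'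
    · intro j hj
      rcases Finset.mem_insert.1 hj with rfl | hj
      · exact (Finset.mem_filter.1 hbU).1
      · exact (Finset.mem_filter.1 (hgT hj)).1
    · rw [Finset.prod_insert (by simp [hby, hbz]), Finset.prod_pair hyz, hTc y (hgT (by simp)),
        hTc z (hgT (by simp)), hcb]
      linear_combination -hca
    · intro R hdR hR _
      have hxne : (x ^ 2)⁻¹ = cls C η a := inv_eq_of_mul_eq_one_right hx2
      refine good_group hF η0 {b, y, z} R hdR (fun j hj => (hR j hj).1) (fun j => if j = b then cls C η a else x)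
        (fun j hj => ?_) ?_ b (by simp) ?_ (fun j hj hjb => ?_) (by rw [Finset.card_insert_of_notMem (by simp [hby, hbz])]; omega)
      · split_ifs with h
        · subst h
          refine ⟨hc0 a, ?_⟩
          rw [← hxne, psi_inv, pow_two, psi_mul, hx, hcb, ← pow_two, hca, inv_neg, inv_one]
        · simp [h] at hj
          rw [hTc j (hgT (by simpa using hj))]
          exact ⟨hx0, hx⟩
      · rw [Finset.prod_insert (by simp [hby, hbz]), Finset.prod_pair hyz, if_pos rfl, if_neg hby.symm,
          if_neg hbz.symm]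
        linear_combination hx2
      · rw [if_pos rfl]
        intro h
        rw [h, one_pow] at hca
        exact h1ne hca
      · rw [if_neg hjb, if_pos rfl]
        intro h
        rw [← h] at hx2 hca
        exact h1ne (by linear_combination hx4 - (x ^ 2 - 1) * hca)

end Three

/-- a fixed scalar of square different from one -/
theorem exists_fixed_sq (C : UCtx F q) (hq : 4 ≤ q) : ∃ t : F, t ≠ 0 ∧ t ^ 2 ≠ 1 ∧ C.bar t = t := by
  classical
  let K : Subfield F := CfsgLib.Descent.fixedField C.bar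
  have hK : Fintype.card K = q := by
    have h := CfsgLib.Descent.card_fixedField_pow C.bar
    rw [C.order_two, Nat.card_eq_fintype_card, hF] at h
    exact Nat.pow_left_injective two_ne_zero h
  obtain ⟨t, ht⟩ : ∃ t : K, t ∉ ({0, 1, -1} : Finset K) := by
    by_contra hcon
    simp only [not_exists, not_not] at hcon
    have := Finset.card_le_card (fun a _ => hcon a : (Finset.univ : Finset K) ⊆ {0, 1, -1})
    rw [Finset.card_univ, hK] at this
    have := Finset.card_le_three (a := (0 : K)) (b := 1) (c := -1)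
    omega
  simp only [Finset.mem_insert, Finset.mem_singleton, not_or] at ht
  refine ⟨t.1, fun h => ht.1 (Subtype.ext h), fun h => ?_, t.2⟩
  rcases mul_self_eq_one_iff.1 (show t.1 * t.1 = 1 by rw [← pow_two]; exact h) with h | h
  · exact ht.2.1 (Subtype.ext h)
  · exact ht.2.2 (Subtype.ext h)

/-- larger fields: one group -/
theorem good_large (hq : 4 ≤ q) (η0 : ∀ j, η j ≠ 0) (hs : ∏ j, cls C η j = 1) (h2 : 2 ≤ ∑ j, k j) :
    Attain C k hk η := by
  classical
  obtain ⟨t, ht0, ht2, htfix⟩ := exists_fixed_sq hF C hq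
  choose rep hrep0 hrep using fun c : {c : F // c * C.bar c = 1} => exists_psi C c.2
  set sc : (Σ j, Fin (k j)) → F := fun a => if (a.2 : ℕ) = 0 then cls C η a.1 else 1 with hsc
  have hscn : ∀ a, sc a * C.bar (sc a) = 1 := fun a => by
    simp only [hsc]
    split_ifs
    · exact cls_norm η0 _
    · rw [map_one, mul_one]
  have hscj : ∀ j, ∏ i : Fin (k j), sc ⟨j, i⟩ = cls C η j := fun j => by
    simp only [hsc]
    rw [Finset.prod_eq_single (⟨0, hk j⟩ : Fin (k j))]
    · simp
    · intro i _ hi; exact if_neg fun h => hi (Fin.ext h)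
    · simp
  have hsc1 : ∏ a, sc a = 1 := by rw [Fintype.prod_sigma, Finset.prod_congr rfl fun j _ => hscj j, hs]
  have hcard : 2 ≤ Fintype.card (Σ j, Fin (k j)) := by rw [Fintype.card_sigma]; simpa using h2
  obtain ⟨d⟩ : Nonempty (Σ j, Fin (k j)) := Fintype.card_pos_iff.1 (by omega)
  set v0 : (Σ j, Fin (k j)) → F := fun a => rep ⟨sc a, hscn a⟩ with hv0
  have hv0ne : ∀ a, v0 a ≠ 0 := fun a => hrep0 _
  set P := ∏ a ∈ Finset.univ.erase d, v0 a with hP
  have hP0 : P ≠ 0 := Finset.prod_ne_zero_iff.2 fun a _ => hv0ne a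
  set v : (Σ j, Fin (k j)) → F := fun a => if a = d then P⁻¹ else v0 a with hv
  have hvne : ∀ a, v a ≠ 0 := fun a => by
    simp only [hv]; split_ifs
    exacts [inv_ne_zero hP0, hv0ne a]
  have hvsc : ∀ a, psi C (v a) = sc a := fun a => by
    simp only [hv]
    split_ifs with h
    · rw [psi_inv, hP, psi_prod, h, Finset.prod_congr rfl fun b _ => hrep ⟨sc b, hscn b⟩]
      refine inv_eq_of_mul_eq_one_right ?_
      rw [Finset.prod_erase_mul _ _ (Finset.mem_univ d), hsc1]
    · exact hrep _
  have hvd : ∀ a b, a ≠ d → b ≠ d → sc a = sc b → v a = v b := fun a b ha hb h => by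
    simp only [hv, if_neg ha, if_neg hb, hv0]
    congr 1
    exact Subtype.ext h
  have hvprod : ∏ a, v a = 1 := by
    rw [← Finset.mul_prod_erase _ _ (Finset.mem_univ d)]
    simp only [hv, if_true]
    rw [Finset.prod_congr rfl fun a ha => if_neg (Finset.mem_erase.1 ha).1, ← hP, inv_mul_cancel₀ hP0]
  by_cases huniq : ∃ a0, ∀ b, b ≠ a0 → v b ≠ v a0
  · obtain ⟨a0, ha0⟩ := huniq
    refine good_of_roots hF η0 v hvne (fun j => ?_) hvprod a0 ha0 hcard
    rw [psi_prod, Finset.prod_congr rfl fun i _ => hvsc ⟨j, i⟩, hscj]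
  simp only [not_exists, not_forall, not_not] at huniq
  obtain ⟨b, hbd, hvbd⟩ := huniq d
  set v' : (Σ j, Fin (k j)) → F := fun a => v a * (if a = d then t else if a = b then t⁻¹ else 1) with hv'
  refine good_of_roots hF η0 v' (fun a => ?_) (fun j => ?_) ?_ d (fun e he => ?_) hcard
  · simp only [hv']
    split_ifs <;> simp [hvne a, ht0]
  · rw [psi_prod, ← hscj j]
    refine Finset.prod_congr rfl fun i _ => ?_
    rw [hv', psi_mul, hvsc]
    split_ifs <;> simp [psi_one, psi_fixed C htfix ht0, psi_inv]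
  · simp only [hv']
    rw [Finset.prod_mul_distrib, hvprod, one_mul,
      ← Finset.prod_subset (Finset.subset_univ ({d, b} : Finset _)) fun a _ ha => by simp at ha; simp [ha.1, ha.2],
      Finset.prod_pair hbd.symm, if_pos rfl, if_neg hbd, if_pos rfl, mul_inv_cancel₀ ht0]
  · simp only [hv', if_true, if_neg he]
    have hd0 := hvne d
    by_cases heb : e = b
    · subst heb
      rw [if_pos rfl, hvbd]
      intro h
      refine ht2 ?_
      have h' := mul_left_cancel₀ hd0 h
      rw [pow_two]; nth_rewrite 1 [← h']; exact inv_mul_cancel₀ ht0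
    · rw [if_neg heb, mul_one]
      intro h
      have hse : sc e = sc b := by
        rw [← hvsc e, h, ← hvbd, psi_mul, hvsc, psi_fixed C htfix ht0, mul_one]
      rw [hvd e b he hbd hse, hvbd] at h
      exact ht2 (by rw [← mul_left_cancel₀ hd0 ((mul_one (v d)).trans h), one_pow])

/-- every prescription of classes with trivial product is met -/
theorem good_all (η0 : ∀ j, η j ≠ 0) (hs : ∏ j, cls C η j = 1) (h2 : 2 ≤ ∑ j, k j) : Attain C k hk η := by
  have hq2 : 2 ≤ q := by
    have := Fintype.one_lt_card (α := F)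
    rw [hF] at this
    nlinarith
  rcases (by omega : q = 2 ∨ q = 3 ∨ 4 ≤ q) with hq | hq | hq
  · exact (good_two hF hq η0 Finset.univ hs h2).univ
  · exact (good_three hF hq η0 Finset.univ hs h2).univ
  · exact good_large hF hq η0 hs h2

end CfsgLib.OreSu
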