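import Cfsg.Agent.Lib.Lie.OreSu.Finish
import Cfsg.Agent.Lib.Lie.OreSu.Split
import Cfsg.Agent.Lib.Lie.OreSu.Values

/-!
One cyclic space of degree at most three and lines of a single eigenvalue, at least three elements in
the fixed field: the first block is a scalar.
-/

set_option autoImplicit false
set_option linter.unusedSectionVars false

namespace CfsgLib.OreSu

open CfsgLib.SU Polynomial Matrix

variable {F : Type*} [Field F] [Fintype F] {q n : ℕ} {C : UCtx F q} (hF : Fintype.card F = q ^ 2)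
variable {κ : Type*} [Fintype κ] [DecidableEq κ]
include hF

/-- the middle part and the eigenvalue of the first block -/
theorem small_core (hq3 : 3 ≤ q) (s0 : κ) (δ : κ → F) (hδ : ∀ t, δ t * C.bar (δ t) = 1) (hprod : ∏ t, δ t = 1)
    {c : F} (hc : c * C.bar c = 1) (hδc : ∀ t, t ≠ s0 → δ t = c) :
    ∃ (a b : Matrix κ κ F) (x : F), ad C a * a = 1 ∧ ad C b * b = 1 ∧ a * diagonal δ * b = b * a ∧
      x ≠ 0 ∧ x * C.bar x ≠ 1 ∧ psi C x * a.det = 1 ∧ IsUnit (aeval a (X - Polynomial.C x)) := by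
  classical
  obtain ⟨m, hm⟩ : ∃ m, Fintype.card κ = m + 1 := ⟨Fintype.card κ - 1, by
    have := Fintype.card_pos_iff.2 ⟨s0⟩; omega⟩
  let e0 : κ ≃ Fin (m + 1) := Fintype.equivFinOfCardEq hm
  let e : κ ≃ Fin (m + 1) := (Equiv.swap s0 (e0.symm (Fin.last m))).trans e0
  have hes : e s0 = Fin.last m := by simp [e]
  obtain ⟨a, b, ha, hb, -, hrel, haval⟩ := exists_cycle C δ hδ hprod e
  have hdiag : ∀ {a : κ → F} {x : F}, (∀ t, a t * C.bar (a t) = 1) → x * C.bar x ≠ 1 →
      IsUnit (aeval (diagonal a) (X - Polynomial.C x)) := fun {a x} ha hx => isUnit_aeval_diag fun t => by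
    rw [eval_sub, eval_X, eval_C, sub_ne_zero]
    exact fun h => hx (h ▸ ha t)
  rcases (by omega : q = 3 ∨ 4 ≤ q) with hq | hq4
  swap
  · have hD := det_unitary C (unitary_diag C ha)
    obtain ⟨x, hx0, hx⟩ := exists_psi C (norm_inv C hD)
    obtain ⟨t, ht0, ht2, htfix⟩ := exists_fixed_sq hF C hq4
    have hD0 := norm_one_ne C hD
    by_cases hxn : x * C.bar x = 1
    · have hn : x * t * C.bar (x * t) ≠ 1 := by
        rw [map_mul, htfix, show x * t * (C.bar x * t) = (x * C.bar x) * t ^ 2 by ring, hxn, one_mul]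
        exact ht2
      refine ⟨diagonal a, b, x * t, unitary_diag C ha, hb, hrel, mul_ne_zero hx0 ht0, hn, ?_, hdiag ha hn⟩
      rw [psi_mul, psi_fixed C htfix ht0, mul_one, hx, inv_mul_cancel₀ hD0]
    · exact ⟨diagonal a, b, x, unitary_diag C ha, hb, hrel, hx0, hxn, by rw [hx, inv_mul_cancel₀ hD0],
        hdiag ha hxn⟩
  -- nine elements
  subst hq
  obtain ⟨i, hi⟩ := exists_i hF rfl C
  have h1ne := one_ne_neg_one hF rfl
  have hi0 : i ≠ 0 := fun h => by simp [h] at hi
  have hin : i * C.bar i = 1 := by rw [C.bar_eq]; linear_combination (i ^ 2 - 1) * hi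
  have hn4 : ∀ y : F, y * C.bar y = 1 → y ^ 4 = 1 := fun y hy => by
    rw [C.bar_eq] at hy; linear_combination hy
  obtain ⟨x0, hx0⟩ := C.exists_norm (c := (-1 : F)) (by rw [map_neg, map_one])
  rw [C.bar_eq] at hx0
  -- a square root of an element of order four, of norm minus one
  have key : ∀ D : F, D ^ 2 = -1 → ∃ x : F, x ≠ 0 ∧ x * C.bar x ≠ 1 ∧ x ^ 2 = D ∧ psi C x * D = 1 := by
    intro D hD
    obtain ⟨x, hx4, hx2⟩ : ∃ x : F, x ^ 4 = -1 ∧ x ^ 2 = D := by
      have h : (D - x0 ^ 2) * (D + x0 ^ 2) = 0 := by linear_combination hD - hx0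
      rcases mul_eq_zero.1 h with h | h
      · exact ⟨x0, by linear_combination hx0, by linear_combination -h⟩
      · exact ⟨i * x0, by linear_combination (i ^ 4) * hx0 - (i ^ 2 - 1) * hi,
          by linear_combination (x0 ^ 2) * hi - h⟩
    have hx : x ≠ 0 := fun h => by simp [h] at hx4
    refine ⟨x, hx, ?_, hx2, ?_⟩
    · rw [C.bar_eq, show x * x ^ 3 = x ^ 4 by ring, hx4]
      exact h1ne.symm
    · rw [psi_three hF rfl hx, inv_pow, ← hx2, inv_mul_cancel₀ (pow_ne_zero _ hx)]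
  have fin : ∀ (a : κ → F) (b : Matrix κ κ F), (∀ t, a t * C.bar (a t) = 1) → ad C b * b = 1 →
      diagonal a * diagonal δ * b = b * diagonal a → (∏ t, a t) ^ 2 = -1 →
      ∃ (a b : Matrix κ κ F) (x : F), ad C a * a = 1 ∧ ad C b * b = 1 ∧ a * diagonal δ * b = b * a ∧
        x ≠ 0 ∧ x * C.bar x ≠ 1 ∧ psi C x * a.det = 1 ∧ IsUnit (aeval a (X - Polynomial.C x)) := by
    intro a b ha hb hrel hD
    obtain ⟨x, hx, hxn, -, hxD⟩ := key _ hD
    exact ⟨diagonal a, b, x, unitary_diag C ha, hb, hrel, hx, hxn, by rw [det_diagonal]; exact hxD, hdiag ha hxn⟩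
  by_cases hD : (∏ t, a t) ^ 2 = -1
  · exact fin a b ha hb hrel hD
  have hD1 : (∏ t, a t) ^ 2 = 1 := by
    have h4 := hn4 _ (norm_prod C Finset.univ a fun t _ => ha t)
    have h : ((∏ t, a t) ^ 2 - 1) * ((∏ t, a t) ^ 2 + 1) = 0 := by linear_combination h4
    exact sub_eq_zero.1 ((mul_eq_zero.1 h).resolve_right fun h0 => hD (eq_neg_of_add_eq_zero_left h0))
  rcases Nat.even_or_odd (m + 1) with hev | hodd
  swap
  · refine fin (fun t => i * a t) b (fun t => norm_mul C hin (ha t)) hb ?_ ?_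
    · rw [show (diagonal fun t => i * a t) = i • diagonal a by rw [← diagonal_smul]; rfl, Matrix.smul_mul,
        Matrix.smul_mul, hrel, Matrix.mul_smul]
    · rw [Finset.prod_mul_distrib, Finset.prod_const, Finset.card_univ, hm, mul_pow, hD1, mul_one, ← pow_mul,
        mul_comm, pow_mul, hi, hodd.neg_one_pow]
  have hc1 := hn4 c hc
  have hc0 := norm_one_ne C hc
  have hs0 : δ s0 * c ^ m = 1 := by
    rw [← hprod, ← Finset.mul_prod_erase _ _ (Finset.mem_univ s0),
      Finset.prod_congr rfl fun t ht => hδc t (Finset.mem_erase.1 ht).1, Finset.prod_const,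
      Finset.card_erase_of_mem (Finset.mem_univ s0), Finset.card_univ, hm, Nat.add_sub_cancel]
  have hscal : δ s0 = c → diagonal δ = c • (1 : Matrix κ κ F) := fun h => by
    rw [smul_one_eq_diagonal]
    congr 1
    funext t
    rcases eq_or_ne t s0 with rfl | ht
    exacts [h, hδc t ht]
  have hy : ∀ {l : ℕ} (y : F), y * C.bar y = 1 → ∀ j : Fin l,
      (if (j : ℕ) = 0 then i else y) * C.bar (if (j : ℕ) = 0 then i else y) = 1 := fun y hy j => by
    split_ifs
    exacts [hin, hy]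
  obtain ⟨j, hj⟩ := hev
  rcases eq_or_ne c 1 with rfl | hcne
  · -- trivial lines
    have hδ1 : ∀ t, δ t = 1 := fun t => by
      rcases eq_or_ne t s0 with rfl | ht
      · simpa using hs0
      · exact hδc t ht
    refine fin (fun t => if t = s0 then i else 1) 1 (fun t => ?_) (by rw [ad_one, Matrix.one_mul]) ?_ ?_
    · split_ifs
      exacts [hin, by rw [map_one, one_mul]]
    · rw [Matrix.mul_one, Matrix.one_mul, show diagonal δ = (1 : Matrix κ κ F) by
        rw [← diagonal_one]; exact congrArg diagonal (funext hδ1), Matrix.mul_one]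
    · rw [Finset.prod_ite_eq', if_pos (Finset.mem_univ _), hi]
  rcases eq_or_ne c (-1) with rfl | hcne'
  · -- monomial of order two
    have hδs : δ s0 = -1 := by
      have hmodd : Odd m := ⟨j - 1, by omega⟩
      rw [hmodd.neg_one_pow] at hs0
      linear_combination -hs0
    let e2 : κ ≃ Fin 2 × Fin j := Fintype.equivOfCardEq (by
      rw [Fintype.card_prod, Fintype.card_fin, Fintype.card_fin, hm]; omega)
    obtain ⟨a, b, ha, hb, hrel, hdet, hunit⟩ := exists_mono C two_pos (-1 : F) neg_one_sq hc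
      (fun l : Fin j => if (l : ℕ) = 0 then i else -1) (hy (-1) hc) e2
    have hdet' : a.det = -i := by
      rw [hdet, Finset.prod_eq_single (⟨0, by omega⟩ : Fin j)]
      · norm_num
      · intro l _ hl
        rw [if_neg fun h => hl (Fin.ext h)]
        norm_num
      · simp
    obtain ⟨x, hx, hxn, hx2, hxD⟩ := key a.det (by rw [hdet', neg_sq, hi])
    refine ⟨a, b, x, ha, hb, by rw [hscal hδs]; exact hrel, hx, hxn, hxD, hunit x fun l => ?_⟩
    rw [hx2, hdet']
    split_ifs
    · intro h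
      have h' : (2 : F) * i = 0 := by linear_combination -h
      exact hi0 ((mul_eq_zero.1 h').resolve_left fun h2 => h1ne (by linear_combination h2))
    · intro h
      rw [neg_inj.1 h, one_pow] at hi
      exact h1ne hi
  have hc2 : c ^ 2 = -1 := by
    have h : (c - 1) * (c + 1) * (c ^ 2 + 1) = 0 := by linear_combination hc1
    rcases mul_eq_zero.1 h with h | h
    · rcases mul_eq_zero.1 h with h | h
      exacts [absurd (sub_eq_zero.1 h) hcne, absurd (eq_neg_of_add_eq_zero_left h) hcne']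
    · exact eq_neg_of_add_eq_zero_left h
  rcases Nat.even_or_odd j with ⟨l, hl⟩ | ⟨l, hl⟩
  · -- monomial of order four
    have hδs : δ s0 = c := by
      obtain ⟨m', rfl⟩ : ∃ m', m = 4 * m' + 3 := ⟨l - 1, by omega⟩
      rw [pow_add, pow_mul, hc1, one_pow, one_mul] at hs0
      linear_combination c * hs0 - δ s0 * hc1
    let e4 : κ ≃ Fin 4 × Fin l := Fintype.equivOfCardEq (by
      rw [Fintype.card_prod, Fintype.card_fin, Fintype.card_fin, hm]; omega)
    have h11 : (1 : F) * C.bar 1 = 1 := by rw [map_one, one_mul]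
    obtain ⟨a, b, ha, hb, hrel, hdet, hunit⟩ := exists_mono C (by norm_num : 0 < 4) c hc1 hc
      (fun j : Fin l => if (j : ℕ) = 0 then i else 1) (hy 1 h11) e4
    have hdet' : a.det ^ 2 = -1 := by
      rw [hdet, ← Finset.prod_pow, Finset.prod_eq_single (⟨0, by omega⟩ : Fin l)]
      · norm_num [mul_pow, hi]
      · intro j _ hj
        rw [if_neg fun h => hj (Fin.ext h)]
        norm_num
      · simp
    obtain ⟨x, hx, hxn, hx2, hxD⟩ := key a.det hdet'
    refine ⟨a, b, x, ha, hb, by rw [hscal hδs]; exact hrel, hx, hxn, hxD, hunit x fun j => ?_⟩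
    rw [show x ^ 4 = (x ^ 2) ^ 2 by ring, hx2, hdet']
    split_ifs
    · intro h
      rw [← h, neg_one_sq] at hi
      exact h1ne hi
    · exact h1ne.symm
  · -- the cycle is already good
    exfalso
    apply hD
    have hat : ∀ t, a t = c ^ (e t : ℕ) := fun t => by
      rw [haval t, Finset.prod_congr rfl fun k hk => hδc _ fun h => by
        have h2 : k = Fin.last m := by rw [← hes, ← h, Equiv.apply_symm_apply]
        have h3 := (Finset.mem_filter.1 hk).2
        have h4 := (e t).isLt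
        rw [h2, Fin.val_last] at h3
        omega, Finset.prod_const]
      congr 1
      rw [show (Finset.univ.filter fun k : Fin (m + 1) => (k : ℕ) < e t) = Finset.Iio (e t) by
        ext k; simp, Fin.card_Iio]
    rw [Finset.prod_congr rfl fun t _ => hat t, Finset.prod_pow_eq_pow_sum,
      e.sum_comp (fun k : Fin (m + 1) => (k : ℕ)), Fin.sum_univ_eq_sum_range (fun k => k) (m + 1),
      ← pow_mul, mul_comm _ 2, pow_mul, hc2]
    refine Odd.neg_one_pow ⟨(l * (4 * l + 1) + 2 * l), ?_⟩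
    have h2 := Finset.sum_range_id_mul_two (m + 1)
    rw [Nat.add_sub_cancel, show m = 4 * l + 1 by omega] at h2
    rw [show m = 4 * l + 1 by omega]
    nlinarith

/-- a commutator from a first block equal to one -/
theorem finish_scalar (hq3 : 3 ≤ q) {ι : Type*} [Fintype ι] [DecidableEq ι] {G : Cfsg.SU n F q}
    (hG : ad C G.1.1 * G.1.1 = 1) {g : Matrix (ι ⊕ (κ ⊕ ι)) (ι ⊕ (κ ⊕ ι)) F} (hrep : Rep C G.1.1 g)
    (hι : Fintype.card ι = 1) (hM : g.submatrix Sum.inl Sum.inl = 1) {δ : κ → F} (hD : schur g = diagonal δ)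
    (s0 : κ) (hδ : ∀ t, δ t * C.bar (δ t) = 1) (hprod : ∏ t, δ t = 1) {c : F} (hc : c * C.bar c = 1)
    (hδc : ∀ t, t ≠ s0 → δ t = c) : ∃ x y : Cfsg.SU n F q, G = x * y * x⁻¹ * y⁻¹ := by
  obtain ⟨a, b, x, ha, hb, hrel, hx0, hxn, hxd, hunit⟩ := small_core hF hq3 s0 δ hδ hprod hc hδc
  have hdb := det_unitary C hb
  obtain ⟨μ, hμ0, hμ⟩ := exists_psi C (norm_inv C hdb)
  have hdet : ∀ y : F, (y • (1 : Matrix ι ι F)).det = y := fun y => by
    rw [det_smul, det_one, hι, pow_one, mul_one]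
  have hgood : Good C (x • (1 : Matrix ι ι F)) a := good_of_safe C (safe_linear hxn) (by rwa [hdet])
    (by rw [map_sub, aeval_X, aeval_C, Algebra.algebraMap_eq_smul_one, sub_self]) ha hunit
  have hgdet : g.det = 1 := hrep.det_eq.trans G.1.2
  let gg : UG (ι := ι) (κ := κ) C := mkUG g hgdet (hrep.iso hG)
  refine Rep.commutator (g := gg) hrep ?_
  refine commutator_of_levi gg hgood (P := μ • (1 : Matrix ι ι F)) (by rwa [hdet]) hb ?_ ?_ ?_ ?_
  · rw [hdet, hxd]
  · rw [hdet, hμ, inv_mul_cancel₀ (norm_one_ne C hdb)]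
  · rw [show gg.1.1.submatrix Sum.inl Sum.inl = (1 : Matrix ι ι F) from hM]
    simp [smul_smul, mul_comm]
  · rw [show schur gg.1.1 = diagonal δ from hD]; exact hrel

/-- one small cyclic space and equal lines -/
theorem small_case (hq3 : 3 ≤ q) (hn : 3 ≤ n) (G : Cfsg.SU n F q)
    (hG : ∀ u v, C.form (G.1.1 *ᵥ u) (G.1.1 *ᵥ v) = C.form u v) {l : ℕ} {z : Fin 1 → Fin n → F}
    {φ : Fin 1 → F[X]} {u : Fin l → Fin n → F} {c : Fin l → F} (h : IsDec C G.1.1 ⊤ 1 l z φ u c)
    (hd3 : (φ 0).natDegree ≤ 3) (hall : ∀ s t, c s = c t) : ∃ x y : Cfsg.SU n F q, G = x * y * x⁻¹ * y⁻¹ := by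
  classical
  have htot : ∑ j, (φ j).natDegree + l = n := by
    rw [h.total, finrank_top, Module.finrank_pi, Fintype.card_fin]
  obtain ⟨g, η, δ, hrep, hη, hδu, h21, h31, h22, -, -⟩ := exists_std hG z φ u c
    (fun j => ⟨h.cyc j, h.deg j, odd_nonroot (h.ok j)⟩) h.zz h.eig h.uu h.zu htot
  rw [Fin.sum_univ_one] at htot
  have hk : ∀ j, (φ j).natDegree / 2 = 1 := fun j => by
    have := h.deg j
    rw [Subsingleton.elim j 0] at this ⊢
    omega
  obtain ⟨c0, hc0, hc0n⟩ : ∃ c0, (∀ s, c s = c0) ∧ c0 * C.bar c0 = 1 := by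
    rcases Nat.eq_zero_or_pos l with rfl | hl
    · exact ⟨1, fun s => s.elim0, by rw [map_one, one_mul]⟩
    · refine ⟨c ⟨0, hl⟩, fun s => hall _ _, ?_⟩
      have e := hG (u ⟨0, hl⟩) (u ⟨0, hl⟩)
      rwa [h.eig, C.form_smul_left, C.form_smul_right, h.uu, if_pos rfl, mul_one] at e
  obtain ⟨s0, hs0⟩ : ∃ s0 : {j : Fin 1 // (φ j).natDegree % 2 = 1} ⊕ Fin l, ∀ t, t ≠ s0 → δ t = c0 := by
    by_cases hodd : (φ 0).natDegree % 2 = 1
    · refine ⟨Sum.inl ⟨0, hodd⟩, fun t ht => ?_⟩
      rcases t with ⟨j, hj⟩ | s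
      · exact absurd (congrArg Sum.inl (Subtype.ext (Subsingleton.elim j 0))) ht
      · rw [hδu, hc0]
    · refine ⟨Sum.inr ⟨0, by omega⟩, fun t ht => ?_⟩
      rcases t with ⟨j, hj⟩ | s
      · exact absurd (Subsingleton.elim j 0 ▸ hj) hodd
      · rw [hδu, hc0]
  have hkp : ∀ j, 0 < (φ j).natDegree / 2 := fun j => by rw [hk j]; exact one_pos
  obtain ⟨g', δ', hrep', hM', hD', hδ', hδ'eq, hdet⟩ := adjust hkp (ad_iso_of hG) hrep h21 h31 h22
    (some (0, s0)) (M := 1) (by rw [det_one]; exact one_ne_zero)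
    (fun a b hab => by
      exfalso
      rcases hab with hab | hab
      · have := b.2.isLt
        have := hk b.1
        omega
      · exact hη _ hab)
    (fun l j hlj => by
      rcases hlj (0, s0) rfl with e | e <;> exact absurd (Subsingleton.elim _ _) e)
  rw [det_one, psi_one, one_mul, show G.1.1.det = 1 from G.1.2] at hdet
  refine finish_scalar hF hq3 (ad_iso_of hG) hrep' ?_ hM' hD' s0 hδ' hdet hc0n fun t ht => ?_
  · rw [Fintype.card_sigma, Fin.sum_univ_one, Fintype.card_fin, hk]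
  · rw [hδ'eq t (fun x hx => by
      obtain rfl : ((0 : Fin 1), s0) = x := Option.some_injective _ hx
      exact ht), hs0 t ht]

end CfsgLib.OreSu
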