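import Cfsg.Agent.Lib.Lie.OreSu.Finish
import Cfsg.Agent.Lib.Lie.OreSu.Split
import Cfsg.Agent.Lib.Lie.OreSu.Values

/-!
One cyclic space of degree at most three and lines of a single eigenvalue, over the field of four
elements.
-/

set_option autoImplicit false
set_option linter.unusedSectionVars false

namespace CfsgLib.OreSu

open CfsgLib.SU Polynomial Matrix

variable {F : Type*} [Field F] {q n : ℕ} {C : UCtx F q}

section Frame

variable {ι κ : Type*} [Fintype ι] [DecidableEq ι] [Fintype κ] [DecidableEq κ]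

/-- a frame from hyperbolic pairs and orthonormal vectors -/
theorem exists_frame (G : Matrix (Fin n) (Fin n) F) (e f : ι → Fin n → F) (mm : κ → Fin n → F)
    (hee : ∀ a b, C.form (e a) (e b) = 0) (hff : ∀ a b, C.form (f a) (f b) = 0)
    (hef : ∀ a b, C.form (e a) (f b) = if a = b then 1 else 0)
    (hem : ∀ a t, C.form (e a) (mm t) = 0) (hfm : ∀ a t, C.form (f a) (mm t) = 0)
    (hmm : ∀ t t', C.form (mm t) (mm t') = if t = t' then 1 else 0)
    (hcard : Fintype.card ι + (Fintype.card κ + Fintype.card ι) = n) :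
    ∃ g : Matrix (ι ⊕ (κ ⊕ ι)) (ι ⊕ (κ ⊕ ι)) F, Rep C G g ∧
      (∀ a b, g (Sum.inl a) (Sum.inl b) = C.form (G *ᵥ e b) (f a)) ∧
      (∀ t b, g (Sum.inr (Sum.inl t)) (Sum.inl b) = C.form (G *ᵥ e b) (mm t)) ∧
      (∀ a b, g (Sum.inr (Sum.inr a)) (Sum.inl b) = C.form (G *ᵥ e b) (e a)) ∧
      ∀ t t', g (Sum.inr (Sum.inl t)) (Sum.inr (Sum.inl t')) = C.form (G *ᵥ mm t') (mm t) := by
  obtain ⟨g, hrep, hg⟩ := rep_of_cols (C := C) G (Sum.elim e (Sum.elim mm f)) (fun x y => by
    rcases x with a | a | a <;> rcases y with b | b | b <;>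
      simp only [Sum.elim_inl, Sum.elim_inr, JJ, b3, fromBlocks_apply₁₁, fromBlocks_apply₁₂, fromBlocks_apply₂₁,
        fromBlocks_apply₂₂, fromCols_apply_inl, fromCols_apply_inr, fromRows_apply_inl, fromRows_apply_inr,
        Matrix.zero_apply, Matrix.one_apply]
    · exact hee a b
    · exact hem a b
    · exact hef a b
    · exact C.form_swap_zero (hem b a)
    · exact hmm a b
    · exact C.form_swap_zero (hfm b a)
    · rw [← C.bar_form, hef, apply_ite C.bar, map_one, map_zero]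
      simp [eq_comm]
    · exact hfm a b
    · exact hff a b) (by rw [Fintype.card_sum, Fintype.card_sum]; exact hcard)
  exact ⟨g, hrep, fun a b => hg _ _, fun t b => hg _ _, fun a b => hg _ _, fun t t' => hg _ _⟩

/-- the first block of the preserved form -/
theorem iso_corner {g : Matrix (ι ⊕ (κ ⊕ ι)) (ι ⊕ (κ ⊕ ι)) F} (hg : Iso C g) :
    ad C (g.submatrix Sum.inl Sum.inl) * g.submatrix (Sum.inr ∘ Sum.inr) Sum.inl +
      ad C (g.submatrix (Sum.inr ∘ Sum.inl) Sum.inl) * g.submatrix (Sum.inr ∘ Sum.inl) Sum.inl +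
      ad C (g.submatrix (Sum.inr ∘ Sum.inr) Sum.inl) * g.submatrix Sum.inl Sum.inl = 0 := by
  obtain ⟨M, g12, g13, g21, g22, g23, g31, g32, g33, rfl⟩ := exists_b3 g
  have e1 : (b3 M g12 g13 g21 g22 g23 g31 g32 g33).submatrix Sum.inl Sum.inl = M := by ext i j; simp [b3]
  have e2 : (b3 M g12 g13 g21 g22 g23 g31 g32 g33).submatrix (Sum.inr ∘ Sum.inl) Sum.inl = g21 := by
    ext i j; simp [b3]
  have e3 : (b3 M g12 g13 g21 g22 g23 g31 g32 g33).submatrix (Sum.inr ∘ Sum.inr) Sum.inl = g31 := by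
    ext i j; simp [b3]
  simp only [Iso, b3_ad, JJ, b3_mul, Matrix.mul_zero, Matrix.mul_one, zero_add, add_zero] at hg
  obtain ⟨h11, -⟩ := b3_inj hg
  rw [e1, e2, e3, ← h11]
  abel

end Frame

variable [Fintype F] (hF : Fintype.card F = q ^ 2) (hq : q = 2)
include hF hq

theorem sq_eq_one {x : F} (h : x ^ 2 = 1) : x = 1 := by
  have h2 : (x - 1) ^ 2 = 0 := by linear_combination h + (1 - x) * two_eq_zero hF hq
  exact sub_eq_zero.1 (eq_zero_of_pow_eq_zero h2)

/-- two lines of the eigenvalue give a second pair -/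
theorem absorb_case (G : Cfsg.SU n F q) (hG : ∀ u v, C.form (G.1.1 *ᵥ u) (G.1.1 *ᵥ v) = C.form u v) {l : ℕ}
    {z : Fin 1 → Fin n → F} {φ : Fin 1 → F[X]} {u : Fin (l + 2) → Fin n → F} {c : Fin (l + 2) → F}
    (h : IsDec C G.1.1 ⊤ 1 (l + 2) z φ u c) (hd3 : (φ 0).natDegree ≤ 3) (hall : ∀ s t, c s = c t) :
    ∃ x y : Cfsg.SU n F q, G = x * y * x⁻¹ * y⁻¹ := by
  classical
  have hd2 := h.deg 0
  have htot : (φ 0).natDegree + (l + 2) = n := by
    have := h.total
    rwa [Fin.sum_univ_one, finrank_top, Module.finrank_pi, Fintype.card_fin] at this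
  have hk : (φ 0).natDegree / 2 = 1 := by omega
  obtain ⟨z', p0, hz', hcyc, hz0, hne⟩ := exists_gen_cyc (h.cyc 0) (h.deg 0) (odd_nonroot (h.ok 0))
  rw [hk] at hz0 hne
  obtain ⟨hee, f, m, hfP, ⟨pm, hpm⟩, hff, hef, hmO⟩ := exists_half hcyc hk one_pos hz0 hne
  obtain ⟨pf, hpf⟩ := hfP 0
  rw [pow_one] at hne
  set G0 : Matrix (Fin n) (Fin n) F := G.1.1
  set η0 := C.form (G0 *ᵥ z') z' with hη0
  have hline : ∀ (p : F[X]) s, C.form (aeval G0 p *ᵥ z') (u s) = 0 := fun p s => by
    rw [hz', Matrix.mulVec_mulVec, ← map_mul]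
    exact h.zu 0 s _
  set c0 := c 0
  have hGu : ∀ s, G0 *ᵥ u s = c0 • u s := fun s => by rw [h.eig, hall s 0]
  have hc0 : c0 * C.bar c0 = 1 := by
    have e := hG (u 0) (u 0)
    rwa [hGu, C.form_smul_left, C.form_smul_right, h.uu, if_pos rfl, mul_one] at e
  have hc00 := norm_one_ne C hc0
  obtain ⟨w, hw⟩ := exists_omega hF hq
  have hbar : ∀ y : F, C.bar y = y ^ 2 := fun y => by rw [C.bar_eq, hq]
  have h2 := two_eq_zero hF hq
  -- the new pair
  set e1 := u 0 + u 1 with he1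
  set f1 := w • u 0 + w ^ 2 • u 1 with hf1
  have hne01 : (0 : Fin (l + 2)) ≠ 1 := by simp
  have hee1 : C.form e1 e1 = 0 := by
    simp only [he1, C.form_add_left, C.form_add_right, h.uu, if_true, if_neg hne01, if_neg hne01.symm]
    linear_combination h2
  have hef1 : C.form e1 f1 = 1 := by
    simp only [he1, hf1, C.form_add_left, C.form_add_right, C.form_smul_right, h.uu, if_true, if_neg hne01,
      if_neg hne01.symm, hbar]
    linear_combination (w ^ 2 - w + 1) * hw - h2
  have hff1 : C.form f1 f1 = 0 := by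
    simp only [hf1, C.form_add_left, C.form_add_right, C.form_smul_left, C.form_smul_right, h.uu, if_true,
      if_neg hne01, if_neg hne01.symm, hbar]
    linear_combination (w ^ 4 - w ^ 3 + 2 * w - 2) * hw + h2
  have hGe1 : G0 *ᵥ e1 = c0 • e1 := by rw [he1, Matrix.mulVec_add, hGu, hGu, smul_add]
  have hpe : ∀ p : F[X], C.form (aeval G0 p *ᵥ z') e1 = 0 := fun p => by
    rw [he1, C.form_add_right, hline, hline, add_zero]
  have hpff : ∀ p : F[X], C.form (aeval G0 p *ᵥ z') f1 = 0 := fun p => by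
    rw [hf1, C.form_add_right, C.form_smul_right, C.form_smul_right, hline, hline, mul_zero, mul_zero, add_zero]
  have hzP : z' = aeval G0 (1 : F[X]) *ᵥ z' := by rw [map_one, Matrix.one_mulVec]
  have hGzP : G0 *ᵥ z' = aeval G0 (X : F[X]) *ᵥ z' := by rw [aeval_X]
  have hGp : ∀ p : F[X], G0 *ᵥ (aeval G0 p *ᵥ z') = aeval G0 (X * p) *ᵥ z' := fun p => by
    rw [Matrix.mulVec_mulVec, map_mul, aeval_X]
  have hu2 : ∀ s : Fin l, C.form (u s.succ.succ) e1 = 0 ∧ C.form (u s.succ.succ) f1 = 0 := fun s => by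
    have h0 : s.succ.succ ≠ (0 : Fin (l + 2)) := Fin.succ_ne_zero _
    have h1 : s.succ.succ ≠ (1 : Fin (l + 2)) := by
      rw [← Fin.succ_zero_eq_one, Ne, Fin.succ_inj]; exact Fin.succ_ne_zero _
    simp [he1, hf1, C.form_add_right, C.form_smul_right, h.uu, h0, h1]
  -- the frame
  let E : (Σ _j : Fin 2, Fin 1) → Fin n → F := fun a => ![z', e1] a.1
  let FF : (Σ _j : Fin 2, Fin 1) → Fin n → F := fun a => ![f 0, f1] a.1
  let MM : {_x : Unit // (φ 0).natDegree % 2 = 1} ⊕ Fin l → Fin n → F :=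
    Sum.elim (fun _ => m) fun s => u s.succ.succ
  have hsig : ∀ {a b : Σ _j : Fin 2, Fin 1}, a.1 = b.1 → a = b := by
    rintro ⟨i, x⟩ ⟨j, y⟩ rfl
    exact congrArg (Sigma.mk i) (Subsingleton.elim x y)
  have hzz : C.form z' z' = 0 := by simpa using hee 0 0
  have hzf : C.form z' (f 0) = 1 := by simpa using hef 0 0
  have hm : ∀ _x : {_x : Unit // (φ 0).natDegree % 2 = 1}, C.form m m = 1 ∧ C.form z' m = 0 ∧
      C.form (G0 *ᵥ z') m = 0 ∧ C.form (f 0) m = 0 := fun x => by
    obtain ⟨a, b, c, d⟩ := hmO (Nat.odd_iff.2 x.2)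
    exact ⟨a, by simpa using b 0, by simpa using c 0, d 0⟩
  have hze : C.form z' e1 = 0 := by rw [hzP]; exact hpe _
  have hzf1 : C.form z' f1 = 0 := by rw [hzP]; exact hpff _
  have hfe : C.form (f 0) e1 = 0 := by rw [hpf]; exact hpe _
  have hff1' : C.form (f 0) f1 = 0 := by rw [hpf]; exact hpff _
  have hme : C.form m e1 = 0 := by rw [hpm]; exact hpe _
  have hmf1 : C.form m f1 = 0 := by rw [hpm]; exact hpff _
  obtain ⟨g, hrep, g11, g21, g31, g22⟩ := exists_frame (C := C) G0 E FF MM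
    (by rintro ⟨i, x⟩ ⟨j, y⟩; fin_cases i <;> fin_cases j <;>
      simp [E, hzz, hee1, hze, C.form_swap_zero hze])
    (by rintro ⟨i, x⟩ ⟨j, y⟩; fin_cases i <;> fin_cases j <;>
      simp [FF, hff 0 0, hff1, hff1', C.form_swap_zero hff1'])
    (by rintro ⟨i, x⟩ ⟨j, y⟩; fin_cases i <;> fin_cases j <;>
      simp [E, FF, hzf, hef1, hzf1, C.form_swap_zero hfe, Subsingleton.elim x y])
    (by
      rintro ⟨i, x⟩ (t | s) <;> fin_cases i
      · exact (hm t).2.1
      · exact C.form_swap_zero hme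
      · show C.form z' (u s.succ.succ) = 0
        rw [hzP]; exact hline _ _
      · exact C.form_swap_zero (hu2 s).1)
    (by
      rintro ⟨i, x⟩ (t | s) <;> fin_cases i
      · exact (hm t).2.2.2
      · exact C.form_swap_zero hmf1
      · show C.form (f 0) (u s.succ.succ) = 0
        rw [hpf]; exact hline _ _
      · exact C.form_swap_zero (hu2 s).2)
    (by
      rintro (t | s) (t' | s')
      · rw [if_pos (congrArg Sum.inl (Subsingleton.elim t t'))]; exact (hm t).1
      · rw [if_neg (by simp)]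
        show C.form m (u s'.succ.succ) = 0
        rw [hpm]; exact hline _ _
      · rw [if_neg (by simp)]
        show C.form (u s.succ.succ) m = 0
        rw [hpm]; exact C.form_swap_zero (hline _ _)
      · show C.form (u s.succ.succ) (u s'.succ.succ) = _
        rw [h.uu]; simp)
    (by
      rw [Fintype.card_sigma, Fintype.card_sum, Fintype.card_fin, Fintype.card_subtype]
      rcases (by omega : (φ 0).natDegree = 2 ∨ (φ 0).natDegree = 3) with e | e <;> simp [e] <;> omega)
  set η : Fin 2 → F := ![η0, 0] with hη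
  have hk1 : ∀ _j : Fin 2, 0 < 1 := fun _ => one_pos
  have h21 : g.submatrix (Sum.inr ∘ Sum.inl) Sum.inl = 0 := by
    ext t ⟨j, y⟩
    rw [Matrix.submatrix_apply, Function.comp_apply, g21, Matrix.zero_apply]
    rcases t with t | s <;> fin_cases j
    · exact (hm t).2.2.1
    · show C.form (G0 *ᵥ e1) m = 0
      rw [hGe1, C.form_smul_left, C.form_swap_zero hme, mul_zero]
    · show C.form (G0 *ᵥ z') (u s.succ.succ) = 0
      rw [hGzP]; exact hline _ _
    · show C.form (G0 *ᵥ e1) (u s.succ.succ) = 0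
      rw [hGe1, C.form_smul_left, C.form_swap_zero (hu2 s).1, mul_zero]
  have h31 : g.submatrix (Sum.inr ∘ Sum.inr) Sum.inl = xmat (fun _ : Fin 2 => 1) η := by
    ext ⟨i, x⟩ ⟨j, y⟩
    rw [Matrix.submatrix_apply, Function.comp_apply, g31]
    obtain rfl : x = 0 := Subsingleton.elim _ _
    obtain rfl : y = 0 := Subsingleton.elim _ _
    fin_cases i <;> fin_cases j <;> simp [xmat, E, hη, hη0, blockDiagonal'_apply, hGe1, C.form_smul_left, hee1,
      C.form_swap_zero hze]
    rw [hGzP]; exact hpe _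
  set δ : {_x : Unit // (φ 0).natDegree % 2 = 1} ⊕ Fin l → F := fun t => C.form (G0 *ᵥ MM t) (MM t) with hδ
  have h22 : g.submatrix (Sum.inr ∘ Sum.inl) (Sum.inr ∘ Sum.inl) = diagonal δ := by
    ext t t'
    rw [Matrix.submatrix_apply, Function.comp_apply, Function.comp_apply, g22, Matrix.diagonal_apply]
    split_ifs with e
    · rw [e]
    rcases t with t | s <;> rcases t' with t' | s'
    · exact absurd (congrArg Sum.inl (Subsingleton.elim t t')) e
    · show C.form (G0 *ᵥ u s'.succ.succ) m = 0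
      rw [hGu, C.form_smul_left, hpm, C.form_swap_zero (hline _ _), mul_zero]
    · show C.form (G0 *ᵥ m) (u s.succ.succ) = 0
      rw [hpm, hGp]; exact hline _ _
    · show C.form (G0 *ᵥ u s'.succ.succ) (u s.succ.succ) = 0
      rw [hGu, C.form_smul_left, h.uu, if_neg, mul_zero]
      exact fun e' => e (congrArg Sum.inr (Fin.succ_inj.1 (Fin.succ_inj.1 e')).symm)
  have g11v : g (Sum.inl ⟨0, 0⟩) (Sum.inl ⟨1, 0⟩) = 0 ∧ g (Sum.inl ⟨1, 0⟩) (Sum.inl ⟨0, 0⟩) = 0 ∧
      g (Sum.inl ⟨1, 0⟩) (Sum.inl ⟨1, 0⟩) = c0 := by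
    refine ⟨?_, ?_, ?_⟩ <;> rw [g11]
    · show C.form (G0 *ᵥ e1) (f 0) = 0
      rw [hGe1, C.form_smul_left, C.form_swap_zero hfe, mul_zero]
    · show C.form (G0 *ᵥ z') f1 = 0
      rw [hGzP]; exact hpff _
    · show C.form (G0 *ᵥ e1) f1 = c0
      rw [hGe1, C.form_smul_left, hef1, mul_one]
  have hiso : Iso C g := hrep.iso (ad_iso_of hG)
  have adj : ∀ (x : F) (p : Option (Fin 2 × ({_x : Unit // (φ 0).natDegree % 2 = 1} ⊕ Fin l))), x ≠ 0 →
      ((∀ y ∈ p, y.1 ≠ 0) → psi C x = -psi C η0) →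
      ∃ (g' : Matrix ((Σ _j : Fin 2, Fin 1) ⊕ (({_x : Unit // (φ 0).natDegree % 2 = 1} ⊕ Fin l) ⊕ Σ _j : Fin 2, Fin 1))
          ((Σ _j : Fin 2, Fin 1) ⊕ (({_x : Unit // (φ 0).natDegree % 2 = 1} ⊕ Fin l) ⊕ Σ _j : Fin 2, Fin 1)) F)
        (δ' : {_x : Unit // (φ 0).natDegree % 2 = 1} ⊕ Fin l → F),
        Rep C G0 g' ∧ g'.submatrix Sum.inl Sum.inl = diagonal (fun a : Σ _j : Fin 2, Fin 1 => ![x, c0] a.1) ∧
        schur g' = diagonal δ' ∧ (∀ t, δ' t * C.bar (δ' t) = 1) ∧ psi C (x * c0) * ∏ t, δ' t = 1 := by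
    intro x p hx hp
    set M : Matrix (Σ _j : Fin 2, Fin 1) (Σ _j : Fin 2, Fin 1) F :=
      diagonal (fun a : Σ _j : Fin 2, Fin 1 => ![x, c0] a.1) with hM
    have hMd : M.det = x * c0 := by
      rw [hM, det_diagonal, Fintype.prod_sigma, Fin.prod_univ_two]; simp
    obtain ⟨g', δ', hrep', hM', hD', hδ', -, hdet⟩ := adjust hk1 (ad_iso_of hG) hrep h21 h31 h22 p (M := M)
      (by rw [hMd]; exact mul_ne_zero hx hc00)
      (by
        rintro ⟨i, a⟩ ⟨j, b⟩ hab
        obtain rfl : a = 0 := Subsingleton.elim _ _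
        obtain rfl : b = 0 := Subsingleton.elim _ _
        rcases hab with hab | hab
        · exact absurd rfl hab
        fin_cases j
        · exact absurd hab (by simpa [hη] using hne)
        · fin_cases i
          · simpa [hM] using g11v.1.symm
          · simpa [hM] using g11v.2.2.symm)
      (by
        intro i j hij
        have e0 : ∀ i, fst hk1 i = (⟨i, 0⟩ : Σ _j : Fin 2, Fin 1) := fun i => hsig rfl
        have e1 : ∀ i, lst hk1 i = (⟨i, 0⟩ : Σ _j : Fin 2, Fin 1) := fun i => hsig rfl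
        rw [e0, e1, e0, e1]
        fin_cases i <;> fin_cases j <;> simp [hM, hη, g11v]
        have hsk := corner_skew hk1 hiso h21 h31 (l := 0) (j := 0) (by simpa [hη] using hne) (by simpa [hη] using hne)
        rw [e0, e1] at hsk
        have hsk' : g (Sum.inl ⟨0, 0⟩) (Sum.inl ⟨0, 0⟩) / η0 + C.bar (g (Sum.inl ⟨0, 0⟩) (Sum.inl ⟨0, 0⟩) / η0) = 0 := by
          simpa [hη] using hsk
        have hpx := skew_of_psi C hx hne (hp fun y hy => by
          have := hij y hy
          simpa [eq_comm] using this)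
        rw [map_div₀] at hsk' hpx
        linear_combination hpx - hsk')
    refine ⟨g', δ', hrep', hM', hD', hδ', ?_⟩
    rw [← hMd, hdet]
    exact G.1.2
  -- the first entry must be the inverse of the eigenvalue
  obtain ⟨p, hp⟩ : ∃ p : Option (Fin 2 × ({_x : Unit // (φ 0).natDegree % 2 = 1} ⊕ Fin l)),
      (∀ y ∈ p, y.1 ≠ 0) → psi C c0⁻¹ = -psi C η0 := by
    rcases isEmpty_or_nonempty ({_x : Unit // (φ 0).natDegree % 2 = 1} ⊕ Fin l) with he | ⟨⟨s0⟩⟩
    · refine ⟨none, fun _ => ?_⟩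
      obtain ⟨x, hx, hxp⟩ := exists_psi C (norm_neg C (psi_norm C hne))
      obtain ⟨g', δ', -, -, -, -, hdet⟩ := adj x none hx (fun _ => hxp)
      rw [Fintype.prod_empty, mul_one, psi_two hF hq (mul_ne_zero hx hc00)] at hdet
      rw [← eq_inv_of_mul_eq_one_left (sq_eq_one hF hq hdet)]
      exact hxp
    · exact ⟨some (0, s0), fun hy => absurd rfl (hy _ rfl)⟩
  obtain ⟨g', δ', hrep', hM', hD', hδ', hdet⟩ := adj c0⁻¹ p (inv_ne_zero hc00) hp
  rw [inv_mul_cancel₀ hc00, psi_one, one_mul] at hdet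
  refine finish hF (ad_iso_of hG) hrep' ?_ hD' hδ' hdet
  rw [hM']
  have hcard : 2 ≤ Fintype.card (Σ _j : Fin 2, Fin 1) := by simp
  rcases eq_or_ne c0 1 with e | e
  · rw [show (diagonal fun a : Σ _j : Fin 2, Fin 1 => ![c0⁻¹, c0] a.1) = 1 by
      rw [← diagonal_one]; congr 1; funext a; obtain ⟨i, x⟩ := a; fin_cases i <;> simp [e]]
    exact kk_one C hF hcard
  · refine kk_simple C hF hcard (μ := c0) (p := X - Polynomial.C c0⁻¹) ?_ ?_ ?_ ?_
    · rw [Matrix.charpoly_diagonal]; exact Splits.prod fun a _ => Splits.X_sub_C _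
    · rw [det_diagonal, Fintype.prod_sigma, Fin.prod_univ_two]; simp [hc00]
    · rw [Matrix.charpoly_diagonal, Fintype.prod_sigma, Fin.prod_univ_two]; simp
    · rw [eval_sub, eval_X, eval_C, sub_ne_zero]
      intro e'
      refine e (sq_eq_one hF hq ?_)
      rw [pow_two]; nth_rewrite 1 [e']; exact inv_mul_cancel₀ hc00

/-- a regular unipotent element of degree three and a line -/
theorem four_case (G : Cfsg.SU n F q) (hG : ∀ u v, C.form (G.1.1 *ᵥ u) (G.1.1 *ᵥ v) = C.form u v)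
    {z : Fin 1 → Fin n → F} {φ : Fin 1 → F[X]} {u : Fin 1 → Fin n → F} {c : Fin 1 → F}
    (h : IsDec C G.1.1 ⊤ 1 1 z φ u c) (hd : (φ 0).natDegree = 3) (hroot : (φ 0).eval (c 0) = 0) :
    ∃ x y : Cfsg.SU n F q, G = x * y * x⁻¹ * y⁻¹ := by
  classical
  set G0 : Matrix (Fin n) (Fin n) F := G.1.1
  have htot : (φ 0).natDegree + 1 = n := by
    have := h.total
    rwa [Fin.sum_univ_one, finrank_top, Module.finrank_pi, Fintype.card_fin] at this
  have h2 := two_eq_zero hF hq
  have hbar : ∀ y : F, C.bar y = y ^ 2 := fun y => by rw [C.bar_eq, hq]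
  have hu1 : C.form (u 0) (u 0) = 1 := by rw [h.uu, if_pos rfl]
  have hcn : c 0 * C.bar (c 0) = 1 := by
    have e := hG (u 0) (u 0)
    rwa [h.eig, C.form_smul_left, C.form_smul_right, hu1, mul_one] at e
  -- the eigenvalue is one
  have hφ : φ 0 = (X - Polynomial.C (c 0)) ^ 3 := by
    rcases h.ok 0 with e | e
    · rw [hd] at e; exact absurd e (by decide)
    · rw [e _ hcn hroot, hd]
  have hc1 : c 0 = 1 := by
    let L : (Fin (φ 0).natDegree → F) × F →ₗ[F] (Fin n → F) :=
      (comb G0 (z 0) (φ 0).natDegree).coprod (LinearMap.toSpanSingleton F _ (u 0))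
    have hL : ∀ a b, L (a, b) = comb G0 (z 0) (φ 0).natDegree a + b • u 0 := fun a b => rfl
    have hinj : Function.Injective L := by
      refine (injective_iff_map_eq_zero L).2 ?_
      rintro ⟨a, b⟩ hab
      rw [hL] at hab
      have hb := congrArg (fun v => C.form v (u 0)) hab
      simp only [C.form_add_left, C.form_smul_left, hu1, comb_eq, h.zu, C.form_zero_left, zero_add, mul_one] at hb
      subst hb
      rw [zero_smul, add_zero] at hab
      rw [comb_injective (h.cyc 0) (hab.trans (map_zero _).symm)]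
      rfl
    have hsurj : Function.Surjective L := (LinearMap.injective_iff_surjective_of_finrank_eq_finrank (by
      rw [Module.finrank_prod, Module.finrank_pi, Module.finrank_self, Module.finrank_pi, Fintype.card_fin,
        Fintype.card_fin, htot])).1 hinj
    have h0 : aeval G0 (φ 0) = 0 := by
      refine Matrix.ext_iff_mulVec.2 fun v => ?_
      obtain ⟨⟨a, b⟩, rfl⟩ := hsurj v
      rw [hL, Matrix.mulVec_add, Matrix.mulVec_smul, aeval_eig (h.eig 0), hroot, zero_smul, smul_zero, add_zero,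
        comb_eq, Matrix.mulVec_mulVec, ← map_mul, ((h.cyc 0).ker _).2 (dvd_mul_right _ _), Matrix.zero_mulVec]
    have h4 : aeval G0 ((X : F[X]) ^ 4 - Polynomial.C (c 0 ^ 4)) = 0 := by
      have e : (X : F[X]) ^ 4 - Polynomial.C (c 0 ^ 4) = φ 0 * (X - Polynomial.C (c 0)) := by
        have h2' : (2 : F[X]) = 0 := by rw [show (2 : F[X]) = Polynomial.C 2 from (map_ofNat _ _).symm, h2, map_zero]
        rw [hφ, map_pow]
        linear_combination (2 * X ^ 3 * Polynomial.C (c 0) - 3 * X ^ 2 * Polynomial.C (c 0) ^ 2 +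
          2 * X * Polynomial.C (c 0) ^ 3 - Polynomial.C (c 0) ^ 4) * h2'
      rw [e, map_mul, h0, zero_mul]
    rw [map_sub, map_pow, aeval_X, aeval_C, sub_eq_zero, Algebra.algebraMap_eq_smul_one] at h4
    have h16 := congrArg Matrix.det h4
    rw [det_pow, show G0.det = 1 from G.1.2, det_smul, det_one, one_pow, mul_one, Fintype.card_fin,
      show n = 4 by omega] at h16
    have h3 := cube_two hF hq (norm_one_ne C hcn)
    linear_combination -h16 - (c 0 * (c 0 ^ 12 + c 0 ^ 9 + c 0 ^ 6 + c 0 ^ 3 + 1)) * h3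
  have hGu : G0 *ᵥ u 0 = u 0 := by rw [h.eig, hc1, one_smul]
  -- the frame
  have hk : (φ 0).natDegree / 2 = 1 := by omega
  obtain ⟨z', p0, hz', hcyc, hz0, hne⟩ := exists_gen_cyc (h.cyc 0) (h.deg 0) (odd_nonroot (h.ok 0))
  rw [hk] at hz0 hne
  obtain ⟨hee, f, m, hfP, ⟨pm, hpm⟩, hff, hef, hmO⟩ := exists_half hcyc hk one_pos hz0 hne
  obtain ⟨hmm, hzm', hGzm', hfm'⟩ := hmO (by rw [hd]; decide)
  obtain ⟨pf, hpf⟩ := hfP 0
  rw [pow_one] at hne
  have hzz : C.form z' z' = 0 := by simpa using hee 0 0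
  have hzf : C.form z' (f 0) = 1 := by simpa using hef 0 0
  have hzm : C.form z' m = 0 := by simpa using hzm' 0
  have hGzm : C.form (G0 *ᵥ z') m = 0 := by simpa using hGzm' 0
  have hfm := hfm' 0
  have hline : ∀ p : F[X], C.form (aeval G0 p *ᵥ z') (u 0) = 0 := fun p => by
    rw [hz', Matrix.mulVec_mulVec, ← map_mul]
    exact h.zu 0 0 _
  have hGp : ∀ p : F[X], G0 *ᵥ (aeval G0 p *ᵥ z') = aeval G0 (X * p) *ᵥ z' := fun p => by
    rw [Matrix.mulVec_mulVec, map_mul, aeval_X]
  have hzu : C.form z' (u 0) = 0 := by simpa using hline 1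
  have hfu : C.form (f 0) (u 0) = 0 := hpf ▸ hline _
  have hmu : C.form m (u 0) = 0 := hpm ▸ hline _
  have hGzu : C.form (G0 *ᵥ z') (u 0) = 0 := by simpa using hline X
  have hGmu : C.form (G0 *ᵥ m) (u 0) = 0 := by rw [hpm, hGp]; exact hline _
  set η := C.form (G0 *ᵥ z') z' with hη
  set x := C.form (G0 *ᵥ m) z' with hx
  set δ := C.form (G0 *ᵥ m) m with hδ
  have hx0 : x ≠ 0 := by
    intro hx0
    have hall : ∀ R : F[X], C.form (G0 *ᵥ m) (aeval G0 R *ᵥ z') = 0 := by
      refine form_all_of_first hcyc fun i => ?_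
      have hi := i.isLt
      rcases (by omega : (i : ℕ) = 0 ∨ (i : ℕ) = 1 ∨ (i : ℕ) = 2) with e | e | e <;> rw [e]
      · rwa [pow_zero, Matrix.one_mulVec]
      · rw [pow_one, hG]; exact C.form_swap_zero hzm
      · rw [pow_two, ← Matrix.mulVec_mulVec, hG]; exact C.form_swap_zero hGzm
    have hm0 : G0 *ᵥ m = 0 := by
      rw [hpm, hGp]
      refine (hcyc.ker _).2 (hcyc.nondeg _ fun i => ?_)
      rw [← hGp, ← hpm, ← aeval_X_pow (R := F) G0]
      exact hall _
    have e := hG m m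
    rw [hm0, C.form_zero_left, hmm] at e
    exact zero_ne_one e
  obtain ⟨v, hv, hvδ⟩ : ∃ v : F, v ^ 2 + v + 1 = 0 ∧ v ^ 2 ≠ δ := by
    obtain ⟨w, hw⟩ := exists_omega hF hq
    by_cases hwδ : w ^ 2 = δ
    · refine ⟨w + 1, by linear_combination hw + (w + 1) * h2, fun e => one_ne_zero (α := F) ?_⟩
      linear_combination e - hwδ - w * h2
    · exact ⟨w, hw, hwδ⟩
  set fv := v • m + v ^ 2 • u 0 with hfv
  have hefv : C.form (m + u 0) fv = 1 := by
    simp only [hfv, C.form_add_left, C.form_add_right, C.form_smul_right, hmm, hu1, hmu, C.form_swap_zero hmu, hbar]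
    linear_combination (v ^ 2 - v + 1) * hv - h2
  obtain ⟨g, hrep, g11, -, g31, -⟩ := exists_frame (C := C) G0 ![z', m + u 0] ![f 0, fv] (Fin.elim0 : Fin 0 → Fin n → F)
    (by
      intro i j; fin_cases i <;> fin_cases j <;>
        simp [C.form_add_left, C.form_add_right, hzz, hzm, hzu, C.form_swap_zero hzm, C.form_swap_zero hzu, hmm, hmu,
          C.form_swap_zero hmu, hu1]
      linear_combination h2)
    (by
      intro i j; fin_cases i <;> fin_cases j <;>
        simp [hfv, C.form_add_left, C.form_add_right, C.form_smul_left, C.form_smul_right, hff 0 0, hfm, hfu,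
          C.form_swap_zero hfm, C.form_swap_zero hfu, hmm, hmu, C.form_swap_zero hmu, hu1, hbar]
      linear_combination (v ^ 4 - v ^ 3 + 2 * v - 2) * hv + h2)
    (by
      intro i j; fin_cases i <;> fin_cases j <;>
        simp [hzf, hefv]
      · simp [hfv, C.form_add_right, C.form_smul_right, hzm, hzu]
      · simp [C.form_add_left, C.form_swap_zero hfm, C.form_swap_zero hfu])
    (fun a t => t.elim0) (fun a t => t.elim0) (fun t => t.elim0)
    (by simp; omega)
  have hiso := hrep.iso (ad_iso_of hG)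
  set t := g (Sum.inl (0 : Fin 2)) (Sum.inl (0 : Fin 2))
  set y := g (Sum.inl (0 : Fin 2)) (Sum.inl (1 : Fin 2))
  set b := v ^ 2 * δ + v with hb
  have hGe : G0 *ᵥ (m + u 0) = G0 *ᵥ m + u 0 := by rw [Matrix.mulVec_add, hGu]
  have m10 : g (Sum.inl (1 : Fin 2)) (Sum.inl (0 : Fin 2)) = 0 := by
    rw [g11]
    simp [hfv, C.form_add_right, C.form_smul_right, hGzm, hGzu]
  have m11 : g (Sum.inl (1 : Fin 2)) (Sum.inl (1 : Fin 2)) = b := by
    rw [g11]
    simp [hfv, hGe, C.form_add_left, C.form_add_right, C.form_smul_right, hGmu, C.form_swap_zero hmu, hu1, hbar,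
      ← hδ, hb]
    linear_combination (v ^ 2 - v) * hv
  have X00 : g (Sum.inr (Sum.inr (0 : Fin 2))) (Sum.inl (0 : Fin 2)) = η := by rw [g31]; rfl
  have X10 : g (Sum.inr (Sum.inr (1 : Fin 2))) (Sum.inl (0 : Fin 2)) = 0 := by
    rw [g31]; simp [C.form_add_right, hGzm, hGzu]
  have X01 : g (Sum.inr (Sum.inr (0 : Fin 2))) (Sum.inl (1 : Fin 2)) = x := by
    rw [g31]; simp [hGe, C.form_add_left, C.form_swap_zero hzu, ← hx]
  have X11 : g (Sum.inr (Sum.inr (1 : Fin 2))) (Sum.inl (1 : Fin 2)) = δ + 1 := by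
    rw [g31]; simp [hGe, C.form_add_left, C.form_add_right, hGmu, C.form_swap_zero hmu, hu1, ← hδ]
  have hcorner := iso_corner hiso
  have e00 : t ^ 2 * η + η ^ 2 * t = 0 := by
    have e := congrFun (congrFun hcorner 0) 0
    simpa [Matrix.mul_apply, ad, Fin.sum_univ_two, X00, X10, m10, hbar, t] using e
  have e01 : t ^ 2 * x + η ^ 2 * y = 0 := by
    have e := congrFun (congrFun hcorner 0) 1
    simpa [Matrix.mul_apply, ad, Fin.sum_univ_two, X00, X10, X01, m10, hbar, t, y] using e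
  obtain ⟨S00, hS00, hS⟩ : ∃ S00 : F, S00 ^ 2 = S00 ∧ t + S00 * η = η := by
    by_cases ht : t = 0
    · exact ⟨1, one_pow _, by rw [ht, zero_add, one_mul]⟩
    · refine ⟨0, zero_pow two_ne_zero, ?_⟩
      have e : t * η * (t + η) = 0 := by linear_combination e00
      rw [zero_mul, add_zero]
      linear_combination ((mul_eq_zero.1 e).resolve_left (mul_ne_zero ht hne)) - η * h2
  have h21 : g.submatrix (Sum.inr ∘ Sum.inl) Sum.inl = (0 : Matrix (Fin 0) (Fin 2) F) := by
    ext i j; exact i.elim0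
  have trick : ∀ S : Matrix (Fin 2) (Fin 2) F, ad C S + S = 0 → ∃ g', Rep C G0 g' ∧
      g'.submatrix Sum.inl Sum.inl = g.submatrix Sum.inl Sum.inl + S * g.submatrix (Sum.inr ∘ Sum.inr) Sum.inl ∧
      schur g' = diagonal (Fin.elim0 : Fin 0 → F) := by
    intro S hS
    obtain ⟨g', hrep', hM', -, -⟩ := adjust_core hrep h21 rfl (R := (0 : Matrix (Fin 0) (Fin 2) F)) (S := S) (by
      unfold Rad
      rw [ad_ad, ad_zero, Matrix.zero_mul, add_zero, hS])
    exact ⟨g', hrep', hM', by ext i; exact i.elim0⟩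
  have done : ∀ g' : Matrix (Fin 2 ⊕ (Fin 0 ⊕ Fin 2)) (Fin 2 ⊕ (Fin 0 ⊕ Fin 2)) F, Rep C G0 g' → schur g' = diagonal (Fin.elim0 : Fin 0 → F) →
      KK C (g'.submatrix Sum.inl Sum.inl) → ∃ a b : Cfsg.SU n F q, G = a * b * a⁻¹ * b⁻¹ :=
    fun g' h1 h2 h3 => finish hF (ad_iso_of hG) h1 h3 h2 (fun t => t.elim0) (Fintype.prod_empty _)
  have hcard : 2 ≤ Fintype.card (Fin 2) := by simp
  obtain ⟨g', hrep', hM', hD'⟩ := trick !![S00, 0; 0, 0] (by
    ext i j; fin_cases i <;> fin_cases j <;> simp [ad, hbar]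
    linear_combination hS00 + S00 * h2)
  have hM1 : g'.submatrix Sum.inl Sum.inl = !![η, y + S00 * x; 0, b] := by
    rw [hM']
    ext i j; fin_cases i <;> fin_cases j <;>
      simp [Matrix.vecMul, dotProduct, Fin.sum_univ_two, m10, m11, X00, X01, X10, X11, t, y]
    · exact hS
  have hb0 : b ≠ 0 := by
    intro e
    refine hvδ ?_
    rw [hb] at e
    linear_combination v * e - δ * (v - 1) * hv - δ * h2
  have hd1 : η * b = 1 := by
    have e := det_eq_of_iso (hrep'.iso (ad_iso_of hG)) (by rw [hM1]; simpa [Matrix.det_fin_two] using ⟨hne, hb0⟩)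
    rw [hrep'.det_eq, show G0.det = 1 from G.1.2, hM1, (Matrix.det_isEmpty : (schur g').det = 1), mul_one, Matrix.det_fin_two] at e
    simp only [Matrix.of_apply, Matrix.cons_val', Matrix.cons_val_zero, Matrix.cons_val_one,
      Matrix.cons_val_fin_one, mul_zero, sub_zero] at e
    rw [psi_two hF hq (mul_ne_zero hne hb0)] at e
    exact sq_eq_one hF hq e.symm
  by_cases hη1 : η = 1
  swap
  · refine done g' hrep' hD' ?_
    rw [hM1]
    have hch : (!![η, y + S00 * x; 0, b] : Matrix (Fin 2) (Fin 2) F).charpoly =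
        (X - Polynomial.C η) * (X - Polynomial.C b) := by
      rw [Matrix.charpoly_fin_two]
      simp [Matrix.trace_fin_two, Matrix.det_fin_two]
      ring
    refine kk_simple C hF hcard (μ := b) (p := X - Polynomial.C η) ?_ ?_ hch ?_
    · rw [hch]; exact (Splits.X_sub_C _).mul (Splits.X_sub_C _)
    · simpa [Matrix.det_fin_two] using hd1
    · rw [eval_sub, eval_X, eval_C, sub_ne_zero]
      intro e
      exact hη1 (sq_eq_one hF hq (by rw [pow_two]; nth_rewrite 2 [← e]; exact hd1))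
  have hb1 : b = 1 := by simpa [hη1] using hd1
  have hδ1 : δ = 1 := by
    rw [hb] at hb1
    linear_combination v * hb1 + (-δ * (v - 1) - 1) * hv + v * h2
  have hy : y = t * x := by
    rw [hη1, one_pow, one_mul] at e01
    rw [hη1, one_pow, mul_one, one_mul] at e00
    linear_combination e01 - x * e00
  obtain ⟨g'', hrep'', hM'', hD''⟩ := trick !![S00, C.bar x⁻¹; x⁻¹, 0] (by
    ext i j; fin_cases i <;> fin_cases j <;> simp [ad]
    · rw [hbar]; linear_combination hS00 + S00 * h2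
    · linear_combination (C.bar x)⁻¹ * h2
    · rw [C.bar_bar]; linear_combination x⁻¹ * h2)
  refine done g'' hrep'' hD'' ?_
  have hX11 : g (Sum.inr (Sum.inr (1 : Fin 2))) (Sum.inl (1 : Fin 2)) = 0 := by
    rw [X11, hδ1]; linear_combination h2
  have hM2 : g''.submatrix Sum.inl Sum.inl = !![1, x; x⁻¹, 0] := by
    rw [hM'']
    ext i j; fin_cases i <;> fin_cases j <;>
      simp [Matrix.vecMul, dotProduct, Fin.sum_univ_two, m10, m11, X00, X01, X10, hX11, hη1, hb1, hx0]
    · rw [hη1, mul_one] at hS; exact hS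
    · rw [hη1, mul_one] at hS
      show y + S00 * x = x
      linear_combination hy + x * hS
    · linear_combination h2
  rw [hM2]
  obtain ⟨w, hw⟩ := exists_omega hF hq
  have hch : (!![1, x; x⁻¹, 0] : Matrix (Fin 2) (Fin 2) F).charpoly =
      (X - Polynomial.C (w + 1)) * (X - Polynomial.C w) := by
    have e1 : (w + 1) + w = 1 := by linear_combination w * h2
    have e2 : (w + 1) * w = -1 := by linear_combination hw
    rw [Matrix.charpoly_fin_two]
    simp [Matrix.trace_fin_two, Matrix.det_fin_two, hx0]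
    have f1 := congrArg Polynomial.C e1
    have f2 := congrArg Polynomial.C e2
    simp only [map_add, map_mul, map_neg, map_one] at f1 f2
    linear_combination (X : F[X]) * f1 - f2
  refine kk_simple C hF hcard (μ := w) (p := X - Polynomial.C (w + 1)) ?_ ?_ hch ?_
  · rw [hch]; exact (Splits.X_sub_C _).mul (Splits.X_sub_C _)
  · simp [Matrix.det_fin_two, hx0]
    linear_combination -h2
  · rw [eval_sub, eval_X, eval_C, sub_ne_zero]
    intro e
    exact one_ne_zero (α := F) (by linear_combination -e)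

end CfsgLib.OreSu
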