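import Cfsg.Agent.Lib.Lie.OreSu.Scalar
import Cfsg.Agent.Lib.Lie.OreSu.Small
import Cfsg.Agent.Lib.Lie.OreSu.Two
import Cfsg.Agent.Lib.SU.Ind

/-!
Every element of the special unitary group is a commutator.
-/

set_option autoImplicit false
set_option linter.unusedSectionVars false

namespace CfsgLib.OreSu

open CfsgLib.SU Polynomial Matrix

variable {F : Type*} [Field F] [Fintype F] {q n : ℕ} {C : UCtx F q} (hF : Fintype.card F = q ^ 2)
include hF

/-- a block of index `j0` can absorb the product of the classes without meeting an equal class -/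
theorem exists_pivot {r : ℕ} {η : Fin r → F} (η0 : ∀ j, η j ≠ 0) (hP : ∏ j, cls C η j ≠ 1) :
    ∃ j0, ∀ j, j ≠ j0 → q = 2 → cls C η j0 / ∏ j, cls C η j ≠ 1 →
      cls C η j0 / ∏ j, cls C η j ≠ cls C η j := by
  classical
  set P := ∏ j, cls C η j with hPdef
  have hne : ∀ j, cls C η j ≠ 0 := fun j => norm_one_ne C (cls_norm η0 j)
  have hP0 : P ≠ 0 := Finset.prod_ne_zero_iff.2 fun j _ => hne j
  by_cases h : ∃ j, cls C η j = P
  · obtain ⟨j0, hj0⟩ := h
    exact ⟨j0, fun j _ _ h1 => absurd (by rw [hj0, div_self hP0]) h1⟩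
  simp only [not_exists] at h
  obtain ⟨j0, hj0⟩ : ∃ j0, cls C η j0 ≠ 1 := by
    by_contra hcon
    simp only [not_exists, not_not] at hcon
    exact hP (Finset.prod_eq_one fun j _ => hcon j)
  refine ⟨j0, fun j _ hq _ he => ?_⟩
  have hP3 := cube_two hF hq hP0
  have hj3 := cube_two hF hq (hne j0)
  have hPs : 1 + P + P ^ 2 = 0 := by
    have e : (P - 1) * (1 + P + P ^ 2) = 0 := by linear_combination hP3
    exact (mul_eq_zero.1 e).resolve_left (sub_ne_zero.2 hP)
  have hsq : cls C η j0 = P ^ 2 := by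
    have e : (cls C η j0 - 1) * (cls C η j0 - P) * (cls C η j0 - P ^ 2) = 0 := by
      linear_combination hj3 + (-cls C η j0 ^ 2 + P * cls C η j0) * hPs - hP3
    rcases mul_eq_zero.1 e with e | e
    · rcases mul_eq_zero.1 e with e | e
      exacts [absurd (sub_eq_zero.1 e) hj0, absurd (sub_eq_zero.1 e) (h j0)]
    · exact sub_eq_zero.1 e
  refine h j ?_
  rw [← he, hsq]
  field_simp

/-- at least two pairs -/
theorem std_case (G : Cfsg.SU n F q) (hG : ∀ u v, C.form (G.1.1 *ᵥ u) (G.1.1 *ᵥ v) = C.form u v) {r l : ℕ}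
    {z : Fin r → Fin n → F} {φ : Fin r → F[X]} {u : Fin l → Fin n → F} {c : Fin l → F}
    (h : IsDec C G.1.1 ⊤ r l z φ u c) (h2 : 2 ≤ ∑ j, (φ j).natDegree / 2) :
    ∃ x y : Cfsg.SU n F q, G = x * y * x⁻¹ * y⁻¹ := by
  classical
  have htot : ∑ j, (φ j).natDegree + l = n := by
    rw [h.total, finrank_top, Module.finrank_pi, Fintype.card_fin]
  obtain ⟨g, η, δ, hrep, hη, -, h21, h31, h22, hshift, hcross⟩ := exists_std hG z φ u c
    (fun j => ⟨h.cyc j, h.deg j, odd_nonroot (h.ok j)⟩) h.zz h.eig h.uu h.zu htot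
  have hk : ∀ j, 0 < (φ j).natDegree / 2 := fun j => by have := h.deg j; omega
  have hGad := ad_iso_of hG
  have hiso := hrep.iso hGad
  have hdetG : G.1.1.det = 1 := G.1.2
  have hgskew : ∀ a b, g (Sum.inl (fst hk a)) (Sum.inl (lst hk b)) / η b +
      C.bar (g (Sum.inl (fst hk b)) (Sum.inl (lst hk a)) / η a) = 0 :=
    fun a b => corner_skew hk hiso h21 h31 (hη a) (hη b)
  by_cases hP : ∏ j, cls C η j = 1
  · obtain ⟨M, hA, hK, hd⟩ := good_all (hk := hk) hF hη hP h2
    obtain ⟨g', δ', hrep', hM', hD', hδ', -, hdet⟩ := adjust hk hGad hrep h21 h31 h22 none (M := M)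
      (by rw [hd]; exact one_ne_zero)
      (fun a b hab => by
        rcases hab with hab | hab
        · rw [hA.shift a b hab]; exact (hshift a b hab).symm
        · exact absurd hab (hη _))
      (fun a b _ => by
        have e1 := hA.skew a b
        have e2 := hgskew a b
        rw [map_div₀] at e1 e2
        rw [sub_div, map_div₀, map_sub, sub_div]
        linear_combination e1 - e2)
    rw [hd, psi_one, one_mul, hdetG] at hdet
    exact finish hF hGad hrep' (by rw [hM']; exact hK) hD' hδ' hdet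
  -- there is a line
  obtain ⟨s0⟩ : Nonempty ({j : Fin r // (φ j).natDegree % 2 = 1} ⊕ Fin l) := by
    by_contra hemp
    rw [not_nonempty_iff] at hemp
    choose x hx0 hx using fun j => exists_psi C (cls_norm (C := C) hη j)
    set ρ : (Σ j, Fin ((φ j).natDegree / 2)) → F := fun a => if (a.2 : ℕ) = 0 then x a.1 else 1 with hρ
    have hρj : ∀ j, ∏ i, ρ ⟨j, i⟩ = x j := fun j => by
      rw [hρ, Finset.prod_eq_single (⟨0, hk j⟩ : Fin ((φ j).natDegree / 2))]
      · simp
      · intro i _ hi; exact if_neg fun e => hi (Fin.ext e)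
      · simp
    obtain ⟨M, hA, -, hd⟩ := adm_of_roots (hk := hk) hF hη ρ (fun a => by
      simp only [hρ]; split_ifs
      exacts [hx0 _, one_ne_zero]) (fun j => by rw [hρj]; exact hx j)
    rw [Fintype.prod_sigma, Finset.prod_congr rfl fun j _ => hρj j] at hd
    obtain ⟨g', δ', -, -, -, -, -, hdet⟩ := adjust hk hGad hrep h21 h31 h22 none (M := M)
      (by rw [hd]; exact Finset.prod_ne_zero_iff.2 fun j _ => hx0 j)
      (fun a b hab => by
        rcases hab with hab | hab
        · rw [hA.shift a b hab]; exact (hshift a b hab).symm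
        · exact absurd hab (hη _))
      (fun a b _ => by
        have e1 := hA.skew a b
        have e2 := hgskew a b
        rw [map_div₀] at e1 e2
        rw [sub_div, map_div₀, map_sub, sub_div]
        linear_combination e1 - e2)
    rw [hd, psi_prod, Finset.prod_congr rfl fun j _ => hx j, Fintype.prod_empty δ', mul_one, hdetG] at hdet
    exact hP hdet
  obtain ⟨j0, hj0⟩ := exists_pivot hF hη hP
  set P := ∏ j, cls C η j with hPdef
  have hPn : P * C.bar P = 1 := norm_prod C _ _ fun j _ => cls_norm hη j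
  have hP0 := norm_one_ne C hPn
  obtain ⟨x, hx0, hx⟩ := exists_psi C (norm_neg C (norm_mul C (cls_norm (C := C) hη j0) (norm_inv C hPn)))
  set η' := Function.update η j0 x with hη'
  have hη'0 : ∀ j, η' j ≠ 0 := fun j => by
    rcases eq_or_ne j j0 with rfl | hj
    · rw [hη', Function.update_self]; exact hx0
    · rw [hη', Function.update_of_ne hj]; exact hη j
  have hc0 : cls C η' j0 = cls C η j0 / P := by
    rw [cls, hη', Function.update_self, hx, neg_neg, div_eq_mul_inv]
  have hcj : ∀ j, j ≠ j0 → cls C η' j = cls C η j := fun j hj => by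
    rw [cls, cls, hη', Function.update_of_ne hj]
  have hP' : ∏ j, cls C η' j = 1 := by
    rw [← Finset.mul_prod_erase _ _ (Finset.mem_univ j0), hc0,
      Finset.prod_congr rfl fun j hj => hcj j (Finset.mem_erase.1 hj).1, div_mul_eq_mul_div,
      Finset.mul_prod_erase _ (cls C η) (Finset.mem_univ j0), div_self hP0]
  obtain ⟨M, hA, hK, hd⟩ := good_all (hk := hk) hF hη'0 hP' h2
  have hzero : ∀ a b : Σ j, Fin ((φ j).natDegree / 2), a.1 ≠ b.1 → (a.1 = j0 ∨ b.1 = j0) →
      M a b - g (Sum.inl a) (Sum.inl b) = 0 := by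
    intro a b hab h0
    rw [hcross a b hab, sub_zero]
    by_contra hne
    obtain ⟨hq, he, h1⟩ := hA.mix a b hab hne
    rcases h0 with h0 | h0
    · rw [h0, hc0] at he h1
      rw [hcj _ (fun e => hab (h0.trans e.symm))] at he
      exact hj0 _ (fun e => hab (h0.trans e.symm)) hq h1 he
    · rw [h0, hc0] at he
      rw [hcj _ (fun e => hab (e.trans h0.symm))] at he h1
      exact hj0 _ (fun e => hab (e.trans h0.symm)) hq (he ▸ h1) he.symm
  obtain ⟨g', δ', hrep', hM', hD', hδ', -, hdet⟩ := adjust hk hGad hrep h21 h31 h22 (some (j0, s0)) (M := M)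
    (by rw [hd]; exact one_ne_zero)
    (fun a b hab => by
      rcases hab with hab | hab
      · rw [hA.shift a b hab]; exact (hshift a b hab).symm
      · exact absurd hab (hη _))
    (fun a b hab => by
      rcases eq_or_ne a j0 with ha | ha
      · have hb : a ≠ b := fun e => by
          rcases hab (j0, s0) rfl with h' | h'
          exacts [h' ha, h' (e ▸ ha)]
        rw [hzero (fst hk a) (lst hk b) hb (Or.inl ha), hzero (fst hk b) (lst hk a) hb.symm (Or.inr ha)]
        simp
      rcases eq_or_ne b j0 with hb | hb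
      · have hab' : a ≠ b := fun e => ha (e.trans hb)
        rw [hzero (fst hk a) (lst hk b) hab' (Or.inr hb), hzero (fst hk b) (lst hk a) hab'.symm (Or.inl hb)]
        simp
      have e1 := hA.skew a b
      have e2 := hgskew a b
      rw [hη', Function.update_of_ne ha, Function.update_of_ne hb, map_div₀] at e1
      rw [map_div₀] at e2
      rw [sub_div, map_div₀, map_sub, sub_div]
      linear_combination e1 - e2)
  rw [hd, psi_one, one_mul, hdetG] at hdet
  exact finish hF hGad hrep' (by rw [hM']; exact hK) hD' hδ' hdet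

/-- every element is a commutator -/
theorem every_commutator (hn : 3 ≤ n) (hex : ¬(n = 3 ∧ q = 2)) (C : UCtx F q) (G : Cfsg.SU n F q)
    (hG : ∀ u v, C.form (G.1.1 *ᵥ u) (G.1.1 *ᵥ v) = C.form u v) :
    ∃ x y : Cfsg.SU n F q, G = x * y * x⁻¹ * y⁻¹ := by
  rcases dec_cases hG with ⟨r, l, z, φ, u, c, h, h2⟩ | ⟨l, z, φ, u, c, h, hd, hall⟩ | ⟨c, hc⟩
  · exact std_case hF G hG h h2
  · have hq2 : 2 ≤ q := by
      have := Fintype.one_lt_card (α := F)
      rw [hF] at this
      nlinarith
    rcases (by omega : 3 ≤ q ∨ q = 2) with hq | hq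
    · exact small_case hF hq hn G hG h hd hall
    have htot : (φ 0).natDegree + l = n := by
      have := h.total
      rwa [Fin.sum_univ_one, finrank_top, Module.finrank_pi, Fintype.card_fin] at this
    have hd2 := h.deg 0
    rcases (by omega : 2 ≤ l ∨ l ≤ 1) with hl | hl
    · obtain ⟨l', rfl⟩ : ∃ l', l = l' + 2 := ⟨l - 2, by omega⟩
      exact absorb_case hF hq G hG h hd hall
    have hn3 : n ≠ 3 := fun e => hex ⟨e, hq⟩
    obtain rfl : l = 1 := by omega
    have hd3 : (φ 0).natDegree = 3 := by omega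
    by_cases hroot : (φ 0).eval (c 0) = 0
    · exact four_case hF hq G hG h hd3 hroot
    -- the line joins the cyclic space
    have hcyc := cyc_add_line hG (h.cyc 0) (h.eig 0) (by rw [h.uu, if_pos rfl]) (h.zu 0 0) hroot
    have hdeg : (φ 0 * (X - Polynomial.C (c 0))).natDegree = 4 := by
      rw [natDegree_mul (h.cyc 0).monic.ne_zero (X_sub_C_ne_zero _), natDegree_X_sub_C, hd3]
    refine std_case hF G hG (r := 1) (l := 0) (z := fun _ => z 0 + u 0)
      (φ := fun _ => φ 0 * (X - Polynomial.C (c 0))) (u := Fin.elim0) (c := Fin.elim0) ⟨?_, fun s => s.elim0,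
        fun _ => hcyc, fun _ => by rw [hdeg]; omega, fun _ => Or.inl (by rw [hdeg]; decide), ?_, fun s => s.elim0,
        fun s => s.elim0, fun _ s => s.elim0, ?_⟩ (by rw [Fin.sum_univ_one, hdeg])
    · intro j; trivial
    · intro i j hij; exact absurd (Subsingleton.elim i j) hij
    · rw [Fin.sum_univ_one, hdeg, finrank_top, Module.finrank_pi, Fintype.card_fin]; omega
  · exact scalar_case C G hc (ad_iso_of hG) (by omega)

omit hF in
/-- the hypotheses of the standard form -/
theorem su_every_commutator {F : Type*} [Field F] [Fintype F] {n q : ℕ} (hn : 3 ≤ n)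
    (hF : Fintype.card F = q ^ 2) (hex : ¬(n = 3 ∧ q = 2)) (G : Cfsg.SU n F q) :
    ∃ x y : Cfsg.SU n F q, G = x * y * x⁻¹ * y⁻¹ := by
  obtain ⟨p, hp⟩ := CharP.exists F
  haveI : Fact p.Prime := ⟨CharP.char_is_prime F p⟩
  obtain ⟨k, -, hk⟩ := FiniteField.card F p
  rw [hF] at hk
  obtain ⟨f, -, hf⟩ := (Nat.dvd_prime_pow (Fact.out : p.Prime)).1 (hk ▸ dvd_pow_self q two_ne_zero : q ∣ p ^ (k : ℕ))
  have hf1 : 1 ≤ f := by
    by_contra h
    rw [show f = 0 by omega, pow_zero] at hf
    have := Fintype.one_lt_card (α := F)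
    rw [hF, hf] at this
    simp at this
  obtain ⟨C⟩ := exists_ctx hf hf1 hF
  refine every_commutator hF hn hex C G fun u v => ?_
  have h : Cfsg.hermForm n F q (G.1.1 *ᵥ u) (G.1.1 *ᵥ v) = Cfsg.hermForm n F q u v := G.2 u v
  unfold Cfsg.hermForm at h
  rwa [C.hermForm_eq, C.hermForm_eq] at h

end CfsgLib.OreSu
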