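import Cfsg.Agent.Lib.Lie.OreSu.Field
import Cfsg.Agent.Lib.Perm.Elusive.HermIso.Comp

/-!
Polynomials coprime to their dual, in every class and of degree two and three.
-/

set_option autoImplicit false
set_option linter.unusedSectionVars false

namespace CfsgLib.OreSu

open CfsgLib.SU Polynomial Matrix
open CfsgLib.Perm.Elusive.HermIso (dualPoly)

variable {F : Type*} [Field F] {q : ℕ} (C : UCtx F q)
variable {ι κ : Type*} [Fintype ι] [DecidableEq ι] [Fintype κ] [DecidableEq κ]

/-- the adjoint of a matrix -/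
def ad {α β : Type*} (A : Matrix α β F) : Matrix β α F := (A.map C.bar)ᵀ

theorem ad_mul {α β γ : Type*} [Fintype β] (A : Matrix α β F) (B : Matrix β γ F) :
    ad C (A * B) = ad C B * ad C A := by
  rw [ad, Matrix.map_mul, Matrix.transpose_mul]; rfl

theorem ad_one : ad C (1 : Matrix ι ι F) = 1 := by simp [ad]

theorem ad_ad {α β : Type*} (A : Matrix α β F) : ad C (ad C A) = A := by
  ext i j; simp [ad, C.bar_bar]

theorem ad_add {α β : Type*} (A B : Matrix α β F) : ad C (A + B) = ad C A + ad C B := by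
  ext i j; simp [ad]

theorem ad_sub {α β : Type*} (A B : Matrix α β F) : ad C (A - B) = ad C A - ad C B := by
  ext i j; simp [ad]

theorem ad_neg {α β : Type*} (A : Matrix α β F) : ad C (-A) = -ad C A := by
  ext i j; simp [ad]

theorem ad_zero {α β : Type*} : ad C (0 : Matrix α β F) = 0 := by
  ext i j; simp [ad]

theorem ad_smul {α β : Type*} (c : F) (A : Matrix α β F) : ad C (c • A) = C.bar c • ad C A := by
  ext i j; simp [ad]

theorem det_ad (A : Matrix ι ι F) : (ad C A).det = C.bar A.det := by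
  rw [ad, Matrix.det_transpose]
  exact (RingHom.map_det (C.bar : F →+* F) A).symm

theorem ad_pow (A : Matrix ι ι F) : ∀ i : ℕ, ad C (A ^ i) = ad C A ^ i
  | 0 => by simp [ad_one]
  | i + 1 => by rw [pow_succ, ad_mul, ad_pow A i, pow_succ']

theorem ad_aeval (A : Matrix ι ι F) (p : F[X]) :
    ad C (aeval A p) = aeval (ad C A) (p.map (C.bar : F →+* F)) := by
  induction p using Polynomial.induction_on' with
  | add a b ha hb => rw [Polynomial.map_add, map_add, map_add, ad_add, ha, hb]
  | monomial n c =>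
    rw [map_monomial, aeval_monomial, aeval_monomial, ← Algebra.smul_def, ← Algebra.smul_def,
      ad_smul, ad_pow]
    rfl

theorem aeval_dualPoly (A : Matrix ι ι F) (p : F[X]) :
    aeval A (dualPoly C p) =
      ∑ i ∈ Finset.range (p.natDegree + 1), C.bar (p.coeff i) • A ^ (p.natDegree - i) := by
  have hdeg : (dualPoly C p).natDegree < p.natDegree + 1 :=
    Nat.lt_succ_of_le ((reverse_natDegree_le _).trans natDegree_map_le)
  rw [aeval_eq_sum_range' hdeg, ← Finset.sum_range_reflect]
  refine Finset.sum_congr rfl fun a ha => ?_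
  have ha' : a ≤ p.natDegree := Nat.lt_succ_iff.1 (Finset.mem_range.1 ha)
  rw [show p.natDegree + 1 - 1 - a = p.natDegree - a by omega, dualPoly, coeff_reverse,
    natDegree_map_eq_of_injective (C.bar : F →+* F).injective, coeff_map, revAt_le (Nat.sub_le _ _),
    Nat.sub_sub_self ha']
  rfl

/-- coprime to the dual -/
def Safe (p : F[X]) : Prop := IsCoprime p (dualPoly C p)

theorem dualPoly_mul (f g : F[X]) : dualPoly C (f * g) = dualPoly C f * dualPoly C g := by
  rw [dualPoly, Polynomial.map_mul, reverse_mul_of_domain]; rfl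

theorem dualPoly_one : dualPoly C (1 : F[X]) = 1 := by
  rw [dualPoly, Polynomial.map_one, ← map_one Polynomial.C, reverse_C]

theorem dualPoly_prod {α : Type*} (s : Finset α) (f : α → F[X]) :
    dualPoly C (∏ i ∈ s, f i) = ∏ i ∈ s, dualPoly C (f i) := by
  classical
  induction s using Finset.induction_on with
  | empty => rw [Finset.prod_empty, Finset.prod_empty, dualPoly_one]
  | insert a s ha ih => rw [Finset.prod_insert ha, Finset.prod_insert ha, dualPoly_mul, ih]

theorem dualPoly_pow (f : F[X]) (N : ℕ) : dualPoly C (f ^ N) = dualPoly C f ^ N := by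
  induction N with
  | zero => rw [pow_zero, pow_zero, dualPoly_one]
  | succ N ih => rw [pow_succ, pow_succ, dualPoly_mul, ih]

variable {C}

theorem Safe.pow {p : F[X]} (h : Safe C p) (N : ℕ) : Safe C (p ^ N) := by
  rw [Safe, dualPoly_pow]; exact IsCoprime.pow h

theorem Safe.map_bar {p : F[X]} (h : Safe C p) : Safe C (p.map (C.bar : F →+* F)) := by
  have e : dualPoly C (p.map (C.bar : F →+* F)) = (dualPoly C p).map (C.bar : F →+* F) := by
    rw [dualPoly, dualPoly, reverse, reverse, natDegree_map_eq_of_injective (C.bar : F →+* F).injective]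
    exact reflect_map _ _ _
  rw [Safe, e]
  exact IsCoprime.map h (Polynomial.mapRingHom (C.bar : F →+* F))

theorem dual_right_inv {p : F[X]} (h : Safe C p) {A : Matrix ι ι F} (hA : aeval A p = 0) :
    ∃ K : Matrix ι ι F, aeval A (dualPoly C p) * K = 1 := by
  obtain ⟨a, b, hab⟩ := h
  refine ⟨aeval A b, ?_⟩
  have := congrArg (fun P => aeval A P) hab
  simp only [map_add, map_mul, hA, mul_zero, zero_add, map_one] at this
  rw [← map_mul, mul_comm, map_mul]
  exact this

/-- no non-zero matrix is fixed by the congruence of `A` -/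
theorem eq_zero_left {p : F[X]} (h : Safe C p) {A : Matrix ι ι F} (hA : aeval A p = 0)
    {S : Matrix ι ι F} (hS : ad C A * S * A = S) : S = 0 := by
  have hpow : ∀ i : ℕ, ad C A ^ i * S * A ^ i = S := by
    intro i
    induction i with
    | zero => simp
    | succ i ih =>
      rw [pow_succ, pow_succ', show ad C A ^ i * ad C A * S * (A * A ^ i) =
        ad C A ^ i * (ad C A * S * A) * A ^ i by simp only [Matrix.mul_assoc], hS, ih]
  obtain ⟨K, hK⟩ := dual_right_inv h hA
  have h0 : S * aeval A (dualPoly C p) = 0 := by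
    have h1 : aeval (ad C A) (p.map (C.bar : F →+* F)) * (S * A ^ p.natDegree) = 0 := by
      rw [← ad_aeval, hA, ad_zero, Matrix.zero_mul]
    rw [aeval_eq_sum_range, natDegree_map_eq_of_injective (C.bar : F →+* F).injective,
      Matrix.sum_mul] at h1
    rw [aeval_dualPoly, Matrix.mul_sum, ← h1]
    refine Finset.sum_congr rfl fun i hi => ?_
    have hi' : i ≤ p.natDegree := Nat.lt_succ_iff.1 (Finset.mem_range.1 hi)
    rw [coeff_map, smul_mul_assoc, mul_smul_comm]
    congr 1
    calc S * A ^ (p.natDegree - i) = ad C A ^ i * S * A ^ i * A ^ (p.natDegree - i) := by rw [hpow]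
      _ = _ := by
        rw [Matrix.mul_assoc _ (A ^ i), ← pow_add, Nat.add_sub_cancel' hi', Matrix.mul_assoc]
  calc S = S * (aeval A (dualPoly C p) * K) := by rw [hK, Matrix.mul_one]
    _ = 0 := by rw [← Matrix.mul_assoc, h0, Matrix.zero_mul]

theorem eq_zero_right {p : F[X]} (h : Safe C p) {A : Matrix ι ι F} (hA : aeval A p = 0)
    {S : Matrix ι ι F} (hS : A * S * ad C A = S) : S = 0 := by
  refine eq_zero_left h.map_bar (A := ad C A) ?_ ?_
  · rw [← ad_aeval, hA, ad_zero]
  · rwa [ad_ad]

theorem intertwine {a : Matrix κ κ F} {A : Matrix ι ι F} {Q : Matrix κ ι F} (h : a * Q = Q * A) (p : F[X]) :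
    aeval a p * Q = Q * aeval A p := by
  induction p using Polynomial.induction_on' with
  | add x y hx hy => rw [map_add, map_add, Matrix.add_mul, Matrix.mul_add, hx, hy]
  | monomial n c =>
    have hn : a ^ n * Q = Q * A ^ n := by
      induction n with
      | zero => simp
      | succ n ih =>
        rw [pow_succ, Matrix.mul_assoc, h, ← Matrix.mul_assoc, ih, Matrix.mul_assoc, ← pow_succ]
    rw [aeval_monomial, aeval_monomial, ← Algebra.smul_def, ← Algebra.smul_def, Matrix.smul_mul,
      Matrix.mul_smul, hn]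

theorem eq_zero_side {p : F[X]} {a : Matrix κ κ F} {A : Matrix ι ι F} {Q : Matrix κ ι F}
    (ha : IsUnit (aeval a p)) (hA : aeval A p = 0) (h : a * Q = Q * A) : Q = 0 := by
  obtain ⟨u, hu⟩ := ha
  have h0 : (u : Matrix κ κ F) * Q = 0 := by rw [hu, intertwine h p, hA, Matrix.mul_zero]
  calc Q = ((↑u⁻¹ : Matrix κ κ F) * (u : Matrix κ κ F)) * Q := by rw [u.inv_mul, Matrix.one_mul]
    _ = 0 := by rw [Matrix.mul_assoc, h0, Matrix.mul_zero]

theorem safe_linear {x : F} (h : x * C.bar x ≠ 1) : Safe C (X - Polynomial.C x) := by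
  refine (irreducible_X_sub_C x).coprime_iff_not_dvd.2 fun hd => h ?_
  have e : dualPoly C (X - Polynomial.C x) = 1 - Polynomial.C (C.bar x) * X := by
    rw [dualPoly, Polynomial.map_sub, map_X, map_C, reverse, natDegree_X_sub_C, reflect_sub]
    simp [reflect_C, reflect_one_X]
  rw [dvd_iff_isRoot, IsRoot.def, e] at hd
  simp only [eval_sub, eval_one, eval_mul, eval_C, eval_X] at hd
  linear_combination -hd

/-- a polynomial killed at a diagonal matrix of elements of norm one -/
theorem safe_eval_ne {p : F[X]} (h : Safe C p) {t : F} (ht : t * C.bar t = 1) : p.eval t ≠ 0 := by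
  intro h0
  obtain ⟨a, b, hab⟩ := h
  have h1 := congrArg (Polynomial.eval t) hab
  rw [eval_add, eval_mul, eval_mul, h0, mul_zero, zero_add, eval_one] at h1
  have h2 : (dualPoly C p).eval t = 0 := by
    haveI : Invertible t⁻¹ := invertibleOfNonzero (inv_ne_zero (norm_one_ne C ht))
    have h := eval₂_reverse_eq_zero_iff (RingHom.id F) t⁻¹ (p.map (C.bar : F →+* F))
    rw [invOf_eq_inv, inv_inv] at h
    rw [dualPoly, ← eval₂_id]
    refine h.2 ?_
    have e : t⁻¹ = (C.bar : F →+* F) t := (eq_inv_of_mul_eq_one_right ht).symm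
    rw [eval₂_id, e, eval_map, eval₂_hom, h0, map_zero]
  rw [h2, mul_zero] at h1
  exact zero_ne_one h1

variable (C)

section Existence

theorem coeff_dualPoly (g : F[X]) {i : ℕ} (hi : i ≤ g.natDegree) :
    (dualPoly C g).coeff i = C.bar (g.coeff (g.natDegree - i)) := by
  rw [dualPoly, coeff_reverse, natDegree_map_eq_of_injective (C.bar : F →+* F).injective, coeff_map,
    revAt_le hi]
  rfl

theorem natDegree_dualPoly {g : F[X]} (h0 : g.coeff 0 ≠ 0) : (dualPoly C g).natDegree = g.natDegree := by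
  rw [dualPoly, reverse_natDegree, natDegree_map_eq_of_injective (C.bar : F →+* F).injective]
  have : (g.map (C.bar : F →+* F)).natTrailingDegree = 0 :=
    natTrailingDegree_eq_zero.2 (Or.inr (by rw [coeff_map]; exact (map_ne_zero C.bar).2 h0))
  rw [this, Nat.sub_zero]

theorem dualPoly_dualPoly {g : F[X]} (h0 : g.coeff 0 ≠ 0) : dualPoly C (dualPoly C g) = g := by
  have hd := natDegree_dualPoly C h0
  ext i
  by_cases hi : i ≤ g.natDegree
  · rw [coeff_dualPoly C _ (hd.symm ▸ hi), hd, coeff_dualPoly C _ (Nat.sub_le _ _),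
      Nat.sub_sub_self hi, C.bar_bar]
  · rw [coeff_eq_zero_of_natDegree_lt (p := g) (not_le.1 hi)]
    refine coeff_eq_zero_of_natDegree_lt ?_
    calc (dualPoly C (dualPoly C g)).natDegree ≤ _ := (reverse_natDegree_le _).trans natDegree_map_le
      _ = g.natDegree := hd
      _ < i := not_le.1 hi

/-- monic, irreducible, not its own dual -/
def Atom (g : F[X]) : Prop :=
  g.Monic ∧ Irreducible g ∧ g.coeff 0 ≠ 0 ∧ ¬ g ∣ dualPoly C g

/-- equal constant classes and degrees are needed for a common dual factor -/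
theorem atom_coprime {f g : F[X]} (hf : Atom C f) (hg : Atom C g)
    (h : f.natDegree = g.natDegree → psi C (f.coeff 0) = psi C (g.coeff 0) → f = g) :
    IsCoprime f (dualPoly C g) := by
  obtain ⟨hfm, hfi, hf0, hfd⟩ := hf
  obtain ⟨hgm, hgi, hg0, hgd⟩ := hg
  refine hfi.coprime_iff_not_dvd.2 fun hdvd => ?_
  have hne : dualPoly C g ≠ 0 := fun e => hg0 (by rw [← dualPoly_dualPoly C hg0, e]; simp [dualPoly])
  have hle : f.natDegree ≤ g.natDegree := natDegree_dualPoly C hg0 ▸ natDegree_le_of_dvd hdvd hne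
  obtain ⟨w, hw⟩ := hdvd
  rcases hle.lt_or_eq with hlt | heq
  · have hd : dualPoly C f ∣ g := ⟨dualPoly C w, by rw [← dualPoly_mul, ← hw, dualPoly_dualPoly C hg0]⟩
    obtain ⟨u, hu⟩ := hd
    rcases hgi.isUnit_or_isUnit hu with h1 | h1
    · have h2 := natDegree_eq_zero_of_isUnit h1
      rw [natDegree_dualPoly C hf0] at h2
      exact (Nat.pos_iff_ne_zero.1 hfi.natDegree_pos) h2
    · have h2 := congrArg natDegree hu
      rw [natDegree_mul (left_ne_zero_of_mul (hu ▸ hgi.ne_zero)) h1.ne_zero,
        natDegree_eq_zero_of_isUnit h1, natDegree_dualPoly C hf0] at h2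
      omega
  · have hw0 : w ≠ 0 := fun e => hne (by rw [hw, e, mul_zero])
    have hdw : w.natDegree = 0 := by
      have h2 := congrArg natDegree hw
      rw [natDegree_mul hfi.ne_zero hw0, natDegree_dualPoly C hg0] at h2
      omega
    obtain ⟨u, rfl⟩ : ∃ u, w = Polynomial.C u := ⟨_, eq_C_of_natDegree_eq_zero hdw⟩
    have h0 : (1 : F) = f.coeff 0 * u := by
      have := congrArg (fun P => P.coeff 0) hw
      simpa [coeff_dualPoly, hgm.coeff_natDegree, mul_coeff_zero] using this
    have h1 : C.bar (g.coeff 0) = u := by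
      have := congrArg (fun P => P.coeff g.natDegree) hw
      rw [coeff_dualPoly C _ le_rfl, Nat.sub_self, coeff_mul_C, ← heq, hfm.coeff_natDegree, one_mul] at this
      exact this
    have hfg : f = g := h heq (by
      have e : f.coeff 0 = (C.bar (g.coeff 0))⁻¹ := by
        rw [h1]; exact eq_inv_of_mul_eq_one_left h0.symm
      rw [e, psi, psi, map_inv₀, C.bar_bar, inv_div_inv])
    exact hgd ⟨Polynomial.C u, by rw [hw, hfg]⟩

variable [Fintype F] (hF : Fintype.card F = q ^ 2)
include hF

/-- a monic quadratic with fixed coefficients has a root -/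
theorem exists_root_fixed (a b : F) (ha : C.bar a = a) (hb : C.bar b = b) :
    ∃ y : F, y ^ 2 + a * y + b = 0 := by
  let K : Subfield F := CfsgLib.Descent.fixedField C.bar
  let p : K[X] := X ^ 2 + Polynomial.C (⟨a, ha⟩ : K) * X + Polynomial.C ⟨b, hb⟩
  have hpd : p.natDegree = 2 := by simp only [p]; compute_degree!
  by_contra hno
  have hirr : Irreducible p := by
    refine irreducible_of_degree_le_three_of_not_isRoot (by rw [hpd]; simp) fun y hy => hno ⟨y, ?_⟩
    have := congrArg Subtype.val hy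
    simpa [p] using this
  haveI : Fact (Irreducible p) := ⟨hirr⟩
  haveI : Finite (AdjoinRoot p) := by
    haveI := (AdjoinRoot.powerBasis hirr.ne_zero).finite
    exact Module.finite_of_finite K
  have h2 : Module.finrank K F = 2 := by
    have h := CfsgLib.Descent.card_fixedField_pow C.bar
    rw [C.order_two] at h
    have h' := Module.natCard_eq_pow_finrank (K := K) (V := F)
    rw [Nat.card_eq_fintype_card (α := F), ← h] at h'
    exact (Nat.pow_right_injective Finite.one_lt_card h').symm
  obtain ⟨e⟩ := (FiniteField.nonempty_algHom_iff_finrank_dvd (F := K) (K := AdjoinRoot p) (L := F)).2 (by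
    rw [(AdjoinRoot.powerBasis hirr.ne_zero).finrank, AdjoinRoot.powerBasis_dim, hpd, h2])
  refine hno ⟨e (AdjoinRoot.root p), ?_⟩
  have h := congrArg e (AdjoinRoot.eval₂_root p)
  rw [map_zero, ← AdjoinRoot.algebraMap_eq, ← aeval_def, ← aeval_algHom_apply] at h
  generalize e (AdjoinRoot.root p) = r at h ⊢
  simp only [p, map_add, map_pow, map_mul, aeval_X, aeval_C] at h
  exact h

theorem exists_atom_two {t : F} (ht : t * C.bar t = 1) :
    ∃ g : F[X], Atom C g ∧ g.natDegree = 2 ∧ psi C (g.coeff 0) = t := by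
  classical
  obtain ⟨c, hc0, hc⟩ := exists_psi C ht
  obtain ⟨a, ha⟩ : ∃ a, a ∉ (Finset.univ.filter fun r : F => r ≠ 0).image fun r => -(r + c / r) := by
    by_contra hall
    simp only [not_exists, not_not] at hall
    have h := Finset.card_le_card (fun a _ => hall a : (Finset.univ : Finset F) ⊆ _)
    have h2 := h.trans Finset.card_image_le
    rw [Finset.filter_ne', Finset.card_erase_of_mem (Finset.mem_univ _), Finset.card_univ] at h2
    have := Fintype.card_pos (α := F)
    omega
  have hno : ∀ r : F, r ^ 2 + a * r + c ≠ 0 := by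
    intro r hr
    have hr0 : r ≠ 0 := fun e => hc0 (by rw [e] at hr; simpa using hr)
    refine ha (Finset.mem_image.2 ⟨r, Finset.mem_filter.2 ⟨Finset.mem_univ _, hr0⟩, ?_⟩)
    field_simp
    linear_combination -hr
  set g : F[X] := X ^ 2 + Polynomial.C a * X + Polynomial.C c with hg
  have hgd : g.natDegree = 2 := by rw [hg]; compute_degree!
  have hgm : g.Monic := by rw [hg]; monicity!
  have hg0 : g.coeff 0 = c := by simp [hg]
  have hg1 : g.coeff 1 = a := by simp [hg]
  refine ⟨g, ⟨hgm, ?_, hg0.symm ▸ hc0, fun hdvd => ?_⟩, hgd, hg0.symm ▸ hc⟩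
  · exact irreducible_of_degree_le_three_of_not_isRoot (by rw [hgd]; simp) fun r hr => hno r (by
      simpa [hg] using hr)
  obtain ⟨w, hw⟩ := hdvd
  have hne : dualPoly C g ≠ 0 := fun e => hc0 (by
    have h := dualPoly_dualPoly C (g := g) (hg0.symm ▸ hc0)
    rw [e] at h; rw [← hg0, ← h]; simp [dualPoly])
  obtain ⟨u, rfl⟩ : ∃ u, w = Polynomial.C u := by
    refine ⟨_, eq_C_of_natDegree_eq_zero ?_⟩
    have hw0 : w ≠ 0 := fun e => hne (by rw [hw, e, mul_zero])
    have h2 := congrArg natDegree hw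
    rw [natDegree_mul hgm.ne_zero hw0, natDegree_dualPoly C (hg0.symm ▸ hc0)] at h2
    omega
  have hcf : ∀ i, i ≤ 2 → C.bar (g.coeff (2 - i)) = g.coeff i * u := fun i hi => by
    rw [← coeff_mul_C, ← hw, coeff_dualPoly C _ (hgd.symm ▸ hi), hgd]
  have h2 : C.bar c = u := by simpa [hg0, hg1, hgm.coeff_natDegree, ← hgd] using hcf 2 le_rfl
  have h0 : 1 = c * u := by
    have h := hcf 0 (Nat.zero_le _)
    rw [Nat.sub_zero, ← hgd, hgm.coeff_natDegree, map_one, hg0] at h
    exact h
  have h1 : C.bar a = a * u := by simpa [hg1] using hcf 1 (by norm_num)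
  obtain ⟨w, hw0, hwc⟩ := exists_psi C (t := c) (by rw [h2]; exact h0.symm)
  have hwb := bar_ne C hw0
  have hcw : w = c * C.bar w := by rw [← hwc, psi, div_mul_cancel₀ _ hwb]
  obtain ⟨y, hy⟩ := exists_root_fixed C hF (a / w) (c / w ^ 2)
    (by rw [map_div₀, h1, ← h2, div_eq_div_iff hwb hw0]
        have hcc : C.bar c * c = 1 := by rw [h2, mul_comm, ← h0]
        linear_combination a * C.bar c * hcw + a * C.bar w * hcc)
    (by rw [map_div₀, map_pow, div_eq_div_iff (pow_ne_zero _ hwb) (pow_ne_zero _ hw0)]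
        have hcc : C.bar c * c = 1 := by rw [h2, mul_comm, ← h0]
        linear_combination C.bar c * (w + c * C.bar w) * hcw + c * C.bar w ^ 2 * hcc)
  exact hno (w * y) (by
    field_simp at hy
    linear_combination hy)

theorem exists_atom_three {t : F} (ht : t * C.bar t = 1) :
    ∃ g : F[X], Atom C g ∧ g.natDegree = 3 ∧ psi C (g.coeff 0) = t := by
  classical
  obtain ⟨c, hc0, hc⟩ := exists_psi C ht
  obtain ⟨θ, hθ⟩ := C.exists_not_fixed
  have hθ0 : θ ≠ 0 := fun e => hθ (by rw [e, map_zero])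
  have hθ1 : θ - 1 ≠ 0 := fun e => hθ (by rw [sub_eq_zero.1 e, map_one])
  obtain ⟨a, ha⟩ : ∃ a : F, (1 + a + c) * θ = θ ^ 3 + a * θ ^ 2 + c := by
    refine ⟨((1 + c) * θ - θ ^ 3 - c) / (θ * (θ - 1)), ?_⟩
    field_simp
    ring
  let f : F → F := fun r => -(r ^ 3 + a * r ^ 2 + c) / r
  let bad : F := C.bar a * c
  obtain ⟨b, hb, hbad⟩ : ∃ b, b ∉ (((Finset.univ.filter fun r : F => r ≠ 0).erase θ).image f) ∧ b ≠ bad := by
    by_contra hall
    have hsub : (Finset.univ : Finset F) ⊆
        insert bad (((Finset.univ.filter fun r : F => r ≠ 0).erase θ).image f) := by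
      intro b _
      rw [Finset.mem_insert]
      by_contra hb
      exact hall ⟨b, fun h => hb (Or.inr h), fun h => hb (Or.inl h)⟩
    have h := (Finset.card_le_card hsub).trans (Finset.card_insert_le _ _)
    have h2 := h.trans (Nat.succ_le_succ Finset.card_image_le)
    rw [Finset.card_univ, Finset.filter_ne', Finset.card_erase_of_mem
      (Finset.mem_erase.2 ⟨hθ0, Finset.mem_univ _⟩), Finset.card_erase_of_mem (Finset.mem_univ _),
      Finset.card_univ, Nat.succ_eq_add_one] at h2
    have : 3 ≤ Fintype.card F := by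
      have := Finset.card_le_univ ({0, 1, θ} : Finset F)
      rw [Finset.card_eq_three.2 ⟨0, 1, θ, zero_ne_one, Ne.symm hθ0, Ne.symm (sub_ne_zero.1 hθ1), rfl⟩] at this
      exact this
    omega
  have hno : ∀ r : F, r ^ 3 + a * r ^ 2 + b * r + c ≠ 0 := by
    intro r hr
    have hr0 : r ≠ 0 := fun e => hc0 (by rw [e] at hr; simpa using hr)
    have hrb : f r = b := by simp only [f]; field_simp; linear_combination -hr
    by_cases hrθ : r = θ
    · refine hb (Finset.mem_image.2 ⟨1, Finset.mem_erase.2 ⟨Ne.symm (sub_ne_zero.1 hθ1),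
        Finset.mem_filter.2 ⟨Finset.mem_univ _, one_ne_zero⟩⟩, ?_⟩)
      rw [← hrb, hrθ]
      simp only [f]
      field_simp
      linear_combination -ha
    · exact hb (Finset.mem_image.2 ⟨r, Finset.mem_erase.2 ⟨hrθ, Finset.mem_filter.2 ⟨Finset.mem_univ _, hr0⟩⟩, hrb⟩)
  set g : F[X] := X ^ 3 + Polynomial.C a * X ^ 2 + Polynomial.C b * X + Polynomial.C c with hg
  have hgd : g.natDegree = 3 := by rw [hg]; compute_degree!
  have hgm : g.Monic := by rw [hg]; monicity!
  have hg0 : g.coeff 0 = c := by simp [hg]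
  have hg1 : g.coeff 1 = b := by simp [hg, coeff_X_pow]
  have hg2 : g.coeff 2 = a := by simp [hg, coeff_X_pow, coeff_X]
  refine ⟨g, ⟨hgm, ?_, hg0.symm ▸ hc0, fun hdvd => hbad ?_⟩, hgd, hg0.symm ▸ hc⟩
  · exact irreducible_of_degree_le_three_of_not_isRoot (by rw [hgd]; simp) fun r hr => hno r (by
      simpa [hg] using hr)
  obtain ⟨w, hw⟩ := hdvd
  have hne : dualPoly C g ≠ 0 := fun e => hc0 (by
    have h := dualPoly_dualPoly C (g := g) (hg0.symm ▸ hc0)
    rw [e] at h; rw [← hg0, ← h]; simp [dualPoly])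
  obtain ⟨u, rfl⟩ : ∃ u, w = Polynomial.C u := by
    refine ⟨_, eq_C_of_natDegree_eq_zero ?_⟩
    have hw0 : w ≠ 0 := fun e => hne (by rw [hw, e, mul_zero])
    have h2 := congrArg natDegree hw
    rw [natDegree_mul hgm.ne_zero hw0, natDegree_dualPoly C (hg0.symm ▸ hc0)] at h2
    omega
  have hcf : ∀ i, i ≤ 3 → C.bar (g.coeff (3 - i)) = g.coeff i * u := fun i hi => by
    rw [← coeff_mul_C, ← hw, coeff_dualPoly C _ (hgd.symm ▸ hi), hgd]
  have h0 : 1 = c * u := by
    have h := hcf 0 (Nat.zero_le _)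
    rw [Nat.sub_zero, ← hgd, hgm.coeff_natDegree, map_one, hg0] at h
    exact h
  have h1 : C.bar a = b * u := by simpa [hg1, hg2] using hcf 1 (by norm_num)
  show b = C.bar a * c
  linear_combination b * h0 - c * h1

end Existence

end CfsgLib.OreSu
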