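import Cfsg.Agent.Lib.Lie.OreSu.Finish

/-!
The scalars of determinant one are commutators.
-/

set_option autoImplicit false
set_option linter.unusedSectionVars false

namespace CfsgLib.OreSu

open CfsgLib.SU Polynomial Matrix

variable {F : Type*} [Field F] [Fintype F] {q n : ℕ} (C : UCtx F q)
variable {κ : Type*} [Fintype κ] [DecidableEq κ]

theorem iso_of_ad {Z : Matrix (Fin n) (Fin n) F} (h : ad C Z * Z = 1) (u v : Fin n → F) :
    C.form (Z *ᵥ u) (Z *ᵥ v) = C.form u v := by
  have key' : Zᵀ * Z.map C.bar = 1 := by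
    have h' := congrArg Matrix.transpose h
    rw [Matrix.transpose_mul, Matrix.transpose_one] at h'
    exact h'
  have hv : (fun i => C.bar ((Z *ᵥ v) i)) = (Z.map C.bar) *ᵥ (fun i => C.bar (v i)) := by
    funext i
    simp [Matrix.mulVec, dotProduct, map_sum, map_mul]
  show (Z *ᵥ u) ⬝ᵥ (fun i => C.bar ((Z *ᵥ v) i)) = u ⬝ᵥ fun i => C.bar (v i)
  rw [hv, Matrix.dotProduct_mulVec, Matrix.vecMul_mulVec, key', Matrix.vecMul_one]

theorem ad_mul_unitary {A B : Matrix κ κ F} (hA : ad C A * A = 1) (hB : ad C B * B = 1) :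
    ad C (A * B) * (A * B) = 1 := by
  rw [ad_mul, Matrix.mul_assoc, ← Matrix.mul_assoc (ad C A), hA, Matrix.one_mul, hB]

/-- the commutator from a twisted commutation -/
theorem scalar_of_pair {G : Cfsg.SU n F q} {c : F} (hG : G.1.1 = c • (1 : Matrix (Fin n) (Fin n) F))
    {a b : Matrix (Fin n) (Fin n) F} (ha : ad C a * a = 1) (hb : ad C b * b = 1) (hda : a.det = 1)
    (hdb : b.det = 1) (hrel : a * (c • (1 : Matrix (Fin n) (Fin n) F)) * b = b * a) :
    ∃ x y : Cfsg.SU n F q, G = x * y * x⁻¹ * y⁻¹ := by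
  set A : Cfsg.SU n F q := C.mkSU a hda (iso_of_ad C ha)
  set B : Cfsg.SU n F q := C.mkSU b hdb (iso_of_ad C hb)
  have h : A * G * B = B * A := Subtype.ext (Subtype.ext (by
    show a * G.1.1 * b = b * a
    rw [hG]; exact hrel))
  refine ⟨A⁻¹, B, ?_⟩
  calc G = A⁻¹ * (A * G * B) * B⁻¹ := by group
    _ = _ := by rw [h]; group

theorem exists_sq_add_sq_fixed (h2 : (-1 : F) ≠ 1) {f : F} (hf : C.bar f = f) :
    ∃ a b : F, C.bar a = a ∧ C.bar b = b ∧ a ^ 2 + b ^ 2 = f := by
  classical
  let K : Subfield F := CfsgLib.Descent.fixedField C.bar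
  have hodd : Fintype.card K % 2 = 1 := by
    refine FiniteField.odd_card_of_char_ne_two fun hc => h2 ?_
    have h : (2 : K) = 0 := by
      have h := ringChar.Nat.cast_ringChar (R := K)
      rw [hc] at h; exact_mod_cast h
    have h' : (2 : F) = 0 := by simpa [map_ofNat] using congrArg K.subtype h
    linear_combination -h'
  obtain ⟨a, b, hab⟩ := FiniteField.exists_root_sum_quadratic (R := K) (f := X ^ 2 - Polynomial.C ⟨f, hf⟩)
    (g := X ^ 2) (degree_X_pow_sub_C two_pos _) (degree_X_pow 2) hodd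
  refine ⟨a.1, b.1, a.2, b.2, ?_⟩
  have h := congrArg Subtype.val hab
  simp only [eval_sub, eval_pow, eval_X, eval_C] at h
  push_cast at h
  linear_combination h

/-- a determinant-one scalar -/
theorem scalar_case (G : Cfsg.SU n F q) {c : F} (hG : G.1.1 = c • (1 : Matrix (Fin n) (Fin n) F))
    (hGad : ad C G.1.1 * G.1.1 = 1) (hn : 2 ≤ n) : ∃ x y : Cfsg.SU n F q, G = x * y * x⁻¹ * y⁻¹ := by
  classical
  obtain ⟨i0⟩ : Nonempty (Fin n) := ⟨⟨0, by omega⟩⟩
  have hcn : c * C.bar c = 1 := by
    have h := congrFun (congrFun hGad i0) i0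
    rw [hG, ad_smul, ad_one, Matrix.smul_mul, Matrix.one_mul, smul_smul, Matrix.smul_apply,
      Matrix.one_apply_eq, smul_eq_mul, mul_one, mul_comm] at h
    exact h
  have hcN : c ^ n = 1 := by
    have h := G.1.2
    rw [hG, det_smul, det_one, mul_one, Fintype.card_fin] at h
    exact h
  by_cases hx : c ^ (∑ i : Fin n, (i : ℕ)) = 1
  · obtain ⟨a, b, ha, hb, hbd, hrel, hav⟩ := exists_cycle C (fun _ : Fin n => c) (fun _ => hcn)
      (by rw [Finset.prod_const, Finset.card_univ, Fintype.card_fin, hcN]) (Equiv.refl (Fin n))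
    have hada : ∀ t, a t = c ^ (t : ℕ) := fun t => by
      rw [hav, Finset.prod_const]
      congr 1
      rw [show Finset.univ.filter (fun i : Fin n => (i : ℕ) < ((Equiv.refl (Fin n)) t : ℕ)) = Finset.Iio t by
        ext i; simp, Fin.card_Iio]
    set s : F := (-1) ^ (n - 1) with hs
    have hsn : s * C.bar s = 1 := by
      rw [hs, map_pow, map_neg, map_one, ← mul_pow, neg_mul_neg, one_mul, one_pow]
    set E : Matrix (Fin n) (Fin n) F := diagonal fun t => if t = i0 then s else 1 with hE
    have hEu : ad C E * E = 1 := unitary_diag C fun t => by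
      split_ifs
      · exact hsn
      · rw [map_one, mul_one]
    refine scalar_of_pair C hG (a := diagonal a) (b := b * E) (unitary_diag C ha) (ad_mul_unitary C hb hEu) ?_ ?_ ?_
    · rw [det_diagonal, Finset.prod_congr rfl fun t _ => hada t, Finset.prod_pow_eq_pow_sum, hx]
    · rw [det_mul, hbd, hE, det_diagonal, Finset.prod_ite_eq', if_pos (Finset.mem_univ _), hs, ← pow_add,
        ← two_mul, pow_mul, neg_one_sq, one_pow]
    · rw [show c • (1 : Matrix (Fin n) (Fin n) F) = diagonal fun _ => c from smul_one_eq_diagonal c,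
        ← Matrix.mul_assoc, hrel, Matrix.mul_assoc, Matrix.mul_assoc b E,
        show diagonal a * E = E * diagonal a by
          rw [hE, diagonal_mul_diagonal, diagonal_mul_diagonal]
          exact congrArg diagonal (funext fun t => mul_comm _ _)]
  -- the determinant of the diagonal solution is minus one
  have hS : (∑ i : Fin n, (i : ℕ)) * 2 = n * (n - 1) := by
    rw [Fin.sum_univ_eq_sum_range (fun i => i) n]; exact Finset.sum_range_id_mul_two n
  have hx2 : c ^ (∑ i : Fin n, (i : ℕ)) = -1 := by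
    refine (mul_self_eq_one_iff.1 ?_).resolve_left hx
    rw [← pow_two, ← pow_mul, hS, pow_mul, hcN, one_pow]
  have h2 : (-1 : F) ≠ 1 := fun h => hx (hx2.trans h)
  obtain ⟨k, hk⟩ : ∃ k, n = 2 * k := by
    rcases Nat.even_or_odd n with ⟨k, hk⟩ | ⟨k, hk⟩
    · exact ⟨k, by omega⟩
    · exfalso
      refine hx ?_
      have e : (∑ i : Fin n, (i : ℕ)) = n * k := by
        have : (∑ i : Fin n, (i : ℕ)) * 2 = n * k * 2 := by
          rw [hS, hk, show 2 * k + 1 - 1 = 2 * k by omega]; ring
        omega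
      rw [e, pow_mul, hcN, one_pow]
  have hk0 : 0 < k := by omega
  have hck : c ^ k = -1 := by
    have h1 : (c ^ k) * (c ^ k) = 1 := by rw [← pow_add, ← two_mul, ← hk, hcN]
    refine (mul_self_eq_one_iff.1 h1).resolve_left fun h => h2 ?_
    have e : (∑ i : Fin n, (i : ℕ)) = k * (n - 1) := by
      have : (∑ i : Fin n, (i : ℕ)) * 2 = k * (n - 1) * 2 := by
        rw [hS]; nth_rewrite 1 [hk]; ring
      omega
    rw [← hx2, e, pow_mul, h, one_pow]
  -- the two-dimensional pieces
  set A : Matrix (Fin 2) (Fin 2) F := !![0, c; 1, 0] with hA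
  have hAu : ad C A * A = 1 := by
    ext i j
    fin_cases i <;> fin_cases j <;> simp [hA, ad, Matrix.mul_apply, Fin.sum_univ_two, mul_comm (C.bar c), hcn]
  have hAd : A.det = -c := by simp [hA, Matrix.det_fin_two]
  obtain ⟨p, s, hdet, horth, hnorm⟩ : ∃ p s : F, -(p * p) + c * s * s = 1 ∧
      C.bar p * c * s + C.bar s * p = 0 ∧ p * C.bar p + s * C.bar s = 1 := by
    rcases Nat.even_or_odd k with ⟨l, hl⟩ | ⟨l, hl⟩
    · have hi : c ^ l * c ^ l = -1 := by rw [← pow_add, ← hl, hck]
      refine ⟨c ^ l, 0, by linear_combination -hi, by simp, ?_⟩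
      rw [map_pow, map_zero, mul_zero, add_zero, ← mul_pow, hcn, one_pow]
    · set d := (-c) ^ (l + 1) with hd
      have hcd : c = -(d * d) := by
        rw [hd, ← pow_add, show l + 1 + (l + 1) = k + 1 by omega, pow_succ, neg_pow c k, hck,
          Odd.neg_one_pow ⟨l, hl⟩]
        ring
      have hdn : d * C.bar d = 1 := by
        rw [hd, map_pow, map_neg, ← mul_pow, neg_mul_neg, hcn, one_pow]
      have hd0 : d ≠ 0 := left_ne_zero_of_mul_eq_one hdn
      obtain ⟨δ, hδ0, hδ⟩ := C.exists_trace_zero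
      have hδb : C.bar δ = -δ := eq_neg_of_add_eq_zero_right hδ
      have hN0 : δ * C.bar δ ≠ 0 := mul_ne_zero hδ0 (bar_ne C hδ0)
      obtain ⟨a, b, ha, hb, hab⟩ := exists_sq_add_sq_fixed C h2 (f := (δ * C.bar δ)⁻¹)
        (by rw [map_inv₀, C.norm_fixed])
      have hab' : δ * C.bar δ * (a ^ 2 + b ^ 2) = 1 := by rw [hab, mul_inv_cancel₀ hN0]
      rw [hδb] at hab'
      refine ⟨δ * a, δ * b * C.bar d, ?_, ?_, ?_⟩
      · rw [hcd]
        linear_combination hab' - δ ^ 2 * b ^ 2 * (d * C.bar d + 1) * hdn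
      · rw [map_mul, map_mul, map_mul, ha, hb, C.bar_bar, hδb, hcd]
        linear_combination δ ^ 2 * a * b * d * hdn
      · rw [map_mul, map_mul, map_mul, ha, hb, C.bar_bar, hδb]
        linear_combination hab' - δ ^ 2 * b ^ 2 * hdn
  set E : Matrix (Fin 2) (Fin 2) F := !![p, -(c * s); s, -p] with hEdef
  have hEu : ad C E * E = 1 := by
    have hbc : C.bar c * c = 1 := by rw [mul_comm]; exact hcn
    have horth' := congrArg C.bar horth
    simp only [map_add, map_mul, map_zero, C.bar_bar] at horth'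
    ext i j
    fin_cases i <;> fin_cases j <;> simp [hEdef, ad, Matrix.mul_apply, Fin.sum_univ_two]
    · linear_combination hnorm
    · linear_combination -horth
    · linear_combination -horth'
    · linear_combination hnorm + s * C.bar s * hbc
  have hEd : E.det = 1 := by
    rw [hEdef, Matrix.det_fin_two_of]
    linear_combination hdet
  have hEA : E * A = -(A * E) := by
    ext i j
    fin_cases i <;> fin_cases j <;> simp [hEdef, hA, Matrix.mul_apply, Fin.sum_univ_two] <;> ring
  -- the blocks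
  set P : Matrix (Fin k) (Fin k) F := (finRotate k).permMatrix F with hP
  set Ej : Fin k → Matrix (Fin 2) (Fin 2) F := fun j => if (j : ℕ) = 0 then E else 1 with hEj
  set a0 : Matrix (Fin 2 × Fin k) (Fin 2 × Fin k) F := blockDiagonal fun j => c ^ (j : ℕ) • A with ha0
  set T : Matrix (Fin 2 × Fin k) (Fin 2 × Fin k) F :=
    Matrix.reindex (Equiv.prodComm _ _) (Equiv.prodComm _ _) (blockDiagonal fun _ : Fin 2 => P) with hT
  set b0 := T * blockDiagonal Ej with hb0
  have had : ∀ M : Fin k → Matrix (Fin 2) (Fin 2) F, ad C (blockDiagonal M) = blockDiagonal fun j => ad C (M j) :=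
    fun M => by rw [ad, blockDiagonal_map _ _ (map_zero C.bar), blockDiagonal_transpose]; rfl
  have hau : ad C a0 * a0 = 1 := by
    rw [ha0, had, ← blockDiagonal_mul, ← blockDiagonal_one]
    congr 1
    funext j
    rw [ad_smul, Matrix.smul_mul, Matrix.mul_smul, smul_smul, hAu, map_pow, ← mul_pow, mul_comm (C.bar c), hcn,
      one_pow, one_smul]
    rfl
  have hTu : ad C T * T = 1 := by
    have h1 : ad C T = Matrix.reindex (Equiv.prodComm _ _) (Equiv.prodComm _ _)
        (blockDiagonal fun _ : Fin 2 => ad C P) := by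
      rw [hT]
      ext ⟨i, j⟩ ⟨i', j'⟩
      simp [ad, blockDiagonal_apply, eq_comm]
      split_ifs <;> simp_all
    rw [h1, hT, ← Matrix.coe_reindexAlgEquiv (R := F), ← map_mul, ← blockDiagonal_mul]
    rw [show (fun _ : Fin 2 => ad C P * P) = (1 : Fin 2 → Matrix (Fin k) (Fin k) F) from
      funext fun _ => permMatrix_ad C _, blockDiagonal_one, map_one]
  have hbu : ad C b0 * b0 = 1 := by
    refine ad_mul_unitary C hTu ?_
    rw [had, ← blockDiagonal_mul, ← blockDiagonal_one]
    congr 1
    funext j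
    simp only [hEj]
    split_ifs
    · exact hEu
    · rw [ad_one, Matrix.one_mul]; rfl
  have had1 : a0.det = 1 := by
    rw [ha0, det_blockDiagonal]
    simp only [det_smul, Fintype.card_fin, hAd]
    rw [Finset.prod_mul_distrib, Finset.prod_const, Finset.card_univ, Fintype.card_fin]
    have e : ∏ j : Fin k, (c ^ (j : ℕ)) ^ 2 = (c ^ k) ^ (k - 1) := by
      rw [Finset.prod_pow, Finset.prod_pow_eq_pow_sum, ← pow_mul, Fin.sum_univ_eq_sum_range (fun i => i) k,
        Finset.sum_range_id_mul_two, pow_mul]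
    rw [e, neg_pow c k, hck]
    obtain ⟨k', rfl⟩ : ∃ k', k = k' + 1 := ⟨k - 1, by omega⟩
    rw [Nat.add_sub_cancel, pow_succ, mul_neg_one, mul_neg_one, neg_neg, ← pow_add, ← two_mul, pow_mul, neg_one_sq,
      one_pow]
  have hbd1 : b0.det = 1 := by
    rw [hb0, det_mul, hT, Matrix.det_reindex_self, det_blockDiagonal, det_blockDiagonal, hP, Matrix.det_permutation,
      Fin.prod_univ_two, sign_finRotate]
    have e : ∀ j, (Ej j).det = 1 := fun j => by
      simp only [hEj]; split_ifs
      · exact hEd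
      · exact det_one
    rw [Finset.prod_eq_one fun j _ => e j]
    push_cast
    rw [mul_one, ← pow_add, ← two_mul, pow_mul, neg_one_sq, one_pow]
  have hrel : a0 * (c • (1 : Matrix (Fin 2 × Fin k) (Fin 2 × Fin k) F)) * b0 = b0 * a0 := by
    have hTapp : ∀ x y : Fin 2 × Fin k, T x y = if x.1 = y.1 then P x.2 y.2 else 0 := fun x y => by
      simp [hT, blockDiagonal_apply, Matrix.reindex_apply]
    have hPapp : ∀ i j : Fin k, P i j = if finRotate k i = j then 1 else 0 := fun i j => by
      simp [hP, Equiv.Perm.permMatrix, PEquiv.toMatrix_apply, Equiv.toPEquiv_apply]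
    have hb0app : ∀ x y : Fin 2 × Fin k, b0 x y = if finRotate k x.2 = y.2 then Ej y.2 x.1 y.1 else 0 := by
      rintro ⟨i, j⟩ ⟨i', j'⟩
      rw [hb0, Matrix.mul_apply, Fintype.sum_prod_type]
      simp only [hTapp, hPapp, blockDiagonal_apply]
      rw [Finset.sum_eq_single i (fun x _ hx => by simp [hx.symm]) (by simp), Finset.sum_eq_single j'
        (fun x _ hx => by simp [hx]) (by simp)]
      simp
    ext ⟨i, j⟩ ⟨i', j'⟩
    rw [Matrix.mul_smul, Matrix.mul_one, Matrix.smul_mul, Matrix.smul_apply, Matrix.mul_apply, Matrix.mul_apply,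
      Fintype.sum_prod_type, Fintype.sum_prod_type, ha0]
    simp only [hb0app, blockDiagonal_apply, Matrix.smul_apply, smul_eq_mul]
    rw [Finset.mul_sum]
    by_cases h : finRotate k j = j'
    · have e1 : ∀ x : Fin 2, c * ∑ y : Fin k, (if j = y then c ^ (j : ℕ) * A i x else 0) *
          (if finRotate k y = j' then Ej j' x i' else 0) = c * (c ^ (j : ℕ) * A i x * Ej j' x i') := fun x => by
        rw [Finset.sum_eq_single j (fun y _ hy => by simp [Ne.symm hy]) (by simp), if_pos rfl, if_pos h]
      have e2 : ∀ x : Fin 2, ∑ y : Fin k, (if finRotate k j = y then Ej y i x else 0) *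
          (if y = j' then c ^ (y : ℕ) * A x i' else 0) = Ej j' i x * (c ^ (j' : ℕ) * A x i') := fun x => by
        rw [Finset.sum_eq_single j' (fun y _ hy => by simp [hy]) (by simp), if_pos h, if_pos rfl]
      rw [Finset.sum_congr rfl fun x _ => e1 x, Finset.sum_congr rfl fun x _ => e2 x]
      simp only [Fin.sum_univ_two]
      by_cases hj0 : (j' : ℕ) = 0
      · have hjk : (j : ℕ) + 1 = k := by
          obtain ⟨k', rfl⟩ : ∃ k', k = k' + 1 := ⟨k - 1, by omega⟩
          have hv := congrArg Fin.val h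
          rw [coe_finRotate, hj0] at hv
          by_cases hl : j = Fin.last k'
          · simp [hl]
          · rw [if_neg hl] at hv; omega
        have hcj : c * c ^ (j : ℕ) = -1 := by rw [← pow_succ', hjk, hck]
        have hEA' := congrFun (congrFun hEA i) i'
        simp only [Matrix.neg_apply, Matrix.mul_apply, Fin.sum_univ_two] at hEA'
        simp only [hEj, hj0, if_true, pow_zero]
        linear_combination (A i 0 * E 0 i' + A i 1 * E 1 i') * hcj - hEA'
      · have hjv : (j' : ℕ) = j + 1 := by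
          obtain ⟨k', rfl⟩ : ∃ k', k = k' + 1 := ⟨k - 1, by omega⟩
          have hv := congrArg Fin.val h
          rw [coe_finRotate] at hv
          split_ifs at hv with hl
          · exact absurd hv.symm hj0
          · omega
        have hE1 : Ej j' = 1 := if_neg hj0
        rw [hE1, hjv, pow_succ']
        fin_cases i <;> fin_cases i' <;> simp [Matrix.one_apply, Fin.ext_iff] <;> ring
    · have e1 : ∀ x : Fin 2, c * ∑ y : Fin k, (if j = y then c ^ (j : ℕ) * A i x else 0) *
          (if finRotate k y = j' then Ej j' x i' else 0) = 0 := fun x => by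
        rw [Finset.sum_eq_single j (fun y _ hy => by simp [Ne.symm hy]) (by simp), if_neg h, mul_zero, mul_zero]
      have e2 : ∀ x : Fin 2, ∑ y : Fin k, (if finRotate k j = y then Ej y i x else 0) *
          (if y = j' then c ^ (y : ℕ) * A x i' else 0) = 0 := fun x => by
        refine Finset.sum_eq_zero fun y _ => ?_
        by_cases hy : y = j'
        · rw [hy, if_neg h, zero_mul]
        · rw [if_neg hy, mul_zero]
      rw [Finset.sum_congr rfl fun x _ => e1 x, Finset.sum_congr rfl fun x _ => e2 x]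
  let e : Fin 2 × Fin k ≃ Fin n := finProdFinEquiv.trans (finCongr hk.symm)
  let φ := Matrix.reindexAlgEquiv F F e
  have hφad : ∀ M, ad C (φ M) = φ (ad C M) := fun M => rfl
  refine scalar_of_pair C hG (a := φ a0) (b := φ b0) ?_ ?_ ?_ ?_ ?_
  · rw [hφad, ← map_mul, hau, map_one]
  · rw [hφad, ← map_mul, hbu, map_one]
  · rw [Matrix.det_reindexAlgEquiv, had1]
  · rw [Matrix.det_reindexAlgEquiv, hbd1]
  · rw [← map_one φ, ← map_smul, ← map_mul, ← map_mul, ← map_mul, hrel]

end CfsgLib.OreSu
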